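import Cfsg.Agent.H583.OdmM23Data
import Cfsg.Agent.H865.ThreeCounts
import Cfsg.Agent.H715.Fpr.MathData
import Cfsg.Agent.H858.OdmRowM22

/-!
# The elements of order 3 of `M23` (helper583)

* `conj_three` : all the elements of order 3 of `M23` are conjugate (to the element `a3`);
* `card_cent_three`, `card_norm_three`, `isReal_three`: every element of order 3 is real, with centralizer of
order 180 and normalizer of order 360;
* `card_fix_three`: it fixes exactly six of the 24 points.
-/

set_option autoImplicit false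

namespace Cfsg.Agent.H583.OdmM23

open Subgroup Cfsg
open Cfsg.Agent.SporadicA.GolayBase Cfsg.Agent.SporadicA.GolayPerm
open Cfsg.Agent.SporadicStructure.M24El Cfsg.Agent.H729.Trans Cfsg.Agent.H729.Count
open Cfsg.Agent.H729.PairMathieu Cfsg.Agent.H865.Three
open Cfsg.Agent.H453.OddM

theorem exists_a3 : ∃ x : Spor.M23, inc23 x = el A := H715.Fpr.MathData.exists_el23 okA (by decide +kernel)

/-- an element of order 3 of `M23` -/
noncomputable def a3 : Spor.M23 := exists_a3.choose

theorem inc_a3 : inc23 a3 = el A := exists_a3.choose_spec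

theorem orderOf_a3 : orderOf a3 = 3 := by
  rw [← H715.Fpr.MathData.order23, inc_a3, H865.ThreeClasses.orderOf_A]

theorem card_cent_a3 : Nat.card (centralizer ({a3} : Set Spor.M23)) = 180 := by
  have hfin : Finite Spor.M23 := Nat.finite_of_card_ne_zero (by rw [H715.Fpr.MathData.card23]; decide)
  apply le_antisymm
  · have h1 := card_cent_le inc23 inc23_injective preA inc_a3 (fun g => st_M23 (by decide +kernel) g)
    rwa [tlA, LA_length] at h1
  · have hL : ∀ P ∈ LA, ok P = true ∧ papp P 23 = 23 ∧ pcomp P A = pcomp A P ∧ pcomp P idP = P := by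
      intro P hP
      have h := List.all_eq_true.1 LA_ok P hP
      rw [Bool.and_eq_true, Bool.and_eq_true, Bool.and_eq_true, Nat.beq_eq, Nat.beq_eq, Nat.beq_eq] at h
      exact ⟨h.1, h.2.1, h.2.2.1, h.2.2.2⟩
    have hex : ∀ P : {P : ℕ // P ∈ LA.toFinset}, ∃ z : Spor.M23, inc23 z = el P.1 := fun P =>
      H715.Fpr.MathData.exists_el23 (hL P.1 (List.mem_toFinset.1 P.2)).1 (hL P.1 (List.mem_toFinset.1 P.2)).2.1
    choose f hf using hex
    have hc : Nat.card {P : ℕ // P ∈ LA.toFinset} = 180 := by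
      rw [Nat.card_eq_fintype_card, Fintype.card_coe, List.toFinset_card_of_nodup LA_nodup, LA_length]
    rw [← hc]
    refine Nat.card_le_card_of_injective (fun P => (⟨f P, ?_⟩ : centralizer ({a3} : Set Spor.M23))) ?_
    · rw [mem_centralizer_singleton_iff]
      apply inc23_injective
      obtain ⟨h1, -, h3, -⟩ := hL P.1 (List.mem_toFinset.1 P.2)
      rw [map_mul, map_mul, hf, inc_a3, ← el_pcomp h1 okA, ← el_pcomp okA h1, h3]
    · intro P Q hPQ
      have h1 : f P = f Q := congrArg Subtype.val hPQ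
      have h2 : el P.1 = el Q.1 := by rw [← hf, ← hf, h1]
      obtain ⟨k1, -, -, k4⟩ := hL P.1 (List.mem_toFinset.1 P.2)
      obtain ⟨l1, -, -, l4⟩ := hL Q.1 (List.mem_toFinset.1 Q.2)
      apply Subtype.ext
      rw [← k4, ← l4]
      apply pcomp_idP_congr
      intro i hi
      have h3 := idx_el_smul k1 (pt i)
      have h4 := idx_el_smul l1 (pt i)
      rw [h2, h4, idx_pt hi] at h3
      exact h3.symm

/-! ### conjugacy -/

/-- elements of the centralizer of `el A` in `M24` moving the six fixed points to `none` -/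
def DL : List ℕ := [idP, 70236186391232940163829832958526176, 44315068639607767585003498882384261,
  48412313851901989755558988011280775, 45694514973030257876671710776405380, 69262827063129630965590039292093846]

theorem DL_ok : (DL.all fun P => ok P && Nat.beq (pcomp P A) (pcomp A P)) = true := by decide +kernel

theorem DL_fix : ∀ p : GolayPt, papp A (idx p) = idx p → ∃ D ∈ DL, papp D (idx p) = 23 := by decide +kernel

theorem exists_move {p : GolayPt} (hp : (el A : Equiv.Perm GolayPt) p = p) :
    ∃ d : M24, d * el A = el A * d ∧ (d : Equiv.Perm GolayPt) p = none := by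
  obtain ⟨D, hD, h⟩ := DL_fix p ((H865.ThreeClasses.fx_el okA p).1 hp)
  have h1 := List.all_eq_true.1 DL_ok D hD
  rw [Bool.and_eq_true, Nat.beq_eq] at h1
  refine ⟨el D, by rw [← el_pcomp h1.1 okA, ← el_pcomp okA h1.1, h1.2], ?_⟩
  have h2 := el_smul_pt h1.1 p
  rw [h] at h2
  exact h2

/-- the elements of order 3 of `M23` are conjugate -/
theorem conj_three {g : Spor.M23} (hg : orderOf g = 3) : ∃ c : Spor.M23, c * g * c⁻¹ = a3 := by
  have hg' : orderOf ((inc23 g : M24) : Equiv.Perm GolayPt) = 3 := by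
    rw [Subgroup.orderOf_coe, H715.Fpr.MathData.order23, hg]
  have hg0 : ((inc23 g : M24) : Equiv.Perm GolayPt) none = none := g.2.2
  obtain ⟨k, hk, h⟩ := H865.ThreeCounts.conj_cases (inc23 g).2 hg'
  have hfix : ∀ {P : ℕ}, k * ((inc23 g : M24) : Equiv.Perm GolayPt) * k⁻¹ = (el P : Equiv.Perm GolayPt) →
      (el P : Equiv.Perm GolayPt) (k none) = k none := by
    intro P h
    rw [← h, Equiv.Perm.mul_apply, Equiv.Perm.mul_apply, show k⁻¹ (k none) = none from Equiv.symm_apply_apply _ _, hg0]
  rcases h with h | h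
  · obtain ⟨d, hd, hd0⟩ := exists_move (hfix h)
    have hk' : (⟨k, hk⟩ : M24) * inc23 g * (⟨k, hk⟩ : M24)⁻¹ = el A := Subtype.ext h
    have hmem : ((d * (⟨k, hk⟩ : M24) : M24) : Equiv.Perm GolayPt) ∈ Spor.M23 :=
      ⟨(d * (⟨k, hk⟩ : M24) : M24).2, hd0⟩
    refine ⟨⟨_, hmem⟩, inc23_injective ?_⟩
    rw [map_mul, map_mul, map_inv, inc_a3]
    change d * ⟨k, hk⟩ * inc23 g * (d * ⟨k, hk⟩)⁻¹ = el A
    calc d * ⟨k, hk⟩ * inc23 g * (d * ⟨k, hk⟩)⁻¹ = d * (⟨k, hk⟩ * inc23 g * (⟨k, hk⟩ : M24)⁻¹) * d⁻¹ := by group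
      _ = d * el A * d⁻¹ := by rw [hk']
      _ = el A := by rw [hd]; group
  · exfalso
    have h1 := hfix h
    have h2 := H865.ThreeCounts.card_fix_B
    rw [Finset.card_eq_zero, Finset.filter_eq_empty_iff] at h2
    exact h2 (Finset.mem_univ _) h1

/-- an element of order 3 of `M23` fixes six of the 24 points -/
theorem card_fix_three {g : Spor.M23} (hg : orderOf g = 3) :
    (Finset.univ.filter fun p => (g : Equiv.Perm GolayPt) p = p).card = 6 := by
  obtain ⟨c, hc⟩ := conj_three hg
  have h1 : (c : Equiv.Perm GolayPt) * (g : Equiv.Perm GolayPt) * (c : Equiv.Perm GolayPt)⁻¹ =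
      (el A : Equiv.Perm GolayPt) := by
    have h2 := congrArg (fun z : M24 => (z : Equiv.Perm GolayPt)) (congrArg inc23 hc)
    rw [inc_a3] at h2
    exact h2
  rw [← H865.ThreeCounts.card_fix_conj (c : Equiv.Perm GolayPt), h1, H865.ThreeCounts.card_fix_A]

/-! ### reality -/

/-- an involution of `M23` inverting `el A` -/
def JA : ℕ := 967323392335001944357420755179412512

theorem JA_ok : ok JA = true := by decide +kernel

theorem isReal_a3 : IsReal a3 := by
  obtain ⟨g, hg⟩ := H715.Fpr.MathData.exists_el23 JA_ok (by decide +kernel)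
  refine ⟨g, ?_⟩
  have h3 : a3 ^ 3 = 1 := by rw [← orderOf_a3]; exact pow_orderOf_eq_one a3
  have h1 : g * a3 = a3 * a3 * g := by
    apply inc23_injective
    rw [map_mul, map_mul, map_mul, inc_a3, hg, ← el_pcomp okA okA, ← el_pcomp JA_ok okA,
      ← el_pcomp (ok_pcomp okA okA) JA_ok,
      Nat.eq_of_beq_eq_true (show Nat.beq (pcomp JA A) (pcomp (pcomp A A) JA) = true by decide +kernel)]
  rw [h1, mul_inv_cancel_right]
  apply eq_inv_of_mul_eq_one_left
  rw [← h3, pow_succ, pow_two]

theorem isReal_three {g : Spor.M23} (hg : orderOf g = 3) : IsReal g := by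
  obtain ⟨c, hc⟩ := conj_three hg
  have h1 : g = c⁻¹ * a3 * (c⁻¹)⁻¹ := by rw [← hc]; group
  rw [h1]
  exact isReal_a3.conj _

theorem card_cent_three {g : Spor.M23} (hg : orderOf g = 3) :
    Nat.card (centralizer ({g} : Set Spor.M23)) = 180 := by
  obtain ⟨c, hc⟩ := conj_three hg
  rw [H968.TwoTool.card_cent_congr (MulAut.conj c) g]
  change Nat.card (centralizer ({c * g * c⁻¹} : Set Spor.M23)) = 180
  rw [hc, card_cent_a3]

theorem card_norm_three {g : Spor.M23} (hg : orderOf g = 3) :
    Nat.card (normalizer ((zpowers g : Subgroup Spor.M23) : Set Spor.M23)) = 3 * 120 := by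
  have hfin : Finite Spor.M23 := Nat.finite_of_card_ne_zero (by rw [H715.Fpr.MathData.card23]; decide)
  rw [H858.OdmRowM22.card_norm_three hg (isReal_three hg), card_cent_three hg]

end Cfsg.Agent.H583.OdmM23
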