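import Cfsg.Agent.H661.SC.NonPrin
import Cfsg.Agent.H633.CentTwo

/-!
# `NoCent 2 G` from the centralizer of a Sylow 2-subgroup (helper583)
-/

set_option autoImplicit false

open Cfsg

namespace Cfsg.Agent.H583.ImcNoCent

open Cfsg.Agent.H625.SylConst

universe u

/-- An element of order prime to `p` whose centralizer has full `p`-part centralizes a Sylow `p`-subgroup. -/
theorem noCent_of_sylow {K : Type u} [Group K] [Finite K] {p : ℕ} [hp : Fact p.Prime]
    (h : ∀ T : Sylow p K, ∀ x : K, (∀ a ∈ (T : Subgroup K), a * x = x * a) → ¬ p ∣ orderOf x → x = 1) :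
    Cfsg.Agent.H661.SC.NoCent p K := by
  intro g hg hle
  set C : Subgroup K := Subgroup.centralizer ({g} : Set K) with hC
  obtain ⟨P⟩ : Nonempty (Sylow p C) := inferInstance
  have h1 : IsPGroup p ((P : Subgroup C).map C.subtype) := P.isPGroup'.map _
  obtain ⟨T, hT⟩ := h1.exists_le_sylow
  have hcP : Nat.card ((P : Subgroup C).map C.subtype) = p ^ (Nat.card C).factorization p := by
    rw [← P.card_eq_multiplicity]
    exact (Nat.card_congr ((P : Subgroup C).equivMapOfInjective _ C.subtype_injective).toEquiv).symm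
  have hcT : Nat.card (T : Subgroup K) = p ^ (Nat.card K).factorization p := T.card_eq_multiplicity
  have hle2 : Nat.card (T : Subgroup K) ≤ Nat.card ((P : Subgroup C).map C.subtype) := by
    rw [hcP, hcT]
    exact Nat.pow_le_pow_right hp.out.pos hle
  have heq : (P : Subgroup C).map C.subtype = (T : Subgroup K) := Subgroup.eq_of_le_of_card_ge hT hle2
  refine h T g ?_ hg
  intro a ha
  rw [← heq] at ha
  obtain ⟨c, -, rfl⟩ := Subgroup.mem_map.1 ha
  exact Subgroup.mem_centralizer_singleton_iff.1 c.2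

theorem noCent_of_CT {K : Type u} [Group K] [Finite K] (h : Cfsg.Agent.H633.CentTwo.CT K) :
    Cfsg.Agent.H661.SC.NoCent 2 K := by
  have hf : Fact (Nat.Prime 2) := ⟨Nat.prime_two⟩
  refine noCent_of_sylow fun T x hx ho => ?_
  exact Cfsg.Agent.H633.CentTwo.eq_one_of_isPGroup (h T)
    (Subgroup.mem_centralizer_iff.2 fun a ha => hx a ha) ho

/-- A second 2-block and `CT` give `IMC 2`. -/
theorem imc_two_of_NB {K : Type u} [Group K] [Finite K] [Fact (Nat.Prime 2)] (h : Cfsg.Agent.H526.OB.NB K)
    (hc : Cfsg.Agent.H633.CentTwo.CT K) : IMC 2 K :=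
  Cfsg.Agent.H661.SC.imc_of_NB2 h (noCent_of_CT hc)

end Cfsg.Agent.H583.ImcNoCent
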