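import Cfsg.Agent.H583.OdmM23Orb
import Cfsg.Agent.H463.Odm.OdmRowM24

/-!
# TEAM ODDM (S4785): the row of `M23` (helper583)

The numeric elimination leaves `|R| = 5760, 1920, 40320, 443520`. By counting the orbits of `R` on the 23 points,
`35 ∤ |R|` and `R` has no element of order 15 (`OdmM23Orb`); for `|R| = 5760` the normalizer of a subgroup of order 5,
for `|R| = 1920` the normalizer of a subgroup of order 3 shows that there is such an element.
-/

set_option autoImplicit false
set_option maxRecDepth 100000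

namespace Cfsg.Agent.H583.OdmM23

open Subgroup Cfsg
open Cfsg.Agent.H453.OddM Cfsg.Agent.H217.Odm

universe u

/-! ### local data -/

theorem norm_p {p c nu : ℕ}
    (h : ∀ {R : Subgroup Spor.M23}, Nat.card R = p →
      Nat.card (centralizer (R : Set Spor.M23)) = c ∧ Nat.card (normalizer (R : Set Spor.M23)) = p * nu) (x : Spor.M23)
    (hx : orderOf x = p) : Nat.card (normalizer ((zpowers x : Subgroup Spor.M23) : Set Spor.M23)) = p * nu :=
  (h (by rw [Nat.card_zpowers, hx])).2

theorem norm5 : ∀ x : Spor.M23, orderOf x = 5 →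
    Nat.card (normalizer ((zpowers x : Subgroup Spor.M23) : Set Spor.M23)) = 5 * 12 :=
  norm_p (c := 15) fun h => H715.Fpr.MathData.cn23_5 h

theorem norm7 : ∀ x : Spor.M23, orderOf x = 7 →
    Nat.card (normalizer ((zpowers x : Subgroup Spor.M23) : Set Spor.M23)) = 7 * 6 :=
  norm_p (c := 14) fun h => H715.Fpr.MathData.cn23_7 h

theorem norm11 : ∀ x : Spor.M23, orderOf x = 11 →
    Nat.card (normalizer ((zpowers x : Subgroup Spor.M23) : Set Spor.M23)) = 11 * 5 :=
  norm_p (c := 11) fun h => H715.Fpr.MathData.cn23_11 h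

theorem norm23 : ∀ x : Spor.M23, orderOf x = 23 →
    Nat.card (normalizer ((zpowers x : Subgroup Spor.M23) : Set Spor.M23)) = 23 * 11 :=
  norm_p (c := 23) fun h => H715.Fpr.MathData.cn23_23 h

theorem real5 : RealP Spor.M23 5 := by
  have : Fact (Nat.Prime 5) := ⟨by norm_num⟩
  obtain ⟨x, hx⟩ := exists_prime_orderOf_dvd_card' (G := Spor.M23) 5 (by rw [card_M23]; norm_num)
  have h := H715.Fpr.MathData.cn23_5 (R := zpowers x) (by rw [Nat.card_zpowers, hx])
  refine realP_of_norm (by norm_num) hx ?_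
  rw [h.2, ← H858.OdmRowM22.cent_zpowers, h.1]
  norm_num

theorem real3 : RealP Spor.M23 3 := ⟨a3, orderOf_a3, isReal_a3⟩

/-! ### commuting elements -/

/-- `g` of prime order `q` normalizes `⟨x⟩`, `x` of prime order `p`, `q ∤ p - 1` -/
theorem commute_of_norm {G : Type*} [Group G] {x g : G} {p q : ℕ} (hp : p.Prime) (hq : q.Prime)
    (hx : orderOf x = p) (hg : orderOf g = q) (hn : g ∈ normalizer ((zpowers x : Subgroup G) : Set G))
    (hqp : ¬ q ∣ p - 1) : x * g = g * x := by
  have := Fact.mk hp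
  have hfin : IsOfFinOrder x := orderOf_pos_iff.1 (by rw [hx]; exact hp.pos)
  obtain ⟨k, hk⟩ := (hfin.mem_powers_iff_mem_zpowers (y := g * x * g⁻¹)).2
    ((mem_normalizer_iff.1 hn x).1 (mem_zpowers x))
  have hk' : g * x * g⁻¹ = x ^ k := hk.symm
  have hpow : ∀ j : ℕ, g ^ j * x * (g ^ j)⁻¹ = x ^ (k ^ j) := by
    intro j
    induction j with
    | zero => simp
    | succ j ih =>
      have h1 : g ^ (j + 1) * x * (g ^ (j + 1))⁻¹ = g * (g ^ j * x * (g ^ j)⁻¹) * g⁻¹ := by
        rw [pow_succ' g]; group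
      have h2 : g * x ^ (k ^ j) * g⁻¹ = (g * x * g⁻¹) ^ (k ^ j) :=
        (map_pow (MulAut.conj g).toMonoidHom x (k ^ j))
      rw [h1, ih, h2, hk', ← pow_mul, pow_succ' k]
  have h1 := hpow q
  rw [← hg, pow_orderOf_eq_one, one_mul, inv_one, mul_one, hg] at h1
  have h2 : (k : ZMod p) ^ q = 1 := by
    have h3 : x ^ (k ^ q) = x ^ 1 := by rw [← h1, pow_one]
    rw [pow_eq_pow_iff_modEq, hx] at h3
    have h4 := (ZMod.natCast_eq_natCast_iff _ _ _).2 h3
    push_cast at h4
    exact h4
  have h3 : (k : ZMod p) ≠ 0 := by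
    intro h0
    rw [h0, zero_pow hq.ne_zero] at h2
    exact zero_ne_one h2
  have h4 : (k : ZMod p) ^ (p - 1) = 1 := ZMod.pow_card_sub_one_eq_one h3
  have h5 : orderOf (k : ZMod p) = 1 := by
    rcases (Nat.dvd_prime hq).1 (orderOf_dvd_of_pow_eq_one h2) with h | h
    · exact h
    · exact absurd (h ▸ orderOf_dvd_of_pow_eq_one h4) hqp
  have h6 : (k : ZMod p) = 1 := orderOf_eq_one_iff.1 h5
  have h7 : x ^ k = x := by
    have h8 : (k : ZMod p) = ((1 : ℕ) : ZMod p) := by rw [h6, Nat.cast_one]
    have h9 := (ZMod.natCast_eq_natCast_iff _ _ _).1 h8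
    have h10 : x ^ k = x ^ 1 := by rw [pow_eq_pow_iff_modEq, hx]; exact h9
    rw [h10, pow_one]
  rw [h7] at hk'
  rw [← hk', inv_mul_cancel_right, hk']

/-- elements of order 3 and 5 commute if one normalizes the other -/
theorem exists_fifteen {R : Subgroup Spor.M23} {x : R} {p q : ℕ} (hp : p.Prime) (hq : q.Prime) (hx : orderOf x = p)
    (hd : q ∣ Nat.card (normalizer ((zpowers x : Subgroup R) : Set R))) (hqp : ¬ q ∣ p - 1) :
    ∃ y z : Spor.M23, y ∈ R ∧ z ∈ R ∧ orderOf y = p ∧ orderOf z = q ∧ y * z = z * y := by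
  have := Fact.mk hq
  obtain ⟨g, hg⟩ := exists_prime_orderOf_dvd_card' (G := normalizer ((zpowers x : Subgroup R) : Set R)) q hd
  rw [← Subgroup.orderOf_coe] at hg
  have h1 := commute_of_norm hp hq hx hg g.2 hqp
  exact ⟨x, ((g : R) : Spor.M23), x.2, (g : R).2, by rw [Subgroup.orderOf_coe, hx], by rw [Subgroup.orderOf_coe, hg],
    congrArg Subtype.val h1⟩

/-! ### the orders -/

theorem not_5760 {R : Subgroup Spor.M23} (hR : RO Spor.M23 R) (hc : Nat.card R = 5760) : False := by
  have D := Pt.of_real hR (by norm_num) (by norm_num) real5 (by norm_num) norm5 true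
  obtain ⟨x, a, hx, ha, had, hmod, h2⟩ := D.exists_a (by rw [hc]; norm_num) (by rw [hc]; norm_num)
  have h3 : a = 12 := by
    have h4 : 4 ∣ a := by
      have h5 : a.factorization 2 = 2 := by
        rw [h2 rfl, show (12 : ℕ) = 2 ^ 2 * 3 by norm_num, Nat.factorization_mul (by norm_num) (by norm_num),
          Nat.Prime.factorization_pow Nat.prime_two, Finsupp.add_apply, Finsupp.single_eq_same,
          Nat.factorization_eq_zero_of_not_dvd (by norm_num)]
      have h6 := Nat.ordProj_dvd a 2
      rw [h5] at h6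
      exact h6
    have h5 : a ≤ 12 := Nat.le_of_dvd (by norm_num) had
    rw [hc] at hmod
    obtain ⟨b, rfl⟩ := h4
    have h6 : b ≤ 3 := by omega
    interval_cases b <;> omega
  rw [h3] at ha
  obtain ⟨y, z, hy, hz, hy5, hz3, hyz⟩ := exists_fifteen (q := 3) (by norm_num) (by norm_num) hx
    (by rw [ha]; norm_num) (by norm_num)
  exact not_fifteen hR (by rw [hc]; norm_num) hy hz hy5 hz3 hyz

theorem not_1920 {R : Subgroup Spor.M23} (hR : RO Spor.M23 R) (hc : Nat.card R = 1920) : False := by
  have D := Pt.of_real hR (by norm_num) (by norm_num) real3 (by norm_num) (fun x hx => card_norm_three hx) true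
  obtain ⟨x, a, hx, ha, had, hmod, h2⟩ := D.exists_a (by rw [hc]; norm_num) (by rw [hc]; norm_num)
  have h3 : a = 40 := by
    have h4 : 8 ∣ a := by
      have h5 : a.factorization 2 = 3 := by
        rw [h2 rfl, show (120 : ℕ) = 2 ^ 3 * 15 by norm_num, Nat.factorization_mul (by norm_num) (by norm_num),
          Nat.Prime.factorization_pow Nat.prime_two, Finsupp.add_apply, Finsupp.single_eq_same,
          Nat.factorization_eq_zero_of_not_dvd (by norm_num)]
      have h6 := Nat.ordProj_dvd a 2
      rw [h5] at h6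
      exact h6
    have h5 : a ≤ 120 := Nat.le_of_dvd (by norm_num) had
    rw [hc] at hmod
    obtain ⟨b, rfl⟩ := h4
    have h6 : b ≤ 15 := by omega
    interval_cases b <;> omega
  rw [h3] at ha
  obtain ⟨y, z, hy, hz, hy5, hz3, hyz⟩ := exists_fifteen (q := 5) (by norm_num) (by norm_num) hx
    (by rw [ha]; norm_num) (by norm_num)
  exact not_fifteen hR (by rw [hc]; norm_num) hz hy hz3 hy5 hyz.symm

/-- the numeric elimination -/
theorem left_m23 : ((left 10200960 [(2, 7), (3, 2), (5, 1), (7, 1), (11, 1), (23, 1)] 5 []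
    [(5, 12, true), (7, 6, false), (11, 5, false), (23, 11, false)] []).all fun g =>
      Nat.beq g.2 5760 || (Nat.beq g.2 1920 || (Nat.beq g.2 40320 || Nat.beq g.2 443520))) = true := by decide +kernel

theorem not_card {R : Subgroup Spor.M23} (hR : RO Spor.M23 R)
    (hc : Nat.card R = 5760 ∨ Nat.card R = 1920 ∨ Nat.card R = 40320 ∨ Nat.card R = 443520) : False := by
  rcases hc with hc | hc | hc | hc
  · exact not_5760 hR hc
  · exact not_1920 hR hc
  · exact not_five_seven hR (by rw [hc]; norm_num) (by rw [hc]; norm_num) (by rw [hc]; norm_num)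
  · exact not_five_seven hR (by rw [hc]; norm_num) (by rw [hc]; norm_num) (by rw [hc]; norm_num)

/-- **The row of `M₂₃`.** -/
theorem row (tab : Cfsg.Agent.OrdDiv.OrderTable.{u}) (known : Cfsg.Agent.H257.El.Known.{u}) {T : Type u} [Group T]
    (h : Cfsg.Spor.IsoM23 T) : Cfsg.Agent.H453.OddM.Row T := by
  obtain ⟨e⟩ := h
  have hc : Nat.card T = 10200960 := by rw [Nat.card_congr e.toEquiv, card_M23]
  have : Finite T := Nat.finite_of_card_ne_zero (by rw [hc]; norm_num)
  have hreal5 : RealP T 5 := realP_congr real5 e.symm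
  have htr : ∀ {p nu : ℕ}, (∀ x : Spor.M23, orderOf x = p →
      Nat.card (normalizer ((zpowers x : Subgroup Spor.M23) : Set Spor.M23)) = p * nu) →
      ∀ x : T, orderOf x = p → Nat.card (normalizer ((zpowers x : Subgroup T) : Set T)) = p * nu := by
    intro p nu H x hx
    rw [H463.OdmM24.card_norm_congr e, H (e x) (by rw [MulEquiv.orderOf_eq, hx])]
  intro R hR
  by_contra hne
  obtain ⟨O, hO, N, hT, g, hg, -, -⟩ := exists_left (n := 10200960)
    (l := [(2, 7), (3, 2), (5, 1), (7, 1), (11, 1), (23, 1)]) (r := 5) (ss := [])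
    (aux := [(5, 12, true), (7, 6, false), (11, 5, false), (23, 11, false)]) (dv := []) tab known hc (by norm_num)
    (hR.cov.dvd hreal5) (fun s hs => absurd hs List.not_mem_nil) (by
      intro x hx
      simp only [List.mem_cons, List.not_mem_nil, or_false] at hx
      rcases hx with rfl | rfl | rfl | rfl
      · exact Pt.of_real hR (by norm_num) (by norm_num) hreal5 (by norm_num) (htr norm5) _
      · exact Pt.of_norm (by norm_num) (by norm_num) (by norm_num) (htr norm7)
      · exact Pt.of_norm (by norm_num) (by norm_num) (by norm_num) (htr norm11)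
      · exact Pt.of_norm (by norm_num) (by norm_num) (by norm_num) (htr norm23))
    (fun d hd => absurd hd List.not_mem_nil) (by decide +kernel) hR.odd_index hne
  have h1 := List.all_eq_true.1 left_m23 _ hg
  simp only [Bool.or_eq_true, Nat.beq_eq] at h1
  have h2 : Nat.card (R.comap e.symm.toMonoidHom) = Nat.card R :=
    Nat.card_congr (e.symm.toEquiv.subtypeEquiv fun _ => Iff.rfl)
  exact not_card (hR.comap e.symm) (by rw [h2]; exact h1)

end Cfsg.Agent.H583.OdmM23
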