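import Mathlib
import Cfsg.Agent.H512.SylNum
import Cfsg.Agent.LieExceptional.SingerCentralizer
import Cfsg.Agent.H728.DghpEig
import Cfsg.Agent.H728.DghpLem
import Cfsg.Agent.Lib.Zsigmondy
import Cfsg.Agent.OddOrderLocal.CyclicSub

/-!
# Sylow numbers of linear groups (helper583, for S3932)

`G → SL_N(K)` injective, `q = |K|`.
* `dvd_sylow_split` : `p ∣ q - 1`, `r` of order `|N|` : `ord_r q = |N| < p` : `p` divides the number of Sylow `r`-subgroups;
* `dvd_sylow_char` : `ord_p q = |N|` : `p` divides the number of Sylow `ℓ`-subgroups, `ℓ` the characteristic.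
-/

set_option autoImplicit false
set_option linter.unusedSectionVars false

namespace Cfsg.Agent.H583.SylLin

open Subgroup Module Cfsg.Agent.H512.SylNum

variable {G : Type*} [Group G] [Finite G] {K : Type*} [Field K] [Fintype K] {N : Type*} [Fintype N] [DecidableEq N]

/-- the linear representation -/
noncomputable def lin (φ : G →* GL N K) : G →* Module.End K (N → K) :=
  (Matrix.toLinAlgEquiv' (R := K) (n := N) : Matrix N N K →* Module.End K (N → K)).comp ((Units.coeHom _).comp φ)

theorem lin_apply (φ : G →* GL N K) (g : G) (v : N → K) : lin φ g v = (φ g : Matrix N N K).mulVec v := rfl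

theorem lin_injective {φ : G →* GL N K} (hφ : Function.Injective φ) : Function.Injective (lin φ) := by
  intro a b h
  apply hφ
  apply Units.ext
  exact (Matrix.toLinAlgEquiv' (R := K) (n := N)).injective h

theorem finrank_eq : finrank K (N → K) = Fintype.card N := Module.finrank_fintype_fun_eq_card K

theorem ord_facts {r : ℕ} (h : orderOf ((Fintype.card K : ℕ) : ZMod r) = Fintype.card N) :
    (r ∣ Nat.card K ^ finrank K (N → K) - 1) ∧
      ∀ d, 0 < d → d < finrank K (N → K) → ¬ r ∣ Nat.card K ^ d - 1 := by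
  rw [finrank_eq, Nat.card_eq_fintype_card]
  have hq : 1 ≤ Fintype.card K := Fintype.card_pos
  constructor
  · rw [Lib.Zsigmondy.dvd_pow_sub_one_iff hq, h]
  · intro d hd hdn hr
    rw [Lib.Zsigmondy.dvd_pow_sub_one_iff hq, h] at hr
    exact absurd (Nat.le_of_dvd hd hr) (by omega)

variable {φ : G →* GL N K} (hφ : Function.Injective φ)

include hφ

theorem isCyclic_centralizer {r : ℕ} (hr : r.Prime) (hord : orderOf ((Fintype.card K : ℕ) : ZMod r) = Fintype.card N)
    {x : G} (hx : orderOf x = r) : IsCyclic (centralizer ({x} : Set G)) :=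
  LieExceptional.SingerCentralizer.isCyclic_centralizer (lin φ) (lin_injective hφ) hr hx (ord_facts hord).1
    (ord_facts hord).2

/-- no element of order `p ∣ q - 1` commutes with `x` -/
theorem ne_of_split (hdet : ∀ g, (φ g : Matrix N N K).det = 1) {r p : ℕ} (hr : r.Prime) (hp : p.Prime)
    (hord : orderOf ((Fintype.card K : ℕ) : ZMod r) = Fintype.card N) (hNp : Fintype.card N < p)
    (hN0 : 0 < Fintype.card N) (hpK : p ∣ Fintype.card K - 1) {x a : G} (hx : orderOf x = r) (ha : orderOf a = p) :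
    a * x ≠ x * a := by
  classical
  intro hax
  have hpf : Fact p.Prime := ⟨hp⟩
  -- in `GL`
  have hcyc : IsCyclic (centralizer ({φ x} : Set (GL N K))) :=
    isCyclic_centralizer (φ := MonoidHom.id (GL N K)) Function.injective_id hr hord
      (by rw [orderOf_injective φ hφ, hx])
  obtain ⟨ζ, hζ⟩ := exists_prime_orderOf_dvd_card' (G := Kˣ) p (by
    rw [Nat.card_eq_fintype_card, Fintype.card_units]
    exact hpK)
  let s : Kˣ →* GL N K := Units.map (algebraMap K (Matrix N N K)).toMonoidHom
  have hsv : ∀ t : Kˣ, ((s t : GL N K) : Matrix N N K) = algebraMap K (Matrix N N K) (t : K) := fun t => rfl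
  have hNe : Nonempty N := Fintype.card_pos_iff.1 hN0
  have hsi : Function.Injective s := by
    intro t u h
    apply Units.ext
    apply (algebraMap K (Matrix N N K)).injective
    exact congrArg (fun g : GL N K => (g : Matrix N N K)) h
  have hz1 : zpowers (φ a) = zpowers (s ζ) := by
    refine Cfsg.Agent.OddOrderLocal.CyclicSub.eq_of_card_eq_of_le_cyclic
      (Z := centralizer ({φ x} : Set (GL N K))) hcyc ?_ ?_ ?_
    · rw [zpowers_le, mem_centralizer_singleton_iff, ← map_mul, ← map_mul, hax]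
    · rw [zpowers_le, mem_centralizer_singleton_iff]
      apply Units.ext
      exact Algebra.commutes (ζ : K) ((φ x : GL N K) : Matrix N N K)
    · rw [Nat.card_zpowers, Nat.card_zpowers, orderOf_injective φ hφ, orderOf_injective s hsi, ha, hζ]
  obtain ⟨i, hi⟩ : φ a ∈ zpowers (s ζ) := by rw [← hz1]; exact mem_zpowers _
  have hi' : s (ζ ^ i) = φ a := by rw [map_zpow]; exact hi
  have hd := hdet a
  rw [← hi', hsv, Matrix.algebraMap_eq_diagonal, Matrix.det_diagonal] at hd
  have hd2 : ((ζ ^ i : Kˣ) : K) ^ Fintype.card N = 1 := by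
    rw [← hd]
    simp
  have hd3 : (ζ ^ i) ^ Fintype.card N = 1 := Units.ext (by rw [Units.val_pow_eq_pow_val, hd2, Units.val_one])
  have hd4 : (ζ ^ i) ^ p = 1 := by rw [← zpow_natCast, zpow_comm, zpow_natCast, ← hζ, pow_orderOf_eq_one, one_zpow]
  have hcop : Nat.Coprime (Fintype.card N) p :=
    ((Nat.Prime.coprime_iff_not_dvd hp).2 fun h => by have := Nat.le_of_dvd hN0 h; omega).symm
  have hd5 : ζ ^ i = 1 := by
    rw [← orderOf_eq_one_iff]
    have h1 := Nat.dvd_gcd (orderOf_dvd_of_pow_eq_one hd3) (orderOf_dvd_of_pow_eq_one hd4)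
    rw [hcop] at h1
    exact Nat.dvd_one.1 h1
  rw [hd5, map_one] at hi'
  have ha1 : a = 1 := hφ (by rw [map_one, hi'])
  rw [ha1, orderOf_one] at ha
  exact hp.one_lt.ne ha

/-- elements of order `p` normalising a Sylow `r`-subgroup -/
theorem dvd_sylow_split (hdet : ∀ g, (φ g : Matrix N N K).det = 1) {r p : ℕ} [hrf : Fact r.Prime] [hpf : Fact p.Prime]
    (hrK : (r : K) ≠ 0) (hord : orderOf ((Fintype.card K : ℕ) : ZMod r) = Fintype.card N) (hNp : Fintype.card N < p)
    (hN0 : 0 < Fintype.card N) (hpK : p ∣ Fintype.card K - 1) (hrG : r ∣ Nat.card G) (hpG : p ∣ Nat.card G) :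
    p ∣ Nat.card (Sylow r G) := by
  by_contra hcon
  obtain ⟨P⟩ : Nonempty (Sylow p G) := inferInstance
  obtain ⟨R, hR⟩ := exists_norm (p := p) hcon P.2
  obtain ⟨a, haP, ha, -⟩ := exists_center P.2 (card_sylow_ne_one hpG P)
  obtain ⟨x, hxR, hx, hxc⟩ := exists_center R.2 (card_sylow_ne_one hrG R)
  have hr := hrf.out
  have hp := hpf.out
  have hcyc := isCyclic_centralizer hφ hr hord hx
  have haxR : a * x * a⁻¹ ∈ (R : Subgroup G) := conj_mem hR haP hxR
  have h1 : zpowers (a * x * a⁻¹) = zpowers x := by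
    refine Cfsg.Agent.OddOrderLocal.CyclicSub.eq_of_card_eq_of_le_cyclic
      (Z := centralizer ({x} : Set G)) hcyc ?_ ?_ ?_
    · rw [zpowers_le, mem_centralizer_singleton_iff]
      exact (hxc _ haxR).symm
    · rw [zpowers_le, mem_centralizer_singleton_iff]
    · have e : a * x * a⁻¹ = MulAut.conj a x := rfl
      rw [Nat.card_zpowers, Nat.card_zpowers, e, MulEquiv.orderOf_eq]
  have h2 : a ∈ normalizer (zpowers x : Set G) := by
    rw [mem_normalizer_iff_map_conj_eq, MonoidHom.map_zpowers]
    exact h1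
  have hne : a * x ≠ x * a := ne_of_split hφ hdet hr hp hord hNp hN0 hpK hx ha
  obtain ⟨c, hc, h3⟩ := Cfsg.Agent.H728.DghpLem.act_on_prime hr hp hx ha h2 hne
  have h4 : φ a * φ x * (φ a)⁻¹ = φ x ^ (c : ZMod r).val := by
    rw [← map_mul, ← map_inv, ← map_mul, h3, map_pow]
  have h5 := Cfsg.Agent.H728.DghpEig.lcm_le hr hrK (x := φ a) (y := φ x) (by rw [orderOf_injective φ hφ, hx]) hc h4
  rw [hord] at h5
  have h6 : p ≤ Nat.lcm (Fintype.card N) p := Nat.le_of_dvd (Nat.lcm_pos hN0 hp.pos) (Nat.dvd_lcm_right _ _)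
  omega

/-- `p` with `ord_p q = |N|` and the characteristic -/
theorem dvd_sylow_char {p ℓ : ℕ} [hlf : Fact ℓ.Prime] [hpf : Fact p.Prime] [CharP K ℓ]
    (hord : orderOf ((Fintype.card K : ℕ) : ZMod p) = Fintype.card N) (hN0 : 0 < Fintype.card N)
    (hlG : ℓ ∣ Nat.card G) (hpG : p ∣ Nat.card G) : p ∣ Nat.card (Sylow ℓ G) := by
  by_contra hcon
  obtain ⟨P⟩ : Nonempty (Sylow p G) := inferInstance
  obtain ⟨R, hR⟩ := exists_norm (p := p) hcon P.2
  obtain ⟨a, haP, ha, -⟩ := exists_center P.2 (card_sylow_ne_one hpG P)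
  have hp := hpf.out
  have hR1 := card_sylow_ne_one hlG R
  let ρ := lin φ
  -- the fixed space of `R`
  let W : Submodule K (N → K) :=
    { carrier := {v | ∀ u ∈ (R : Subgroup G), ρ u v = v}
      add_mem' := fun {v w} hv hw u hu => by rw [map_add, hv u hu, hw u hu]
      zero_mem' := fun u _ => map_zero _
      smul_mem' := fun c v hv u hu => by rw [map_smul, hv u hu] }
  have hW1 : W ≠ ⊤ := by
    intro h
    apply hR1
    rw [eq_bot_iff]
    intro u hu
    rw [mem_bot]
    apply lin_injective hφ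
    rw [map_one]
    refine LinearMap.ext fun v => ?_
    have hv : v ∈ W := by rw [h]; trivial
    exact hv u hu
  have hW2 : W ≠ ⊥ := by
    let _ : MulAction ↥(R : Subgroup G) (N → K) :=
      MulAction.compHom (N → K) (ρ.comp (R : Subgroup G).subtype)
    have hsm : ∀ (u : ↥(R : Subgroup G)) (v : N → K), u • v = ρ u v := fun u v => rfl
    have hcard : ℓ ∣ Nat.card (N → K) := by
      have hNe : Nonempty N := Fintype.card_pos_iff.1 hN0
      obtain ⟨n, -, hn⟩ := FiniteField.card K ℓ
      rw [Nat.card_fun, Nat.card_eq_fintype_card (α := K), Nat.card_eq_fintype_card (α := N), hn]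
      exact dvd_pow (dvd_pow_self _ n.ne_zero) hN0.ne'
    obtain ⟨b, hb, hb0⟩ := R.2.exists_fixed_point_of_prime_dvd_card_of_fixed_point (N → K) hcard (a := 0)
      (fun u => by rw [hsm, map_zero])
    intro h
    apply hb0
    have hbW : b ∈ W := fun u hu => hb ⟨u, hu⟩
    rw [h, Submodule.mem_bot] at hbW
    exact hbW.symm
  have hgp : (ρ a) ^ p = 1 := by rw [← map_pow, ← ha, pow_orderOf_eq_one, map_one]
  have hg1 : ρ a ≠ 1 := by
    intro h
    have h1 : a = 1 := lin_injective hφ (by rw [map_one]; exact h)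
    rw [h1, orderOf_one] at ha
    exact hp.one_lt.ne ha
  rcases LieExceptional.SingerCentralizer.invariant_eq_bot_or_top hp hgp hg1 (ord_facts hord).1 (ord_facts hord).2 W
    (fun w hw u hu => by
      have h1 : a⁻¹ * u * a ∈ (R : Subgroup G) := by
        have h2 := conj_mem hR (inv_mem haP) hu
        rwa [inv_inv] at h2
      have h3 : ρ (a⁻¹ * u * a) w = w := hw _ h1
      have h4 : ρ u (ρ a w) = ρ a (ρ (a⁻¹ * u * a) w) := by
        rw [← Module.End.mul_apply, ← Module.End.mul_apply, ← map_mul, ← map_mul]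
        congr 2
        group
      rw [h4, h3]) with h | h
  · exact hW2 h
  · exact hW1 h

end Cfsg.Agent.H583.SylLin
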