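/-
Sectional rank: inheritance by subgroups, quotients and sections.
-/
import Mathlib
import Cfsg.Prelude.Def_CaseTheorems

set_option autoImplicit false

namespace Cfsg.Agent.H583.SecRank

open Cfsg

/-- `p`-rank at most `k` is inherited along injective homomorphisms. -/
theorem pRankLE_of_injective {X Y : Type*} [Group X] [Group Y] {p k : ℕ} (h : PRankLE p k X)
    (f : Y →* X) (hf : Function.Injective f) : PRankLE p k Y := by
  intro A hA hAp
  have h1 := h (A.map f) inferInstance (by
    rintro _ ⟨a, ha, rfl⟩
    rw [← map_pow, hAp a ha, map_one])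
  rwa [Nat.card_congr (A.equivMapOfInjective f hf).toEquiv.symm] at h1

theorem pRankLE_of_mulEquiv {X Y : Type*} [Group X] [Group Y] {p k : ℕ} (h : PRankLE p k X)
    (e : X ≃* Y) : PRankLE p k Y :=
  pRankLE_of_injective h e.symm.toMonoidHom e.symm.injective

/-- The rank bound for an arbitrary section, given as a surjection from a subgroup. -/
theorem pRankLE_of_section {G X : Type*} [Group G] [Group X] {p k : ℕ} (h : SectionalPRankLE p k G)
    {H : Subgroup G} (f : H →* X) (hf : Function.Surjective f) : PRankLE p k X :=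
  pRankLE_of_mulEquiv (h H f.ker) (QuotientGroup.quotientKerEquivOfSurjective f hf)

theorem topSurj {G : Type*} [Group G] :
    Function.Surjective ((Subgroup.topEquiv (G := G)).toMonoidHom) := fun x => ⟨⟨x, trivial⟩, rfl⟩

/-- Sectional `p`-rank at most `k` gives `p`-rank at most `k`. -/
theorem pRankLE {G : Type*} [Group G] {p k : ℕ} (h : SectionalPRankLE p k G) : PRankLE p k G :=
  pRankLE_of_section h (H := ⊤) Subgroup.topEquiv.toMonoidHom topSurj

/-- Sectional rank passes to any group that is a quotient of a subgroup. -/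
theorem sectional_of_section {G X : Type*} [Group G] [Group X] {p k : ℕ} (h : SectionalPRankLE p k G)
    {H : Subgroup G} (f : H →* X) (hf : Function.Surjective f) : SectionalPRankLE p k X := by
  intro K N hN
  -- the preimage of `K`
  let H' : Subgroup G := (K.comap f).map H.subtype
  have hH'H : H' ≤ H := by
    rintro _ ⟨x, -, rfl⟩
    exact x.2
  let g : H' →* K :=
    { toFun := fun x => ⟨f ⟨x, hH'H x.2⟩, by
        obtain ⟨y, hy, hyx⟩ := x.2
        have : (⟨(x : G), hH'H x.2⟩ : H) = y := Subtype.ext hyx.symm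
        rw [this]; exact hy⟩
      map_one' := by
        apply Subtype.ext
        change f ⟨1, _⟩ = 1
        exact map_one f
      map_mul' := by
        intro x y
        apply Subtype.ext
        change f ⟨(x : G) * y, _⟩ = f ⟨x, _⟩ * f ⟨y, _⟩
        rw [← map_mul]; rfl }
  have hg : Function.Surjective g := by
    rintro ⟨y, hy⟩
    obtain ⟨x, rfl⟩ := hf y
    exact ⟨⟨x, ⟨x, hy, rfl⟩⟩, rfl⟩
  exact pRankLE_of_section h ((QuotientGroup.mk' N).comp g)
    ((QuotientGroup.mk'_surjective N).comp hg)

theorem sectional_quotient {G : Type*} [Group G] {p k : ℕ} (h : SectionalPRankLE p k G)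
    (N : Subgroup G) [N.Normal] : SectionalPRankLE p k (G ⧸ N) :=
  sectional_of_section h (H := ⊤) ((QuotientGroup.mk' N).comp Subgroup.topEquiv.toMonoidHom)
    ((QuotientGroup.mk'_surjective N).comp topSurj)

theorem sectional_subgroup {G : Type*} [Group G] {p k : ℕ} (h : SectionalPRankLE p k G)
    (H : Subgroup G) : SectionalPRankLE p k H :=
  sectional_of_section h (MonoidHom.id H) Function.surjective_id

theorem sectional_of_mulEquiv {G X : Type*} [Group G] [Group X] {p k : ℕ} (h : SectionalPRankLE p k G)
    (e : G ≃* X) : SectionalPRankLE p k X :=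
  sectional_of_section h (H := ⊤) (e.toMonoidHom.comp Subgroup.topEquiv.toMonoidHom)
    (e.surjective.comp topSurj)

theorem sectional_of_injective {G X : Type*} [Group G] [Group X] {p k : ℕ} (h : SectionalPRankLE p k G)
    (f : X →* G) (hf : Function.Injective f) : SectionalPRankLE p k X :=
  sectional_of_mulEquiv (sectional_subgroup h f.range) (MonoidHom.ofInjective hf).symm

/-- In a group of sectional `p`-rank at most `k`, a normal subgroup containing all commutators and `p`-th powers has
index at most `p ^ k`. -/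
theorem index_le {G : Type*} [Group G] {p k : ℕ} (h : SectionalPRankLE p k G) (T : Subgroup G) [T.Normal]
    (hc : ∀ a b : G, a * b * a⁻¹ * b⁻¹ ∈ T) (hp : ∀ a : G, a ^ p ∈ T) : T.index ≤ p ^ k := by
  have h1 := pRankLE (sectional_quotient h T) ⊤ (by
    refine ⟨⟨?_⟩⟩
    rintro ⟨a, -⟩ ⟨b, -⟩
    apply Subtype.ext
    obtain ⟨a, rfl⟩ := QuotientGroup.mk_surjective a
    obtain ⟨b, rfl⟩ := QuotientGroup.mk_surjective b
    change (QuotientGroup.mk (a * b) : G ⧸ T) = QuotientGroup.mk (b * a)
    rw [eq_comm, QuotientGroup.eq]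
    have := hc a⁻¹ b⁻¹
    have h2 : (b * a)⁻¹ * (a * b) = a⁻¹ * b⁻¹ * a⁻¹⁻¹ * b⁻¹⁻¹ := by group
    rw [h2]; exact this) (by
    rintro a -
    obtain ⟨a, rfl⟩ := QuotientGroup.mk_surjective a
    rw [← QuotientGroup.mk_pow, QuotientGroup.eq_one_iff]
    exact hp a)
  rw [Subgroup.card_top] at h1
  exact h1

end Cfsg.Agent.H583.SecRank
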