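import Cfsg.Agent.H583.RuFacts
import Cfsg.Agent.H58.Rec.Tools
import Cfsg.Agent.S2077

/-!
# The Rudvalis group is recognizable by its element orders (helper583, row `Ru` of S3484)
-/

set_option autoImplicit false
set_option maxRecDepth 100000

namespace Cfsg.Agent.H583.RecRu

open Subgroup Cfsg Cfsg.Agent.H58.Rec Cfsg.Agent.OrdDiv Cfsg.Agent.H436 Cfsg.Agent.H583.RuFacts
open Cfsg.Agent.SporadicB Cfsg.Agent.H455.Isolated

universe u v

theorem no13 {k : ℕ} (hk : ¬ k ∣ 4) : ¬ HasOrd RuOrder.H (13 * k) := by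
  rintro ⟨g, hg⟩
  have := RuFacts.fin
  have hk0 : k ≠ 0 := by
    rintro rfl
    rw [mul_zero] at hg
    exact absurd hg (orderOf_pos g).ne'
  have h1 : orderOf (g ^ k) = 13 := by
    rw [orderOf_pow_of_dvd hk0 (by rw [hg]; exact dvd_mul_left _ _), hg, Nat.mul_div_cancel _ (Nat.pos_of_ne_zero hk0)]
  have h2 : orderOf g ∣ 13 * 4 :=
    (Subgroup.orderOf_dvd_natCard (centralizer ({g ^ k} : Set RuOrder.H))
      (mem_centralizer_singleton_iff.2 ((Commute.refl g).pow_right k).eq)).trans (H436.TwoRu.cent13 _ h1)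
  rw [hg] at h2
  exact hk (Nat.dvd_of_mul_dvd_mul_left (by norm_num : 0 < 13) h2)

theorem primes {p : ℕ} (hp : p.Prime) (h : p ∣ 145926144000) : p ∈ [2, 3, 5, 7, 13, 29] := by
  have h1 : (145926144000 : ℕ) = 2 ^ 14 * 3 ^ 3 * 5 ^ 3 * 7 * 13 * 29 := by norm_num
  rw [h1] at h
  simp only [hp.dvd_mul] at h
  have key : ∀ {q n : ℕ}, q.Prime → p ∣ q ^ n → p = q := fun hq hd =>
    (Nat.prime_dvd_prime_iff_eq hp hq).1 (hp.dvd_of_dvd_pow hd)
  simp only [List.mem_cons, List.not_mem_nil, or_false]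
  rcases h with ((((h | h) | h) | h) | h) | h
  · exact Or.inl (key Nat.prime_two h)
  · exact Or.inr (Or.inl (key Nat.prime_three h))
  · exact Or.inr (Or.inr (Or.inl (key Nat.prime_five h)))
  · exact Or.inr (Or.inr (Or.inr (Or.inl ((Nat.prime_dvd_prime_iff_eq hp (by norm_num)).1 h))))
  · exact Or.inr (Or.inr (Or.inr (Or.inr (Or.inl ((Nat.prime_dvd_prime_iff_eq hp (by norm_num)).1 h)))))
  · exact Or.inr (Or.inr (Or.inr (Or.inr (Or.inr ((Nat.prime_dvd_prime_iff_eq hp (by norm_num)).1 h)))))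

/-- the primes of the kernel -/
theorem kill {G : Type u} [Group G] [Finite G] (h : Same G RuOrder.H) {X : Type v} [Group X] {π : G →* X}
    {S : Subgroup X} (hr : Red π S 29) (hF : HasFrob S 29 14) {p : ℕ} (hp : p.Prime) (hpG : p ∣ Nat.card G) :
    ¬ p ∣ Nat.card π.ker := by
  have := RuFacts.fin
  have h1 : p ∈ [2, 3, 5, 7, 13, 29] := primes hp (by rw [← card_H]; exact (dvd_of_same h hp).1 hpG)
  simp only [List.mem_cons, List.not_mem_nil, or_false] at h1
  have k7 : ∀ {n : ℕ}, (∃ k, ¬ k ∣ 2 ∧ n = 7 * k) → ¬ HasOrd G n := by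
    rintro n ⟨k, hk, rfl⟩ hG
    exact no7 hk ((h _).1 hG)
  have k13 : ∀ {n : ℕ}, (∃ k, ¬ k ∣ 4 ∧ n = 13 * k) → ¬ HasOrd G n := by
    rintro n ⟨k, hk, rfl⟩ hG
    exact no13 hk ((h _).1 hG)
  rcases h1 with rfl | rfl | rfl | rfl | rfl | rfl
  · exact hr.kill' (by norm_num) (q := 29) (n := 14) (by norm_num) (by norm_num) hF (k7 ⟨4, by norm_num, rfl⟩)
  · exact hr.kill' (by norm_num) (q := 29) (n := 14) (by norm_num) (by norm_num) hF (k7 ⟨6, by norm_num, rfl⟩)
  · exact hr.kill' (by norm_num) (q := 29) (n := 14) (by norm_num) (by norm_num) hF (k7 ⟨10, by norm_num, rfl⟩)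
  · exact hr.kill' (by norm_num) (q := 29) (n := 14) (by norm_num) (by norm_num) hF (k7 ⟨14, by norm_num, rfl⟩)
  · exact hr.kill' (by norm_num) (q := 29) (n := 14) (by norm_num) (by norm_num) hF (k13 ⟨14, by norm_num, rfl⟩)
  · exact hr.not_dvd

theorem list : lst [2, 3, 5, 7, 13, 29] [29] 29 11 = [.ru, .psl 2 29] := by decide +kernel

/-- **The row `Ru`.** -/
theorem rec_H (hN : NameHyp.{u}) {G : Type u} [Group G] [Finite G] (h : Same G RuOrder.H) :
    Nonempty (G ≃* RuOrder.H) := by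
  have := RuFacts.fin
  have hsol : ¬ Group.IsSolvable G := by
    refine not_solvable_of_same h (r := 29) (s := 13) (t := 7) (by norm_num) (by norm_num) (by norm_num) (by norm_num)
      (by norm_num) (by norm_num) (by rw [card_H]; norm_num) (by rw [card_H]; norm_num) (by rw [card_H]; norm_num)
      ?_ ?_ ?_
    · exact no13 (k := 29) (by norm_num)
    · exact no7 (k := 29) (by norm_num)
    · exact no7 (k := 13) (by norm_num)
  have hgood : Good G 29 := good29.of_same h
  obtain ⟨X, _, _, π, S, hred⟩ := exists_red hsol ((dvd_of_same h Nat.prime_two).2 (by rw [card_H]; norm_num)) hgood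
  have hr := hred 29 hgood
  obtain ⟨g, hg, hS⟩ := hr.exists_name hN (ps := [2, 3, 5, 7, 13, 29]) (rs := [29]) (B := 29) (N := 11) (by norm_num)
    (by decide) (by norm_num) (by decide)
    (fun q hq hd => primes hq (by rw [← card_H]; exact (dvd_of_same h hq).1 hd)) (by
      intro q hq
      rw [List.mem_singleton.1 hq]
      exact hr.dvd)
  rw [list] at hg
  simp only [List.mem_cons, List.not_mem_nil, or_false] at hg
  rcases hg with rfl | rfl
  · obtain ⟨e⟩ : Spor.IsoRu S := hS.real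
    have e' : S ≃* RuOrder.H := e.trans RuLat.Main.equiv
    have hk := fun p hp hpG => kill h hr (frob.congr e'.symm) (p := p) hp hpG
    refine finish hr hk e' (Or.inl ?_)
    rw [← Cfsg.Agent.S2077.result]
    exact (Cfsg.Agent.H548.Crit.card_out_congr RuLat.Main.equiv).symm
  · exfalso
    have hn : Nat.card S = 12180 := by rw [hS.ord]; decide +kernel
    have hiso : Isolated S 29 := by
      rw [isolated_iff]
      intro s hs hs29 h1
      exact (isolated_iff.1 hr.iso) s hs hs29 (hr.hasOrd' h1)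
    have hF : HasFrob S 29 14 := by
      refine hasFrob_of_isolated (N := 12180) (by norm_num) hn hiso (by norm_num) (by norm_num) (by norm_num) ?_
      decide +kernel
    have h13 : 13 ∣ Nat.card G := (dvd_of_same h (by norm_num)).2 (by rw [card_H]; norm_num)
    exact hr.absurd_of hn (by norm_num) h13 (kill h hr hF (by norm_num) h13) (by decide +kernel)

/-- **The Rudvalis group is recognizable by its element orders.** -/
theorem rec_ru (hN : NameHyp.{u}) {G : Type u} [Group G] [Finite G] {M : Type v} [Group M] [Finite M]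
    (hM : Spor.IsoRu M) (h : Same G M) : Nonempty (G ≃* M) := by
  obtain ⟨e⟩ := hM
  have e' : M ≃* RuOrder.H := e.trans RuLat.Main.equiv
  have h' : Same G RuOrder.H := fun n => (h n).trans ⟨fun k => k.congr e', fun k => k.congr e'.symm⟩
  obtain ⟨f⟩ := rec_H hN h'
  exact ⟨f.trans e'.symm⟩

end Cfsg.Agent.H583.RecRu
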