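import Cfsg.Agent.H958.Swap.NoSwap
import Cfsg.Agent.H689.Ccp.GTwoGraph

/-!
# `G₂(q)`: an automorphism with `CCP` does not exchange two overgroups of the normalizer of a Sylow subgroup
# in the defining characteristic (helper583, S4114)

* `Std D F` : every automorphism fixing the standard Borel subgroup fixes its overgroups;
* `fix_of_std` : then the same for an arbitrary Sylow subgroup of a group isomorphic to `D.group F`;
* `noswap_g2`.
-/

set_option autoImplicit false
set_option linter.unusedSectionVars false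

namespace Cfsg.Agent.H583.NoSwapG2

open scoped Pointwise
open Subgroup Cfsg Cfsg.Lie Cfsg.Agent.ChevalleyStructure Cfsg.Agent.ChevalleyStructure.Elts
  Cfsg.Agent.H70.ChevFix Cfsg.Agent.H70.ChevField Cfsg.Agent.H70.OutCount Cfsg.Agent.Schreier.ChevLocal
  Cfsg.Agent.H70.PermFix Cfsg.Agent.Schreier.ChevSch Cfsg.Agent.H70.AutFix Cfsg.Agent.ChevalleyStructure.BNChev
  Cfsg.Agent.S1042 Cfsg.Agent.ChevalleyStructure.NConj Cfsg.Agent.H70.ChevTab
open Cfsg.Agent.H331.BF.Chev Cfsg.Agent.H459.Rad Cfsg.Agent.H459.Gallery Cfsg.Agent.H958.Swap Cfsg.Agent.H520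

universe u

section

variable {D : ChevalleyDatum} {F : Type u} [Field F]

/-- automorphisms fixing the standard Borel subgroup fix its overgroups -/
def Std (D : ChevalleyDatum) (F : Type u) [Field F] : Prop :=
  ∀ x : MulAut ↥(D.group F), (∀ b ∈ BB D F, x b ∈ BB D F) → ∀ M : Subgroup ↥(D.group F), BB D F ≤ M →
    ∀ m ∈ M, x m ∈ M

variable [Finite F]

theorem fix_of_std' (hD : InList D) {r : ℕ} [Fact r.Prime] [CharP F r] (h : Std D F)
    {x : MulAut ↥(D.group F)} {U : Sylow r ↥(D.group F)}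
    (hU : ∀ b ∈ normalizer ((U : Subgroup ↥(D.group F)) : Set ↥(D.group F)),
      x b ∈ normalizer ((U : Subgroup ↥(D.group F)) : Set ↥(D.group F)))
    {M : Subgroup ↥(D.group F)} (hM : normalizer ((U : Subgroup ↥(D.group F)) : Set ↥(D.group F)) ≤ M)
    {m : ↥(D.group F)} (hm : m ∈ M) : x m ∈ M := by
  have hfinG : Finite ↥(D.group F) := finite_group D F
  obtain ⟨S, hS⟩ := exists_sylow (F := F) hD (p := r)
  obtain ⟨g, hg⟩ := MulAction.exists_smul_eq ↥(D.group F) S U
  have hUS : (U : Subgroup ↥(D.group F)) = (UU D F).map (MulAut.conj g).toMonoidHom := by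
    rw [← hg, ← hS]
    rfl
  have hN : ∀ y : ↥(D.group F), g * y * g⁻¹ ∈ normalizer ((U : Subgroup ↥(D.group F)) : Set ↥(D.group F)) ↔
      y ∈ BB D F := by
    intro y
    have h1 : normalizer ((U : Subgroup ↥(D.group F)) : Set ↥(D.group F)) =
        (BB D F).map (MulAut.conj g).toMonoidHom := by
      rw [hUS, ← normalizer_UU hD]
      exact (Subgroup.map_equiv_normalizer_eq (UU D F) (MulAut.conj g)).symm
    rw [h1]
    constructor
    · rintro ⟨z, hz, hze⟩
      have : z = y := (MulAut.conj g).injective hze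
      rwa [← this]
    · intro hy
      exact ⟨y, hy, rfl⟩
  have key := h (cx x g) ?_ (M.comap (MulAut.conj g).toMonoidHom) ?_ (g⁻¹ * m * g) ?_
  · have key' : g * (cx x g (g⁻¹ * m * g)) * g⁻¹ ∈ M := key
    have : g * (cx x g (g⁻¹ * m * g)) * g⁻¹ = x m := by
      rw [cx_apply]
      have : g * (g⁻¹ * m * g) * g⁻¹ = m := by group
      rw [this]
      group
    rwa [this] at key'
  · intro b hb
    rw [cx_apply, ← hN]
    have h1 : g * (g⁻¹ * x (g * b * g⁻¹) * g) * g⁻¹ = x (g * b * g⁻¹) := by group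
    rw [h1]
    exact hU _ ((hN b).2 hb)
  · intro b hb
    exact hM ((hN b).2 hb)
  · show g * (g⁻¹ * m * g) * g⁻¹ ∈ M
    have : g * (g⁻¹ * m * g) * g⁻¹ = m := by group
    rwa [this]

theorem fix_of_std (hD : InList D) {r : ℕ} [Fact r.Prime] [CharP F r] (h : Std D F) {K : Type*} [Group K] [Finite K]
    (e : K ≃* ↥(D.group F)) {x : MulAut K} {U : Sylow r K}
    (hU : ∀ b ∈ normalizer ((U : Subgroup K) : Set K), x b ∈ normalizer ((U : Subgroup K) : Set K))
    {M : Subgroup K} (hM : normalizer ((U : Subgroup K) : Set K) ≤ M) {m : K} (hm : m ∈ M) : x m ∈ M := by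
  have hfinG : Finite ↥(D.group F) := finite_group D F
  set U' : Sylow r ↥(D.group F) := U.mapSurjective (f := e.toMonoidHom) e.surjective with hU'
  have hcoe : (U' : Subgroup ↥(D.group F)) = (U : Subgroup K).map e.toMonoidHom := rfl
  have hN : ∀ y : ↥(D.group F), y ∈ normalizer ((U' : Subgroup ↥(D.group F)) : Set ↥(D.group F)) ↔
      e.symm y ∈ normalizer ((U : Subgroup K) : Set K) := by
    intro y
    have h1 : normalizer ((U' : Subgroup ↥(D.group F)) : Set ↥(D.group F)) =
        (normalizer ((U : Subgroup K) : Set K)).map e.toMonoidHom := by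
      rw [hcoe]
      exact (Subgroup.map_equiv_normalizer_eq (U : Subgroup K) e).symm
    rw [h1]
    constructor
    · rintro ⟨z, hz, rfl⟩
      have : e.symm (e.toMonoidHom z) = z := e.symm_apply_apply z
      rw [this]
      exact hz
    · intro hy
      exact ⟨e.symm y, hy, e.apply_symm_apply y⟩
  have key := fix_of_std' hD h (x := tr e x) (U := U') ?_ (M := M.map e.toMonoidHom) ?_ (m := e m) ⟨m, hm, rfl⟩
  · rw [tr_apply, MulEquiv.symm_apply_apply] at key
    obtain ⟨z, hz, hze⟩ := key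
    exact (e.injective hze) ▸ hz
  · intro y hy
    rw [hN] at hy ⊢
    rw [tr_apply, MulEquiv.symm_apply_apply]
    exact hU _ hy
  · intro y hy
    rw [hN] at hy
    exact ⟨e.symm y, hM hy, e.apply_symm_apply y⟩

end

theorem std_g2 {F : Type u} [Field F] [Fintype F] {r : ℕ} [CharP F r] (hr : r ≠ 3) (h4 : 4 ≤ Fintype.card F) :
    Std chevG2 F := by
  classical
  intro x hxB M hM m hm
  by_contra hm'
  have hD : InList chevG2 := by simp [InList]
  obtain ⟨σ₀, σ₁, h⟩ := rel_of_swap hD (by decide) hxB hM ⟨m, hm, hm'⟩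
  have c1 : chevG2.cartan 0 (chevG2.simple 1) = -((3 : ℕ) : ℤ) ∧ chevG2.cartan 1 (chevG2.simple 0) = -1 := by
    decide +kernel
  rw [c1.1, c1.2] at h
  have h1 := false_of_pow σ₀ σ₁ h (by norm_num)
  have h3 : (3 : F) ≠ 0 := by
    intro h3
    have h5 : r ∣ 3 := (CharP.cast_eq_zero_iff F r 3).1 (by exact_mod_cast h3)
    rcases (Nat.dvd_prime (by norm_num)).1 h5 with h6 | h6
    · subst h6
      exact CharP.ringChar_ne_one (R := F) ((CharP.eq F (ringChar.charP F) inferInstance : ringChar F = 1))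
    · exact hr h6
  have h5 : ∀ b : F, b = 0 ∨ b = -1 := by
    intro b
    have h6 : 3 * (b * (b + 1)) = 0 := by
      have h7 := h1 b
      linear_combination h7
    rcases mul_eq_zero.1 ((mul_eq_zero.1 h6).resolve_left h3) with h7 | h7
    · exact Or.inl h7
    · exact Or.inr (eq_neg_of_add_eq_zero_left h7)
  have h6 : (Finset.univ : Finset F) ⊆ {0, -1} := by
    intro b _
    rcases h5 b with h | h <;> simp [h]
  have h7 := Finset.card_le_card h6
  rw [Finset.card_univ] at h7
  have h8 := Finset.card_le_two (a := (0 : F)) (b := -1)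
  omega

/-- an automorphism stabilising a subgroup of a finite group stabilises its normalizer -/
theorem norm_of {G : Type*} [Group G] [Finite G] {α : MulAut G} {U : Subgroup G} (hU : ∀ m ∈ U, α m ∈ U) :
    ∀ b ∈ normalizer (U : Set G), α b ∈ normalizer (U : Set G) := by
  have hmap : U.map α.toMonoidHom = U := by
    refine Subgroup.eq_of_le_of_card_ge ?_ ?_
    · rintro _ ⟨b, hb, rfl⟩
      exact hU b hb
    · exact (Nat.card_congr (U.equivMapOfInjective α.toMonoidHom α.injective).toEquiv).le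
  have h1 : ∀ z : G, α z ∈ U ↔ z ∈ U := by
    intro z
    constructor
    · intro hz
      rw [← hmap] at hz
      obtain ⟨w, hw, hwz⟩ := hz
      exact (α.injective hwz) ▸ hw
    · exact hU z
  intro b hb
  rw [mem_normalizer_iff] at hb ⊢
  intro y
  have h2 : α b * y * (α b)⁻¹ = α (b * α.symm y * b⁻¹) := by
    rw [map_mul, map_mul, map_inv, MulEquiv.apply_symm_apply]
  have h3 : y = α (α.symm y) := (MulEquiv.apply_symm_apply α y).symm
  rw [h2, h1]
  conv_lhs => rw [h3]
  rw [h1]
  exact hb _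

/-- two overgroups exchanged by an automorphism and both fixed by it are equal -/
theorem eq_of_fix_swap {G : Type*} [Group G] [Finite G] {α : MulAut G} {M₁ M₂ : Subgroup G}
    (hsw : ∀ m ∈ M₁, α m ∈ M₂) (hsw' : ∀ m ∈ M₂, α m ∈ M₁) (h1 : ∀ m ∈ M₁, α m ∈ M₁) (h2 : ∀ m ∈ M₂, α m ∈ M₂) :
    M₁ = M₂ := by
  have key : ∀ {A B : Subgroup G}, (∀ m ∈ A, α m ∈ A) → (∀ m ∈ A, α m ∈ B) → A ≤ B := by
    intro A B hA hB
    have hmap : A.map α.toMonoidHom = A := by
      refine Subgroup.eq_of_le_of_card_ge ?_ ?_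
      · rintro _ ⟨b, hb, rfl⟩
        exact hA b hb
      · exact (Nat.card_congr (A.equivMapOfInjective α.toMonoidHom α.injective).toEquiv).le
    intro a ha
    rw [← hmap] at ha
    obtain ⟨b, hb, rfl⟩ := ha
    exact hB b hb
  exact le_antisymm (key h1 hsw) (key h2 hsw')

/-- **An automorphism with `CCP` of `G₂(q)` fixes the overgroups of the normalizer of a Sylow subgroup in the defining
characteristic which it normalises.** -/
theorem fix_g2 {G : Type*} [Group G] [Finite G] {F : Type u} [Field F] [Fintype F] {r : ℕ} [hr : Fact r.Prime]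
    [CharP F r] (hq : 3 ≤ Fintype.card F) (e : G ≃* ↥(chevG2.group F)) {α : MulAut G} (h : CCP α) (U : Sylow r G)
    (hU : ∀ m ∈ (U : Subgroup G), α m ∈ (U : Subgroup G)) {M : Subgroup G}
    (hM : normalizer ((U : Subgroup G) : Set G) ≤ M) : ∀ m ∈ M, α m ∈ M := by
  by_cases h3 : r = 3
  · subst h3
    exact Cfsg.Agent.H689.Ccp.g2_graph e h U hU hM
  · have hD : InList chevG2 := by simp [InList]
    have h4 : 4 ≤ Fintype.card F := by
      by_contra hlt
      have h5 : Fintype.card F = 3 := by omega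
      have h6 : ((3 : ℕ) : F) = 0 := by rw [← h5]; exact Nat.cast_card_eq_zero F
      have h7 : r ∣ 3 := (CharP.cast_eq_zero_iff F r 3).1 h6
      rcases (Nat.dvd_prime (by norm_num)).1 h7 with h8 | h8
      · exact hr.out.one_lt.ne' h8
      · exact h3 h8
    intro m hm
    exact fix_of_std hD (std_g2 h3 h4) e (norm_of hU) hM hm

/-- **`G₂(q)`, `q ≥ 3`: no exchange of two overgroups.** -/
theorem noswap_g2 {G : Type*} [Group G] [Finite G] {F : Type u} [Field F] [Fintype F] {r : ℕ} [Fact r.Prime]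
    [CharP F r] (hq : 3 ≤ Fintype.card F) (e : G ≃* ↥(chevG2.group F)) {α : MulAut G} (h : Cfg α) (U : Sylow r G)
    (hU : ∀ m ∈ (U : Subgroup G), α m ∈ (U : Subgroup G)) (M₁ M₂ : Subgroup G)
    (h1 : normalizer ((U : Subgroup G) : Set G) < M₁) (h2 : normalizer ((U : Subgroup G) : Set G) < M₂)
    (hne : M₁ ≠ M₂) (_ht1 : M₁ ≠ ⊤) (_ht2 : M₂ ≠ ⊤) (hsw : ∀ m ∈ M₁, α m ∈ M₂) (hsw' : ∀ m ∈ M₂, α m ∈ M₁) :
    False :=
  hne (eq_of_fix_swap hsw hsw' (fix_g2 hq e h.ccp U hU h1.le) (fix_g2 hq e h.ccp U hU h2.le))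

end Cfsg.Agent.H583.NoSwapG2
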