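import Cfsg.Agent.H520.CcpNE0
import Cfsg.Agent.H583.NoSwapG2

/-!
# `NoSwap r G` for `G₂(q)` (helper583, S4114)
-/

set_option autoImplicit false

namespace Cfsg.Agent.H583.NoSwapG2

universe u

theorem noSwap_row {G : Type*} [Group G] [Finite G] {F : Type u} [Field F] [Fintype F] {r : ℕ} [Fact r.Prime]
    [CharP F r] (hq : 3 ≤ Fintype.card F) (e : G ≃* ↥(Cfsg.Lie.chevG2.group F)) : Cfsg.Agent.H520.NoSwap r G :=
  fun _ h U hU M₁ M₂ h1 h2 hne ht1 ht2 hsw hsw' => noswap_g2 hq e h U hU M₁ M₂ h1 h2 hne ht1 ht2 hsw hsw'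

end Cfsg.Agent.H583.NoSwapG2
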