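/-
Normal bases for finite group actions on Artinian rings.

* `exists_normal_field`: a finite group `S` acting faithfully on a field `K` has `x : K` with
  `det ((a * b) • x) ≠ 0`.
* `exists_dual`: in a commutative ring with `H`-action, if `det ((σ * g) • θ)` is a unit then there is a dual `θ'`.
* `exists_theta`: an Artinian commutative ring `R` with an `H`-action such that no `h ≠ 1` acts trivially on a residue
  field has such a `θ`.
-/
import Mathlib

set_option autoImplicit false

namespace Cfsg.Agent.H583.NormalBasis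

open Matrix
open scoped Pointwise

section Field

variable {S K : Type*} [Group S] [Fintype S] [DecidableEq S] [Field K] [MulSemiringAction S K]

theorem exists_normal_field [FaithfulSMul S K] :
    ∃ x : K, (Matrix.of fun a b : S => (a * b) • x).det ≠ 0 := by
  classical
  let x : K := IsGalois.normalBasis (FixedPoints.subfield S K) K 1
  refine ⟨x, fun hdet => ?_⟩
  obtain ⟨d, hd0, hd⟩ := Matrix.exists_vecMul_eq_zero_iff.2 hdet
  apply hd0
  -- the functional `y ↦ ∑ d_a (a • y)` vanishes
  have h1 : ∀ b : S, ∑ a, d a * (a • (b • x)) = 0 := by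
    intro b
    have := congrFun hd b
    simp only [Matrix.vecMul, dotProduct, Matrix.of_apply, Pi.zero_apply] at this
    rw [← this]
    refine Finset.sum_congr rfl fun a _ => ?_
    rw [mul_smul]
  let L : K →ₗ[FixedPoints.subfield S K] K :=
    { toFun := fun y => ∑ a, d a * (a • y)
      map_add' := by
        intro y z
        simp only [smul_add, mul_add, Finset.sum_add_distrib]
      map_smul' := by
        intro c y
        simp only [RingHom.id_apply, Finset.smul_sum]
        refine Finset.sum_congr rfl fun a _ => ?_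
        rw [smul_comm a c y, mul_smul_comm] }
  have hL : L = 0 := by
    refine (IsGalois.normalBasis (FixedPoints.subfield S K) K).ext fun e => ?_
    rw [IsGalois.normalBasis_apply]
    obtain ⟨b, hb⟩ := (FixedPoints.toAlgAut_bijective S K).2 e
    have h2 : e x = b • x := by rw [← hb]; rfl
    change L (e x) = 0
    rw [h2]
    exact h1 b
  have h3 : ∀ y : K, ∑ a, d a * (a • y) = 0 := fun y => congrArg (fun f => f y) hL
  -- independence of characters
  have hind := linearIndependent_monoidHom K K
  let F : S → (K →* K) := fun a => (MulSemiringAction.toRingHom S K a : K →* K)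
  have hF : Function.Injective F := by
    intro a b hab
    apply FaithfulSMul.eq_of_smul_eq_smul (α := K)
    intro y
    exact congrArg (fun f : K →* K => f y) hab
  have hind2 := hind.comp F hF
  rw [Fintype.linearIndependent_iff] at hind2
  ext a
  refine hind2 d ?_ a
  ext y
  simp only [Function.comp_apply, Finset.sum_apply, Pi.smul_apply, smul_eq_mul, Pi.zero_apply]
  exact h3 y

end Field

section Ring

variable {H R : Type*} [Group H] [Fintype H] [DecidableEq H] [CommRing R] [MulSemiringAction H R]

/-- The matrix `((σ * g) • θ)`. -/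
def gmat (H : Type*) [Group H] {R : Type*} [CommRing R] [MulSemiringAction H R] (θ : R) : Matrix H H R :=
  Matrix.of fun σ g => (σ * g) • θ

omit [Fintype H] [DecidableEq H] in
theorem gmat_apply (θ : R) (σ g : H) : gmat H θ σ g = (σ * g) • θ := rfl

theorem exists_dual (θ : R) (hdet : IsUnit (gmat H θ).det) :
    ∃ θ' : R, (∀ σ τ : H, ∑ g : H, ((σ * g) • θ) * ((τ * g) • θ') = if σ = τ then 1 else 0) ∧
      (∀ g h : H, ∑ τ : H, ((τ * g) • θ') * ((τ * h) • θ) = if g = h then 1 else 0) := by
  classical
  set M := gmat H θ with hM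
  have hMinv : M⁻¹ * M = 1 := Matrix.nonsing_inv_mul M hdet
  have hMinv' : M * M⁻¹ = 1 := Matrix.mul_nonsing_inv M hdet
  -- uniqueness of row solutions
  have huniq : ∀ u v : H → R, u ᵥ* M = v ᵥ* M → u = v := by
    intro u v huv
    have := congrArg (fun w => w ᵥ* M⁻¹) huv
    simpa [Matrix.vecMul_vecMul, hMinv'] using this
  let n : H → R := fun τ => M⁻¹ 1 τ
  have hn : ∀ h : H, ∑ τ, n τ * ((τ * h) • θ) = if (1 : H) = h then 1 else 0 := by
    intro h
    have := congrFun (congrFun hMinv 1) h
    rw [Matrix.mul_apply, Matrix.one_apply] at this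
    exact this
  have hneq : ∀ x : H, n x = x • n 1 := by
    intro x
    have h1 : (fun τ => x⁻¹ • n (x * τ)) = n := by
      apply huniq
      ext h
      simp only [Matrix.vecMul, dotProduct, hM, gmat_apply]
      rw [hn h]
      have h2 : ∑ τ, x⁻¹ • n (x * τ) * (τ * h) • θ = x⁻¹ • ∑ τ, n (x * τ) * ((x * τ * h) • θ) := by
        rw [Finset.smul_sum]
        refine Finset.sum_congr rfl fun τ _ => ?_
        rw [smul_mul', smul_smul x⁻¹ (x * τ * h)]
        congr 2
        group
      rw [h2]
      have h3 : ∑ τ, n (x * τ) * ((x * τ * h) • θ) = ∑ τ, n τ * ((τ * h) • θ) :=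
        Fintype.sum_equiv (Equiv.mulLeft x) _ _ (fun τ => rfl)
      rw [h3, hn h]
      split_ifs
      · exact smul_one _
      · exact smul_zero _
    have h4 := congrFun h1 1
    simp only [mul_one] at h4
    rw [← h4, smul_inv_smul]
  refine ⟨n 1, ?_⟩
  have key : ∀ g h : H, ∑ τ : H, ((τ * g) • n 1) * ((τ * h) • θ) = if g = h then 1 else 0 := by
    intro g h
    have h1 : ∑ τ : H, ((τ * g) • n 1) * ((τ * h) • θ) = ∑ τ : H, n τ * ((τ * (g⁻¹ * h)) • θ) := by
      refine Fintype.sum_equiv (Equiv.mulRight g) _ _ (fun τ => ?_)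
      simp only [Equiv.coe_mulRight]
      rw [hneq (τ * g)]
      congr 2
      group
    rw [h1, hn]
    by_cases hgh : g = h
    · rw [if_pos hgh, if_pos (by rw [hgh]; group)]
    · rw [if_neg hgh, if_neg]
      intro h2
      apply hgh
      rw [eq_comm, inv_mul_eq_one] at h2
      exact h2
  refine ⟨?_, key⟩
  let N : Matrix H H R := Matrix.of fun g τ => (τ * g) • n 1
  have hNM : N * M = 1 := by
    ext g h
    rw [Matrix.mul_apply, Matrix.one_apply]
    exact key g h
  have hMN : M * N = 1 := mul_eq_one_comm.1 hNM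
  intro σ τ
  have := congrFun (congrFun hMN σ) τ
  rw [Matrix.mul_apply, Matrix.one_apply] at this
  exact this

/-- The determinant of `gmat` is invariant up to sign. -/
theorem gmat_det_smul (θ : R) (x : H) : x • (gmat H θ).det = (Equiv.Perm.sign (Equiv.mulLeft x)) * (gmat H θ).det := by
  have h1 : x • (gmat H θ).det = ((gmat H θ).submatrix (Equiv.mulLeft x) id).det := by
    have : x • (gmat H θ).det = (MulSemiringAction.toRingHom H R x) (gmat H θ).det := rfl
    rw [this, RingHom.map_det]
    congr 1
    ext σ g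
    simp only [RingHom.mapMatrix_apply, Matrix.map_apply, gmat_apply, MulSemiringAction.toRingHom_apply,
      Matrix.submatrix_apply, Equiv.coe_mulLeft, id_eq, smul_smul, mul_assoc]
  rw [h1, Matrix.det_permute]

/-- The action of the stabilizer on the residue field. -/
@[instance_reducible]
noncomputable def resAction (m : Ideal R) : MulSemiringAction (MulAction.stabilizer H m) (R ⧸ m) where
  smul a := Ideal.quotientMap m (MulSemiringAction.toRingHom H R (a : H)) (by
    intro r hr
    rw [Ideal.mem_comap, MulSemiringAction.toRingHom_apply]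
    have h1 : (a : H) • m = m := a.2
    have h2 : (a : H) • r ∈ (a : H) • m := Ideal.smul_mem_pointwise_smul _ _ _ hr
    rwa [h1] at h2)
  one_smul := by
    rintro ⟨r⟩
    change Ideal.Quotient.mk m ((1 : H) • r) = Ideal.Quotient.mk m r
    rw [one_smul]
  mul_smul := by
    rintro a b ⟨r⟩
    change Ideal.Quotient.mk m (((a : H) * b) • r) = Ideal.Quotient.mk m ((a : H) • (b : H) • r)
    rw [mul_smul]
  smul_zero := fun a => map_zero _
  smul_add := fun a => map_add _
  smul_one := fun a => map_one _
  smul_mul := fun a => map_mul _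

omit [Fintype H] [DecidableEq H] in
theorem resAction_mk (m : Ideal R) (a : MulAction.stabilizer H m) (r : R) :
    letI := resAction (H := H) m
    a • (Ideal.Quotient.mk m r) = Ideal.Quotient.mk m ((a : H) • r) := rfl

theorem exists_theta [IsArtinianRing R]
    (hH : ∀ (m : Ideal R), m.IsMaximal → ∀ h : H, h ≠ 1 → ∃ r : R, h • r - r ∉ m) :
    ∃ θ : R, IsUnit (gmat H θ).det := by
  classical
  -- for each maximal ideal, a good element for the stabilizer
  have hloc : ∀ m : Ideal R, m.IsMaximal → ∃ x : R,
      ∀ v : MulAction.stabilizer H m → R ⧸ m,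
        (∀ a : MulAction.stabilizer H m, ∑ b : MulAction.stabilizer H m,
          Ideal.Quotient.mk m (((a : H) * (b : H)) • x) * v b = 0) → v = 0 := by
    intro m hm
    letI := Ideal.Quotient.field m
    letI := resAction (H := H) m
    have hf : FaithfulSMul (MulAction.stabilizer H m) (R ⧸ m) := by
      refine ⟨fun {a b} hab => ?_⟩
      by_contra hne
      have h1 : (b : H)⁻¹ * a ≠ 1 := by
        intro h
        apply hne
        rw [inv_mul_eq_one] at h
        exact Subtype.ext h.symm
      obtain ⟨r, hr⟩ := hH m hm _ h1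
      apply hr
      rw [← Ideal.Quotient.eq]
      have h2 := hab (Ideal.Quotient.mk m r)
      have h3 : (b⁻¹ * a) • (Ideal.Quotient.mk m r) = Ideal.Quotient.mk m r := by
        rw [mul_smul, h2, inv_smul_smul]
      exact h3
    obtain ⟨x, hx⟩ := exists_normal_field (S := MulAction.stabilizer H m) (K := R ⧸ m)
    obtain ⟨x, rfl⟩ := Ideal.Quotient.mk_surjective x
    refine ⟨x, fun v hv => ?_⟩
    by_contra hv0
    apply hx
    rw [← Matrix.exists_mulVec_eq_zero_iff]
    refine ⟨v, hv0, ?_⟩
    ext a
    simp only [Matrix.mulVec, dotProduct, Matrix.of_apply, Pi.zero_apply]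
    exact hv a
  choose! x hx using hloc
  -- representatives of orbits
  let rep : Ideal R → Ideal R := fun m => (Quotient.mk (MulAction.orbitRel H (Ideal R)) m).out
  have hrep : ∀ m, ∃ t : H, rep m = t • m := by
    intro m
    have h1 : (MulAction.orbitRel H (Ideal R)) (rep m) m := Quotient.mk_out (s := MulAction.orbitRel H (Ideal R)) m
    rw [MulAction.orbitRel_apply] at h1
    obtain ⟨t, ht⟩ := h1
    exact ⟨t, ht.symm⟩
  have hrep2 : ∀ (m : Ideal R) (t : H), rep (t • m) = rep m := by
    intro m t
    change (Quotient.mk (MulAction.orbitRel H (Ideal R)) (t • m)).out = (Quotient.mk (MulAction.orbitRel H (Ideal R)) m).out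
    congr 1
    apply Quotient.sound
    exact ⟨t, rfl⟩
  have hmax : ∀ (m : Ideal R) (t : H), m.IsMaximal → (t • m).IsMaximal := by
    intro m t hm
    rw [Ideal.pointwise_smul_eq_comap]
    exact Ideal.comap_isMaximal_of_surjective _ (MulSemiringAction.toRingEquiv H R t).symm.surjective
  -- the element by CRT
  obtain ⟨θ, hθ⟩ : ∃ θ : R, ∀ m : MaximalSpectrum R,
      θ - (if rep m.asIdeal = m.asIdeal then x m.asIdeal else 0) ∈ m.asIdeal := by
    refine Ideal.exists_forall_sub_mem_ideal (I := fun m : MaximalSpectrum R => m.asIdeal) ?_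
      (fun m => if rep m.asIdeal = m.asIdeal then x m.asIdeal else 0)
    intro m n hmn
    have h1 : m.asIdeal ≠ n.asIdeal := fun h => hmn (MaximalSpectrum.ext h)
    have h2 := m.isMaximal
    have h3 := n.isMaximal
    exact Ideal.isCoprime_of_isMaximal h1
  refine ⟨θ, ?_⟩
  by_contra hnu
  obtain ⟨m, hm, hdm⟩ := exists_max_ideal_of_mem_nonunits hnu
  obtain ⟨t, ht⟩ := hrep m
  have hm₀max : (rep m).IsMaximal := by rw [ht]; exact hmax m t hm
  have hm₀rep : rep (rep m) = rep m := by
    conv_lhs => rw [ht]
    exact hrep2 m t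
  have hdm₀ : (gmat H θ).det ∈ rep m := by
    have h1 : t • (gmat H θ).det ∈ rep m := by
      rw [ht]
      exact Ideal.smul_mem_pointwise_smul _ _ _ hdm
    rw [gmat_det_smul] at h1
    rcases Int.units_eq_one_or (Equiv.Perm.sign (Equiv.mulLeft t)) with h2 | h2
    · rw [h2] at h1
      simpa using h1
    · rw [h2] at h1
      simpa using h1
  generalize rep m = m₀ at hm₀max hm₀rep hdm₀
  letI := Ideal.Quotient.field m₀
  have hdet0 : ((gmat H θ).map (Ideal.Quotient.mk m₀)).det = 0 := by
    have h1 := RingHom.map_det (Ideal.Quotient.mk m₀) (gmat H θ)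
    rw [RingHom.mapMatrix_apply] at h1
    rw [← h1]
    exact Ideal.Quotient.eq_zero_iff_mem.2 hdm₀
  obtain ⟨v, hv0, hv⟩ := Matrix.exists_mulVec_eq_zero_iff.2 hdet0
  apply hv0
  ext u
  have hvσ : ∀ σ : H, ∑ g, Ideal.Quotient.mk m₀ ((σ * g) • θ) * v g = 0 := by
    intro σ
    have := congrFun hv σ
    simpa only [Matrix.mulVec, dotProduct, Matrix.map_apply, gmat_apply, Pi.zero_apply] using this
  have key := hx m₀ hm₀max (fun b => v (u * b)) ?_
  · have := congrFun key 1
    simpa using this
  intro a
  have h1 := hvσ (a * u⁻¹)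
  have h2 : ∑ g, Ideal.Quotient.mk m₀ (((a : H) * u⁻¹ * g) • θ) * v g =
      ∑ y, Ideal.Quotient.mk m₀ (((a : H) * y) • θ) * v (u * y) := by
    refine (Fintype.sum_equiv (Equiv.mulLeft u) _ _ (fun y => ?_)).symm
    simp only [Equiv.coe_mulLeft]
    congr 3
    group
  rw [h2] at h1
  rw [← h1]
  have h3 : ∑ y, Ideal.Quotient.mk m₀ (((a : H) * y) • θ) * v (u * y) =
      ∑ y ∈ Finset.univ.filter (fun y => y ∈ MulAction.stabilizer H m₀),
        Ideal.Quotient.mk m₀ (((a : H) * y) • θ) * v (u * y) := by
    symm
    apply Finset.sum_subset (Finset.filter_subset _ _)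
    intro y _ hy
    have hyS : y ∉ MulAction.stabilizer H m₀ := fun h => hy (Finset.mem_filter.2 ⟨Finset.mem_univ _, h⟩)
    have hm₁ : ((((a : H) * y)⁻¹) • m₀).IsMaximal := hmax _ _ hm₀max
    have h4 := hθ ⟨_, hm₁⟩
    simp only at h4
    rw [hrep2, hm₀rep, if_neg, sub_zero, Ideal.mem_inv_pointwise_smul_iff] at h4
    · rw [Ideal.Quotient.eq_zero_iff_mem.2 h4, zero_mul]
    · intro h5
      apply hyS
      have h6 : ((a : H) * y) • m₀ = m₀ := by
        have h8 := congrArg (fun I => ((a : H) * y) • I) h5
        simp only [smul_inv_smul] at h8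
        exact h8
      have h7 : (a : H) * y ∈ MulAction.stabilizer H m₀ := h6
      exact (Subgroup.mul_mem_cancel_left _ a.2).1 h7
  rw [h3, Finset.sum_subtype (Finset.univ.filter (fun y => y ∈ MulAction.stabilizer H m₀))
    (p := fun y => y ∈ MulAction.stabilizer H m₀) (fun y => by simp)]
  refine Finset.sum_congr rfl fun b _ => ?_
  congr 1
  rw [Ideal.Quotient.eq]
  have h4 := hθ ⟨_, hm₀max⟩
  simp only at h4
  rw [if_pos hm₀rep] at h4
  have h5 : ((a : H) * b) • (θ - x m₀) ∈ ((a : H) * b) • m₀ := Ideal.smul_mem_pointwise_smul _ _ _ h4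
  have h6 : ((a : H) * b) • m₀ = m₀ := (a * b).2
  rw [h6, smul_sub] at h5
  have h7 := m₀.neg_mem h5
  rwa [neg_sub] at h7

end Ring

end Cfsg.Agent.H583.NormalBasis
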