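/-
Operators exhibiting a module as induced from the trivial subgroup (free), and the case of a Frobenius group with
abelian kernel of order prime to the characteristic.
-/
import Mathlib
import Cfsg.Agent.H583.NormalBasis

set_option autoImplicit false

namespace Cfsg.Agent.H583.FreeOp

open Cfsg.Agent.H583.NormalBasis

section

variable {H E : Type*} [Group H] [Fintype H] [DecidableEq H] [Ring E]

/-- `π` exhibits the image of `e` as induced from the trivial group. -/
def HFree (ρ : H →* E) (e : E) : Prop :=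
  ∃ π : E, π * e = π ∧ e * π = π ∧ (∀ g : H, π * ρ g * π = if g = 1 then π else 0) ∧
    ∑ g : H, ρ g * π * ρ g⁻¹ = e

omit [DecidableEq H] in
theorem rho_mul_sum (ρ : H →* E) (g : H) : ρ g * ∑ h, ρ h = ∑ h, ρ h := by
  rw [Finset.mul_sum]
  refine Fintype.sum_equiv (Equiv.mulLeft g) _ _ (fun h => ?_)
  rw [Equiv.coe_mulLeft, map_mul]

theorem hfree_of_ring {R : Type*} [CommRing R] [MulSemiringAction H R] (T : R →+ E)
    (hTm : ∀ a b, T (a * b) = T a * T b) (ρ : H →* E) (hρ : ∀ h r, ρ h * T r = T (h • r) * ρ h)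
    (θ θ' : R)
    (hA : ∀ σ τ : H, T (∑ g : H, ((σ * g) • θ) * ((τ * g) • θ')) = if σ = τ then T 1 else 0)
    (hB : ∀ g h : H, T (∑ τ : H, ((τ * g) • θ') * ((τ * h) • θ)) = if g = h then T 1 else 0) :
    HFree ρ (T 1) := by
  set S : E := ∑ h, ρ h with hS
  have hT1 : ∀ r, T r * T 1 = T r := fun r => by rw [← hTm, mul_one]
  have h1T : ∀ r, T 1 * T r = T r := fun r => by rw [← hTm, one_mul]
  have hρS : ∀ g, ρ g * S = S := fun g => rho_mul_sum ρ g
  have hSTS : ∀ x, S * T x * S = T (∑ h : H, h • x) * S := by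
    intro x
    rw [hS, Finset.sum_mul, Finset.sum_mul, map_sum, Finset.sum_mul, ← hS]
    refine Finset.sum_congr rfl fun h _ => ?_
    rw [hρ, mul_assoc, hρS]
  refine ⟨T θ * S * T θ', ?_, ?_, ?_, ?_⟩
  · rw [mul_assoc, hT1]
  · rw [← mul_assoc, ← mul_assoc, h1T]
  · intro g
    have h1 : T θ * S * T θ' * ρ g * (T θ * S * T θ') = T θ * (S * T (θ' * g • θ) * S) * T θ' := by
      have h2 : T θ' * ρ g * T θ * S = T (θ' * g • θ) * S := by
        rw [mul_assoc (T θ'), hρ, hTm, mul_assoc, mul_assoc, mul_assoc, hρS]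
      calc T θ * S * T θ' * ρ g * (T θ * S * T θ') = T θ * S * (T θ' * ρ g * T θ * S) * T θ' := by
            simp only [mul_assoc]
        _ = _ := by rw [h2]; simp only [mul_assoc]
    rw [h1, hSTS]
    have h3 : T (∑ h : H, h • (θ' * g • θ)) = if (1 : H) = g then T 1 else 0 := by
      rw [← hB 1 g]
      congr 1
      refine Finset.sum_congr rfl fun h _ => ?_
      rw [smul_mul', smul_smul, mul_one]
    rw [h3]
    by_cases hg : g = 1
    · rw [if_pos hg, if_pos hg.symm, ← mul_assoc, hT1]
    · rw [if_neg hg, if_neg (fun h => hg h.symm), zero_mul, mul_zero, zero_mul]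
  · have h1 : ∀ g : H, ρ g * (T θ * S * T θ') * ρ g⁻¹ =
        ∑ x : H, T ((g • θ) * ((x * g) • θ')) * ρ x := by
      intro g
      have h2 : ρ g * (T θ * S * T θ') * ρ g⁻¹ = T (g • θ) * (S * T θ' * ρ g⁻¹) := by
        calc ρ g * (T θ * S * T θ') * ρ g⁻¹ = ρ g * T θ * S * T θ' * ρ g⁻¹ := by simp only [mul_assoc]
          _ = T (g • θ) * (ρ g * S) * T θ' * ρ g⁻¹ := by rw [hρ]; simp only [mul_assoc]
          _ = _ := by rw [hρS]; simp only [mul_assoc]
      rw [h2, hS, Finset.sum_mul, Finset.sum_mul, Finset.mul_sum]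
      refine (Fintype.sum_equiv (Equiv.mulRight g) _ _ (fun x => ?_)).symm
      simp only [Equiv.coe_mulRight]
      rw [hρ, mul_assoc, ← map_mul, mul_inv_cancel_right, hTm, mul_assoc]
    rw [Finset.sum_congr rfl fun g _ => h1 g, Finset.sum_comm]
    have h2 : ∀ x : H, ∑ g : H, T ((g • θ) * ((x * g) • θ')) * ρ x = (if (1 : H) = x then T 1 else 0) * ρ x := by
      intro x
      rw [← Finset.sum_mul, ← map_sum]
      congr 1
      rw [← hA 1 x]
      congr 1
      refine Finset.sum_congr rfl fun g _ => ?_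
      rw [one_mul]
    rw [Finset.sum_congr rfl fun x _ => h2 x]
    simp

/-- The action on the quotient by an invariant ideal. -/
@[instance_reducible]
noncomputable def quotAction {R : Type*} [CommRing R] [MulSemiringAction H R] (I : Ideal R)
    (hI : ∀ (h : H) (r : R), r ∈ I → h • r ∈ I) : MulSemiringAction H (R ⧸ I) where
  smul h := Ideal.quotientMap I (MulSemiringAction.toRingHom H R h) (fun r hr => hI h r hr)
  one_smul := by
    rintro ⟨r⟩
    change Ideal.Quotient.mk I ((1 : H) • r) = Ideal.Quotient.mk I r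
    rw [one_smul]
  mul_smul := by
    rintro a b ⟨r⟩
    change Ideal.Quotient.mk I ((a * b) • r) = Ideal.Quotient.mk I (a • b • r)
    rw [mul_smul]
  smul_zero := fun a => map_zero _
  smul_add := fun a => map_add _
  smul_one := fun a => map_one _
  smul_mul := fun a => map_mul _

/-- Frobenius groups with abelian kernel of order prime to the characteristic. -/
theorem hfree_abelian {k Z : Type*} [Field k] [Algebra k E] [CommGroup Z] [Finite Z] (α : H →* MulAut Z)
    (hα : ∀ h : H, h ≠ 1 → ∀ z, α h z = z → z = 1) (hk : (Nat.card Z : k) ≠ 0)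
    (τ : Z → E) (hτ : ∀ a b, τ (a * b) = τ a * τ b) (ρ : H →* E) (hρ : ∀ h z, ρ h * τ z = τ (α h z) * ρ h)
    (hs : ∑ᶠ z, τ z = 0) : HFree ρ (τ 1) := by
  classical
  have := Fintype.ofFinite Z
  rw [finsum_eq_sum_of_fintype] at hs
  letI act : MulSemiringAction H (MonoidAlgebra k Z) :=
    MulSemiringAction.compHom _ ((MonoidAlgebra.domCongrAut (R := k) (A := k) (M := Z)).comp α)
  have hsm : ∀ (h : H) (r : MonoidAlgebra k Z), h • r = MonoidAlgebra.domCongr k k (α h) r := fun _ _ => rfl
  have hsingle : ∀ (h : H) (z : Z) (c : k), h • (MonoidAlgebra.single z c) = MonoidAlgebra.single (α h z) c := by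
    intro h z c
    rw [hsm, MonoidAlgebra.domCongr_single]
  let T : MonoidAlgebra k Z →ₙₐ[k] E := MonoidAlgebra.liftMagma k ⟨τ, hτ⟩
  have hT : ∀ z c, T (MonoidAlgebra.single z c) = c • τ z := by
    intro z c
    simp [T, MonoidAlgebra.liftMagma_apply_apply]
  have hTρ : ∀ (h : H) (r : MonoidAlgebra k Z), ρ h * T r = T (h • r) * ρ h := by
    intro h r
    induction r using MonoidAlgebra.induction_linear with
    | zero => simp
    | add a b ha hb => rw [map_add, mul_add, ha, hb, smul_add, map_add, add_mul]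
    | single z c => rw [hsingle, hT, hT, mul_smul_comm, hρ, smul_mul_assoc]
  let s : MonoidAlgebra k Z := ∑ z : Z, MonoidAlgebra.single z 1
  have hTs : T s = 0 := by
    simp only [s, map_sum, hT, one_smul]
    exact hs
  have hhs : ∀ h : H, h • s = s := by
    intro h
    simp only [s, Finset.smul_sum, hsingle]
    exact Fintype.sum_equiv (α h).toEquiv _ _ (fun z => rfl)
  let I : Ideal (MonoidAlgebra k Z) := Ideal.span {s}
  have hI : ∀ (h : H) (r : MonoidAlgebra k Z), r ∈ I → h • r ∈ I := by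
    intro h r hr
    obtain ⟨a, rfl⟩ := Ideal.mem_span_singleton'.1 hr
    rw [smul_mul', hhs]
    exact Ideal.mul_mem_left _ _ (Ideal.mem_span_singleton_self s)
  have hTI : ∀ r ∈ I, T r = 0 := by
    intro r hr
    obtain ⟨a, rfl⟩ := Ideal.mem_span_singleton'.1 hr
    rw [map_mul, hTs, mul_zero]
  letI := quotAction (H := H) I hI
  have hmk : ∀ (h : H) (r : MonoidAlgebra k Z), h • (Ideal.Quotient.mk I r) = Ideal.Quotient.mk I (h • r) :=
    fun _ _ => rfl
  have hfin : Module.Finite k (MonoidAlgebra k Z) := inferInstance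
  have hart : IsArtinianRing (MonoidAlgebra k Z) := IsArtinianRing.of_finite k _
  obtain ⟨θ, hθ⟩ := exists_theta (H := H) (R := MonoidAlgebra k Z ⧸ I) (by
    intro m hm h hh
    by_contra hcon
    push Not at hcon
    -- all group elements are congruent to one
    have h1 : ∀ z : Z, Ideal.Quotient.mk I (MonoidAlgebra.single (α h z * z⁻¹) 1) - 1 ∈ m := by
      intro z
      have h2 := hcon (Ideal.Quotient.mk I (MonoidAlgebra.single z 1))
      rw [hmk, hsingle] at h2
      have h3 := m.mul_mem_left (Ideal.Quotient.mk I (MonoidAlgebra.single z⁻¹ 1)) h2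
      rw [mul_sub, ← map_mul, ← map_mul, MonoidAlgebra.single_mul_single, MonoidAlgebra.single_mul_single,
        inv_mul_cancel, mul_one, mul_comm z⁻¹] at h3
      exact h3
    have h4 : Function.Surjective (fun z : Z => α h z * z⁻¹) := by
      have h5 : Function.Injective (fun z : Z => α h z * z⁻¹) := by
        intro a b hab
        simp only at hab
        have h6 : α h (a * b⁻¹) = a * b⁻¹ := by
          rw [map_mul, map_inv]
          have h7 : α h a = α h b * b⁻¹ * a := by rw [← hab]; group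
          rw [h7]
          rw [mul_assoc (α h b), mul_comm (α h b), mul_inv_cancel_right, mul_comm]
        have h8 := hα h hh _ h6
        rwa [mul_inv_eq_one] at h8
      exact Finite.injective_iff_surjective.1 h5
    have h5 : ∀ z : Z, Ideal.Quotient.mk I (MonoidAlgebra.single z 1) - 1 ∈ m := by
      intro z
      obtain ⟨y, rfl⟩ := h4 z
      exact h1 y
    have h6 : (Ideal.Quotient.mk I s) - (Nat.card Z : MonoidAlgebra k Z ⧸ I) ∈ m := by
      have h7 : (Ideal.Quotient.mk I s) - (Nat.card Z : MonoidAlgebra k Z ⧸ I) =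
          ∑ z : Z, (Ideal.Quotient.mk I (MonoidAlgebra.single z 1) - 1) := by
        rw [Finset.sum_sub_distrib, ← map_sum]
        simp [s]
      rw [h7]
      exact Ideal.sum_mem _ fun z _ => h5 z
    have h7 : Ideal.Quotient.mk I s = 0 := Ideal.Quotient.eq_zero_iff_mem.2 (Ideal.mem_span_singleton_self s)
    rw [h7, zero_sub] at h6
    have h6' := m.neg_mem h6
    rw [neg_neg] at h6'
    have h8 : IsUnit (Nat.card Z : MonoidAlgebra k Z ⧸ I) := by
      have h9 : (Nat.card Z : MonoidAlgebra k Z ⧸ I) = algebraMap k _ (Nat.card Z : k) := by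
        rw [map_natCast]
      rw [h9]
      exact (IsUnit.mk0 _ hk).map _
    exact hm.ne_top (Ideal.eq_top_of_isUnit_mem _ h6' h8))
  obtain ⟨θ', hA, hB⟩ := exists_dual θ hθ
  obtain ⟨θ, rfl⟩ := Ideal.Quotient.mk_surjective θ
  obtain ⟨θ', rfl⟩ := Ideal.Quotient.mk_surjective θ'
  have hT1 : T 1 = τ 1 := by
    rw [MonoidAlgebra.one_def, hT, one_smul]
  have hlift : ∀ (x : MonoidAlgebra k Z) (P : Prop) [Decidable P],
      (Ideal.Quotient.mk I x = if P then 1 else 0) → T x = if P then T 1 else 0 := by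
    intro x P _ hx
    by_cases hP : P
    · rw [if_pos hP] at hx ⊢
      rw [← map_one (Ideal.Quotient.mk I), Ideal.Quotient.eq] at hx
      have := hTI _ hx
      rwa [map_sub, sub_eq_zero] at this
    · rw [if_neg hP] at hx ⊢
      exact hTI _ (Ideal.Quotient.eq_zero_iff_mem.1 hx)
  rw [← hT1]
  refine hfree_of_ring (T : MonoidAlgebra k Z →+ E) (fun a b => map_mul T a b) ρ hTρ θ θ' ?_ ?_
  · intro σ g
    apply hlift
    rw [← hA σ g, map_sum]
    refine Finset.sum_congr rfl fun x _ => ?_
    rw [map_mul, hmk, hmk]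
  · intro σ g
    apply hlift
    rw [← hB σ g, map_sum]
    refine Finset.sum_congr rfl fun x _ => ?_
    rw [map_mul, hmk, hmk]

/-- The same with a commutativity hypothesis. -/
theorem hfree_comm {k Z : Type*} [Field k] [Algebra k E] [inst : Group Z] [Finite Z]
    (hcomm : ∀ a b : Z, a * b = b * a) (α : H →* MulAut Z)
    (hα : ∀ h : H, h ≠ 1 → ∀ z, α h z = z → z = 1) (hk : (Nat.card Z : k) ≠ 0)
    (τ : Z → E) (hτ : ∀ a b, τ (a * b) = τ a * τ b) (ρ : H →* E) (hρ : ∀ h z, ρ h * τ z = τ (α h z) * ρ h)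
    (hs : ∑ᶠ z, τ z = 0) : HFree ρ (τ 1) :=
  @hfree_abelian H E _ _ _ _ k Z _ _ { inst with mul_comm := hcomm } _ α hα hk τ hτ ρ hρ hs

end

end Cfsg.Agent.H583.FreeOp
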