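/-
The nilpotent case: `V` is free over a Frobenius complement `H` when the nilpotent kernel `F` (of order prime to the
characteristic) has no fixed points.
-/
import Mathlib
import Cfsg.Agent.H583.FreeOp

set_option autoImplicit false

namespace Cfsg.Agent.H583.FreeNil

open Cfsg.Agent.H583.FreeOp

section

variable {H E : Type*} [Group H] [Fintype H] [DecidableEq H] [Ring E]

theorem hfree_zero (ρ : H →* E) : HFree ρ 0 :=
  ⟨0, by simp, by simp, by intro g; simp, by simp⟩

theorem hfree_add (ρ : H →* E) {e₁ e₂ : E} (h12 : e₁ * e₂ = 0) (h21 : e₂ * e₁ = 0)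
    (hc₁ : ∀ g, ρ g * e₁ = e₁ * ρ g) (hc₂ : ∀ g, ρ g * e₂ = e₂ * ρ g)
    (h₁ : HFree ρ e₁) (h₂ : HFree ρ e₂) : HFree ρ (e₁ + e₂) := by
  obtain ⟨π₁, ha₁, hb₁, hd₁, hs₁⟩ := h₁
  obtain ⟨π₂, ha₂, hb₂, hd₂, hs₂⟩ := h₂
  have h1 : π₁ * e₂ = 0 := by rw [← ha₁, mul_assoc, h12, mul_zero]
  have h2 : π₂ * e₁ = 0 := by rw [← ha₂, mul_assoc, h21, mul_zero]
  have h3 : e₂ * π₁ = 0 := by rw [← hb₁, ← mul_assoc, h21, zero_mul]
  have h4 : e₁ * π₂ = 0 := by rw [← hb₂, ← mul_assoc, h12, zero_mul]
  have h5 : ∀ g, π₁ * ρ g * π₂ = 0 := by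
    intro g
    rw [← ha₁, mul_assoc π₁, ← hc₁, mul_assoc, mul_assoc, h4, mul_zero, mul_zero]
  have h6 : ∀ g, π₂ * ρ g * π₁ = 0 := by
    intro g
    rw [← ha₂, mul_assoc π₂, ← hc₂, mul_assoc, mul_assoc, h3, mul_zero, mul_zero]
  refine ⟨π₁ + π₂, ?_, ?_, ?_, ?_⟩
  · rw [mul_add, add_mul, add_mul, ha₁, ha₂, h1, h2, add_zero, zero_add]
  · rw [mul_add, add_mul, add_mul, hb₁, hb₂, h3, h4, add_zero, zero_add]
  · intro g
    rw [add_mul, mul_add, add_mul, add_mul, hd₁, hd₂, h5, h6]
    split_ifs <;> simp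
  · rw [← hs₁, ← hs₂, ← Finset.sum_add_distrib]
    refine Finset.sum_congr rfl fun g _ => ?_
    rw [mul_add, add_mul]

end

section Aut

variable {F : Type*} [Group F]

/-- Restriction of automorphisms to a characteristic subgroup. -/
def resAut (Z : Subgroup F) [hZ : Z.Characteristic] : MulAut F →* MulAut Z :=
  have hmem : ∀ (φ : MulAut F) (z : F), z ∈ Z → φ z ∈ Z := fun φ z hz =>
    (Subgroup.characteristic_iff_le_comap.1 hZ φ) hz
  { toFun := fun φ =>
      { toFun := fun z => ⟨φ z, hmem φ z z.2⟩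
        invFun := fun z => ⟨φ⁻¹ z, hmem φ⁻¹ z z.2⟩
        left_inv := fun z => Subtype.ext (by
          change (φ⁻¹ * φ) (z : F) = z
          rw [inv_mul_cancel]; rfl)
        right_inv := fun z => Subtype.ext (by
          change (φ * φ⁻¹) (z : F) = z
          rw [mul_inv_cancel]; rfl)
        map_mul' := fun a b => Subtype.ext (map_mul φ _ _) }
    map_one' := rfl
    map_mul' := fun _ _ => rfl }

theorem resAut_coe (Z : Subgroup F) [Z.Characteristic] (φ : MulAut F) (z : Z) :
    ((resAut Z φ z : Z) : F) = φ z := rfl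

/-- The action of automorphisms on the quotient by a characteristic subgroup. -/
def quotAut (Z : Subgroup F) [hZ : Z.Characteristic] [Z.Normal] : MulAut F →* MulAut (F ⧸ Z) :=
  have hmem : ∀ (φ : MulAut F), Z ≤ Z.comap (φ : F →* F) := fun φ =>
    (Subgroup.characteristic_iff_le_comap.1 hZ φ)
  { toFun := fun φ =>
      { toFun := QuotientGroup.map Z Z (φ : F →* F) (hmem φ)
        invFun := QuotientGroup.map Z Z ((φ⁻¹ : MulAut F) : F →* F) (hmem φ⁻¹)
        left_inv := by
          rintro ⟨x⟩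
          change (QuotientGroup.mk ((φ⁻¹ * φ) x) : F ⧸ Z) = QuotientGroup.mk x
          rw [inv_mul_cancel]; rfl
        right_inv := by
          rintro ⟨x⟩
          change (QuotientGroup.mk ((φ * φ⁻¹) x) : F ⧸ Z) = QuotientGroup.mk x
          rw [mul_inv_cancel]; rfl
        map_mul' := fun a b => map_mul _ a b }
    map_one' := by
      ext ⟨x⟩
      rfl
    map_mul' := by
      intro φ ψ
      ext ⟨x⟩
      rfl }

theorem quotAut_mk (Z : Subgroup F) [Z.Characteristic] [Z.Normal] (φ : MulAut F) (x : F) :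
    quotAut Z φ (QuotientGroup.mk x) = QuotientGroup.mk (φ x) := rfl

/-- A fixed-point-free automorphism of a finite group is fixed-point-free on quotients. -/
theorem quotAut_fpf [Finite F] (Z : Subgroup F) [Z.Characteristic] [Z.Normal] (φ : MulAut F)
    (hφ : ∀ x, φ x = x → x = 1) (q : F ⧸ Z) (hq : quotAut Z φ q = q) : q = 1 := by
  obtain ⟨x, rfl⟩ := QuotientGroup.mk_surjective q
  rw [quotAut_mk, eq_comm, QuotientGroup.eq] at hq
  have hinj : ∀ a b : F, a⁻¹ * φ a = b⁻¹ * φ b → a = b := by
    intro a b hab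
    have h1 : φ (a * b⁻¹) = a * b⁻¹ := by
      rw [map_mul, map_inv]
      have h2 : φ a = a * (b⁻¹ * φ b) := by rw [← hab]; group
      rw [h2]; group
    have h3 := hφ _ h1
    rwa [mul_inv_eq_one] at h3
  let f : Z → Z := fun z => z⁻¹ * resAut Z φ z
  have hf : Function.Injective f := by
    intro a b hab
    apply Subtype.ext
    apply hinj
    exact congrArg Subtype.val hab
  obtain ⟨z, hz⟩ := (Finite.injective_iff_surjective.1 hf) ⟨_, hq⟩
  have h1 : (z : F)⁻¹ * φ z = x⁻¹ * φ x := congrArg Subtype.val hz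
  have h2 := hinj _ _ h1
  rw [QuotientGroup.eq_one_iff, ← h2]
  exact z.2

end Aut

section Nil

variable {H E : Type*} [Group H] [Fintype H] [DecidableEq H] [Ring E] {k : Type*} [Field k] [Algebra k E]

theorem hfree_nilpotent_aux (ρ : H →* E) (F : Type*) [Group F] [hF : Group.IsNilpotent F] :
    Finite F → ∀ (α : H →* MulAut F), (∀ h : H, h ≠ 1 → ∀ z, α h z = z → z = 1) → (Nat.card F : k) ≠ 0 →
    ∀ (τ : F → E), (∀ a b, τ (a * b) = τ a * τ b) → (∀ h z, ρ h * τ z = τ (α h z) * ρ h) →
    ∑ᶠ z, τ z = 0 → HFree ρ (τ 1) := by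
  refine Group.nilpotent_center_quotient_ind (P := fun F _ _ =>
    Finite F → ∀ (α : H →* MulAut F), (∀ h : H, h ≠ 1 → ∀ z, α h z = z → z = 1) → (Nat.card F : k) ≠ 0 →
    ∀ (τ : F → E), (∀ a b, τ (a * b) = τ a * τ b) → (∀ h z, ρ h * τ z = τ (α h z) * ρ h) →
    ∑ᶠ z, τ z = 0 → HFree ρ (τ 1)) F ?_ ?_
  · intro F _ _ _ α hα hk τ hτ hρ hs
    have : (∑ᶠ z, τ z) = τ 1 := by
      have : Unique F := uniqueOfSubsingleton 1
      rw [finsum_unique]
      congr 1
      exact Subsingleton.elim _ _
    rw [← this, hs]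
    exact hfree_zero ρ
  · intro F _ _ ih hfin α hα hk τ hτ hρ hs
    classical
    have := Fintype.ofFinite F
    rw [finsum_eq_sum_of_fintype] at hs
    let Z := Subgroup.center F
    have hZmem : ∀ z : Z, ∀ f : F, f * z = z * f := fun z f => Subgroup.mem_center_iff.1 z.2 f
    have hkZ : (Nat.card Z : k) ≠ 0 := by
      intro h0
      apply hk
      obtain ⟨m, hm⟩ := Subgroup.card_subgroup_dvd_card Z
      rw [hm, Nat.cast_mul, h0, zero_mul]
    let c : k := (Nat.card Z : k)⁻¹
    let s : E := ∑ z : Z, τ z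
    let e : E := c • s
    have hτ1 : ∀ f, τ f * τ 1 = τ f := fun f => by rw [← hτ, mul_one]
    have h1τ : ∀ f, τ 1 * τ f = τ f := fun f => by rw [← hτ, one_mul]
    have hzs : ∀ z : Z, τ z * s = s := by
      intro z
      simp only [s, Finset.mul_sum]
      refine Fintype.sum_equiv (Equiv.mulLeft z) _ _ (fun y => ?_)
      rw [← hτ]; rfl
    have hfs : ∀ f : F, τ f * s = s * τ f := by
      intro f
      simp only [s, Finset.mul_sum, Finset.sum_mul]
      refine Finset.sum_congr rfl fun z _ => ?_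
      rw [← hτ, ← hτ, hZmem]
    have hρs : ∀ h, ρ h * s = s * ρ h := by
      intro h
      simp only [s, Finset.mul_sum, Finset.sum_mul]
      refine Fintype.sum_equiv (resAut Z (α h)).toEquiv _ _ (fun z => ?_)
      rw [hρ]; rfl
    have hze : ∀ z : Z, τ z * e = e := fun z => by
      simp only [e]; rw [mul_smul_comm, hzs]
    have hfe : ∀ f : F, τ f * e = e * τ f := fun f => by
      simp only [e]; rw [mul_smul_comm, hfs, smul_mul_assoc]
    have hρe : ∀ h, ρ h * e = e * ρ h := fun h => by
      simp only [e]; rw [mul_smul_comm, hρs, smul_mul_assoc]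
    have hee : e * e = e := by
      have h1 : s * e = (Nat.card Z : k) • e := by
        simp only [s, Finset.sum_mul, hze]
        rw [Finset.sum_const, Finset.card_univ, ← Nat.card_eq_fintype_card, Nat.cast_smul_eq_nsmul]
      have h2 : e * e = c • (s * e) := by
        rw [← smul_mul_assoc]
      rw [h2, h1, smul_smul, inv_mul_cancel₀ hkZ, one_smul]
    have h1e : τ 1 * e = e := hze 1
    have he1 : e * τ 1 = e := by rw [← hfe, h1e]
    have hρ1 : ∀ h, ρ h * τ 1 = τ 1 * ρ h := fun h => by rw [hρ, map_one]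
    -- the quotient part
    have hpart1 : HFree ρ e := by
      let τ' : F ⧸ Z → E := Quotient.lift (fun f : F => τ f * e) (by
        intro a b hab
        have h1 : a⁻¹ * b ∈ Z := by
          rwa [← QuotientGroup.leftRel_apply]
        change τ a * e = τ b * e
        have h2 : b = a * (⟨a⁻¹ * b, h1⟩ : Z) := by
          change b = a * (a⁻¹ * b)
          group
        rw [h2, hτ, mul_assoc, hze])
      have hτ'mk : ∀ f : F, τ' (QuotientGroup.mk f) = τ f * e := fun _ => rfl
      have hτ'1 : τ' 1 = e := by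
        have := hτ'mk 1
        rw [h1e] at this
        exact this
      rw [← hτ'1]
      refine ih inferInstance ((quotAut Z).comp α) ?_ ?_ τ' ?_ ?_ ?_
      · intro h hh q hq
        exact quotAut_fpf Z (α h) (hα h hh) q hq
      · intro h0
        apply hk
        rw [← Subgroup.card_mul_index Z, Nat.cast_mul]
        have h1 : (Z.index : k) = 0 := h0
        rw [h1, mul_zero]
      · intro a b
        obtain ⟨a, rfl⟩ := QuotientGroup.mk_surjective a
        obtain ⟨b, rfl⟩ := QuotientGroup.mk_surjective b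
        rw [← QuotientGroup.mk_mul, hτ'mk, hτ'mk, hτ'mk, hτ]
        calc τ a * τ b * e = τ a * τ b * (e * e) := by rw [hee]
          _ = τ a * (τ b * e) * e := by simp only [mul_assoc]
          _ = τ a * (e * τ b) * e := by rw [hfe b]
          _ = τ a * e * (τ b * e) := by simp only [mul_assoc]
      · intro h q
        obtain ⟨f, rfl⟩ := QuotientGroup.mk_surjective q
        rw [MonoidHom.comp_apply, quotAut_mk, hτ'mk, hτ'mk, ← mul_assoc, hρ, mul_assoc, hρe, mul_assoc]
      · have := Fintype.ofFinite (F ⧸ Z)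
        rw [finsum_eq_sum_of_fintype]
        have h1 : ∑ f : F, τ f * e = (Nat.card Z : k) • ∑ q : F ⧸ Z, τ' q := by
          rw [Finset.smul_sum]
          rw [← Finset.sum_fiberwise_of_maps_to (s := Finset.univ) (t := Finset.univ)
            (g := fun f : F => (QuotientGroup.mk f : F ⧸ Z)) (fun _ _ => Finset.mem_univ _)]
          refine Finset.sum_congr rfl fun q _ => ?_
          rw [Finset.sum_congr rfl (g := fun _ => τ' q)]
          · rw [Finset.sum_const, Nat.cast_smul_eq_nsmul]
            congr 1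
            obtain ⟨f, rfl⟩ := QuotientGroup.mk_surjective q
            rw [Nat.card_eq_fintype_card, ← Fintype.card_subtype]
            refine Fintype.card_congr ?_
            refine ⟨fun y => ⟨f⁻¹ * y, ?_⟩, fun z => ⟨f * z, ?_⟩, ?_, ?_⟩
            · rw [← QuotientGroup.eq]; exact y.2.symm
            · rw [eq_comm, QuotientGroup.eq, inv_mul_cancel_left]; exact z.2
            · intro y; apply Subtype.ext; simp
            · intro y; apply Subtype.ext; simp
          · intro f hf
            rw [Finset.mem_filter] at hf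
            rw [← hf.2, hτ'mk]
        rw [← Finset.sum_mul, hs, zero_mul] at h1
        have h2 := congrArg (fun x => c • x) h1
        simp only [smul_zero, smul_smul] at h2
        rw [inv_mul_cancel₀ hkZ, one_smul] at h2
        exact h2.symm
    -- the central part
    have hpart2 : HFree ρ (τ 1 - e) := by
      let τ'' : Z → E := fun z => τ z * (τ 1 - e)
      have hd : (τ 1 - e) * (τ 1 - e) = τ 1 - e := by
        rw [mul_sub, sub_mul, sub_mul, hτ1, he1, h1e, hee, sub_self, sub_zero]
      have hτ''1 : τ'' 1 = τ 1 - e := by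
        change τ 1 * (τ 1 - e) = _
        rw [mul_sub, hτ1, h1e]
      have hdc : ∀ f : F, τ f * (τ 1 - e) = (τ 1 - e) * τ f := by
        intro f
        rw [mul_sub, sub_mul, hτ1, h1τ, hfe]
      rw [← hτ''1]
      refine hfree_comm (k := k) (Z := Z) (fun a b => Subtype.ext (hZmem b a)) ((resAut Z).comp α)
        ?_ hkZ τ'' ?_ ρ ?_ ?_
      · intro h hh z hz
        have h1 : α h z = z := congrArg Subtype.val hz
        exact Subtype.ext (hα h hh _ h1)
      · intro a b
        change τ (a * b) * (τ 1 - e) = τ a * (τ 1 - e) * (τ b * (τ 1 - e))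
        calc τ ((a : F) * b) * (τ 1 - e) = τ a * τ b * ((τ 1 - e) * (τ 1 - e)) := by rw [hd, hτ]
          _ = τ a * (τ b * (τ 1 - e)) * (τ 1 - e) := by simp only [mul_assoc]
          _ = τ a * ((τ 1 - e) * τ b) * (τ 1 - e) := by rw [hdc b]
          _ = τ a * (τ 1 - e) * (τ b * (τ 1 - e)) := by simp only [mul_assoc]
      · intro h z
        change ρ h * (τ z * (τ 1 - e)) = τ (α h z) * (τ 1 - e) * ρ h
        rw [← mul_assoc, hρ, mul_assoc, mul_assoc, mul_sub, sub_mul, hρ1, hρe]
      · rw [finsum_eq_sum_of_fintype]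
        change ∑ z : Z, τ z * (τ 1 - e) = 0
        rw [← Finset.sum_mul]
        change s * (τ 1 - e) = 0
        have h1 : s = (Nat.card Z : k) • e := by
          simp only [e, smul_smul]
          rw [mul_inv_cancel₀ hkZ, one_smul]
        rw [h1, smul_mul_assoc, mul_sub, he1, hee, sub_self, smul_zero]
    have hsum : τ 1 = e + (τ 1 - e) := by rw [add_sub_cancel]
    rw [hsum]
    refine hfree_add ρ ?_ ?_ hρe ?_ hpart1 hpart2
    · rw [mul_sub, he1, hee, sub_self]
    · rw [sub_mul, h1e, hee, sub_self]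
    · intro g
      rw [mul_sub, sub_mul, hρ1, hρe]

end Nil

end Cfsg.Agent.H583.FreeNil
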