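/-
A finite `p`-group acting linearly on a nonzero space of characteristic `p` fixes a nonzero vector (no finiteness
assumptions on the space).
-/
import Mathlib

set_option autoImplicit false

namespace Cfsg.Agent.H583.PFixed

theorem exists_fixed {k V P : Type*} [Field k] [AddCommGroup V] [Module k V] [Group P] [Finite P] {p : ℕ}
    [Fact p.Prime] [CharP k p] (hP : IsPGroup p P) (ρ : P →* Module.End k V) (N : Submodule k V)
    (hN : ∀ a : P, ∀ v ∈ N, ρ a v ∈ N) (hN0 : N ≠ ⊥) :
    ∃ v ∈ N, v ≠ 0 ∧ ∀ a : P, ρ a v = v := by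
  classical
  obtain ⟨v₀, hv₀, hv0⟩ := (Submodule.ne_bot_iff N).1 hN0
  have rho_one : ∀ v, ρ 1 v = v := fun v => by rw [map_one]; rfl
  have rho_mul : ∀ a b v, ρ (a * b) v = ρ a (ρ b v) := fun a b v => by rw [map_mul]; rfl
  let S : AddSubgroup V := AddSubgroup.closure (Set.range fun a : P => ρ a v₀)
  have hS : ∀ a : P, ∀ v ∈ S, ρ a v ∈ S := by
    intro a v hv
    induction hv using AddSubgroup.closure_induction with
    | mem x hx =>
      obtain ⟨b, rfl⟩ := hx
      change ρ a (ρ b v₀) ∈ S
      rw [← rho_mul]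
      exact AddSubgroup.subset_closure ⟨a * b, rfl⟩
    | zero => rw [map_zero]; exact zero_mem _
    | add x y _ _ hx hy => rw [map_add]; exact add_mem hx hy
    | neg x _ hx => rw [map_neg]; exact neg_mem hx
  have hSN : ∀ v ∈ S, v ∈ N := by
    intro v hv
    have : S ≤ N.toAddSubgroup := by
      rw [AddSubgroup.closure_le]
      rintro _ ⟨a, rfl⟩
      exact hN a v₀ hv₀
    exact this hv
  have hfin : Finite S := by
    have hp : ∀ x : V, p • x = 0 := by
      intro x
      rw [← Nat.cast_smul_eq_nsmul k, CharP.cast_eq_zero, zero_smul]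
    let _ : Module (ZMod p) V := AddCommGroup.zmodModule (n := p) hp
    have h1 : (S : Set V) ⊆ (Submodule.span (ZMod p) (Set.range fun a : P => ρ a v₀) : Set V) := by
      have : S ≤ (Submodule.span (ZMod p) (Set.range fun a : P => ρ a v₀)).toAddSubgroup := by
        rw [AddSubgroup.closure_le]
        exact Submodule.subset_span
      exact this
    have h2 : Module.Finite (ZMod p)
        (Submodule.span (ZMod p) (Set.range fun a : P => ρ a v₀)) :=
      Module.Finite.span_of_finite _ (Set.finite_range _)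
    have h3 : Finite (Submodule.span (ZMod p) (Set.range fun a : P => ρ a v₀)) :=
      Module.finite_of_finite (ZMod p)
    exact Set.Finite.subset (Set.toFinite _) h1
  let _ : MulAction P S :=
    { smul := fun a v => ⟨ρ a v, hS a v v.2⟩
      one_smul := fun v => Subtype.ext (rho_one _)
      mul_smul := fun a b v => Subtype.ext (rho_mul _ _ _) }
  have hcard : p ∣ Nat.card S := by
    have h1 : (⟨ρ 1 v₀, AddSubgroup.subset_closure ⟨1, rfl⟩⟩ : S) ≠ 0 := by
      intro h
      have h2 : ρ 1 v₀ = 0 := congrArg Subtype.val h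
      rw [rho_one] at h2
      exact hv0 h2
    have h2 : addOrderOf (⟨ρ 1 v₀, AddSubgroup.subset_closure ⟨1, rfl⟩⟩ : S) = p := by
      apply addOrderOf_eq_prime _ h1
      apply Subtype.ext
      change p • (ρ 1 v₀) = 0
      rw [← Nat.cast_smul_eq_nsmul k, CharP.cast_eq_zero, zero_smul]
    rw [← h2]
    exact addOrderOf_dvd_natCard _
  have hmod := hP.card_modEq_card_fixedPoints (α := S)
  have hdvd : p ∣ Nat.card (MulAction.fixedPoints P S) :=
    (Nat.modEq_zero_iff_dvd.1 ((hmod.symm.trans (Nat.modEq_zero_iff_dvd.2 hcard))))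
  have h0 : (0 : S) ∈ MulAction.fixedPoints P S := by
    intro a
    exact Subtype.ext (map_zero _)
  have h1 : 1 < Nat.card (MulAction.fixedPoints P S) := by
    have : 0 < Nat.card (MulAction.fixedPoints P S) :=
      Nat.card_pos_iff.2 ⟨⟨⟨0, h0⟩⟩, inferInstance⟩
    exact lt_of_lt_of_le (Fact.out : p.Prime).one_lt (Nat.le_of_dvd this hdvd)
  rw [Finite.one_lt_card_iff_nontrivial] at h1
  obtain ⟨⟨w, hw⟩, hne⟩ := exists_ne (⟨0, h0⟩ : MulAction.fixedPoints P S)
  refine ⟨w, hSN _ w.2, ?_, ?_⟩
  · intro h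
    apply hne
    apply Subtype.ext
    exact Subtype.ext h
  · intro a
    exact congrArg Subtype.val (hw a)

end Cfsg.Agent.H583.PFixed
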