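import Cfsg.Agent.H583.L3Group

/-! `l3`, a piece of S4363 (Turull's theorem). -/

namespace Cfsg.Agent.H583.L3

open Subgroup
open scoped Pointwise commutatorElement

theorem fixed_coset' {G : Type*} [Group G] [Finite G] (Q N : Subgroup G) (τ : G) {r : ℕ}
    (hr : r.Prime) (hτ : τ ^ r = 1) (hrQ : ¬ r ∣ Nat.card Q) (hτQ : τ ∈ normalizer (Q : Set G))
    (hNQ : N ≤ Q) (hN : ∀ x ∈ N, τ * x * τ⁻¹ ∈ N) (x : G) (hx : x ∈ Q)
    (hxN : x⁻¹ * (τ * x * τ⁻¹) ∈ N) : ∃ n ∈ N, (x * n) * τ = τ * (x * n) := by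
  set s : MulAut Q := Q.normalizerMonoidHom ⟨τ, hτQ⟩ with hs
  have hsr : s ^ r = 1 := by
    ext x
    rw [hs, conj_pow_coe, hτ]; simp
  obtain ⟨k, hk, hk2⟩ := fixed_coset s hr hsr hrQ (N.subgroupOf Q) (by
    intro x hx
    rw [mem_subgroupOf] at hx ⊢
    exact hN _ hx) ⟨x, hx⟩ (by
      rw [mem_subgroupOf]
      exact hxN)
  refine ⟨k, hk, ?_⟩
  have h2 := congrArg (fun z : Q => (z : G)) hk2
  change τ * (x * k) * τ⁻¹ = x * k at h2
  rw [mul_inv_eq_iff_eq_mul] at h2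
  exact h2.symm

section tr

variable {M G : Type*} [AddCommGroup M] [Group G] [DistribMulAction G M]

/-- the trace of `m` along `⟨σ⟩`. -/
def tr (σ : G) (r : ℕ) (m : M) : M := ∑ j ∈ Finset.range r, (σ ^ j) • m

theorem tr_smul_one (σ : G) (r : ℕ) (hσ : σ ^ r = 1) (m : M) : tr σ r (σ • m) = tr σ r m := by
  unfold tr
  have h1 := Finset.sum_range_succ (fun j => (σ ^ j) • m) r
  have h2 := Finset.sum_range_succ' (fun j => (σ ^ j) • m) r
  rw [h1, hσ, pow_zero] at h2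
  have h3 := add_right_cancel h2
  rw [h3]
  apply Finset.sum_congr rfl
  intro j _
  rw [pow_succ, mul_smul]

theorem tr_smul (σ : G) (r : ℕ) (hσ : σ ^ r = 1) (k : ℕ) (m : M) :
    tr σ r ((σ ^ k) • m) = tr σ r m := by
  induction k with
  | zero => simp
  | succ k ih => rw [pow_succ', mul_smul, tr_smul_one σ r hσ, ih]

theorem smul_tr (σ : G) (r : ℕ) (d : G) (hd : d * σ = σ * d) (m : M) :
    d • tr σ r m = tr σ r (d • m) := by
  unfold tr
  rw [Finset.smul_sum]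
  apply Finset.sum_congr rfl
  intro j _
  rw [← mul_smul, ← mul_smul]
  congr 1
  exact (Commute.pow_right hd j)

theorem tr_sum (σ : G) (r : ℕ) {ι : Type*} (s : Finset ι) (f : ι → M) :
    tr σ r (∑ i ∈ s, f i) = ∑ i ∈ s, tr σ r (f i) := by
  unfold tr
  rw [Finset.sum_comm]
  apply Finset.sum_congr rfl
  intro j _
  rw [Finset.smul_sum]

theorem tr_fix (σ : G) (r : ℕ) (m : M) (hm : σ • m = m) : tr σ r m = r • m := by
  unfold tr
  have : ∀ j : ℕ, (σ ^ j) • m = m := by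
    intro j
    induction j with
    | zero => simp
    | succ j ih => rw [pow_succ', mul_smul, ih, hm]
  simp [this]

/-- `tr (t • tr (w • l)) = ∑ k, tr ((t * (σ ^ k * w * σ ^ (-k))) • l)` for a `σ`-fixed `l`. -/
theorem tr_tr (σ : G) (r : ℕ) (t w : G) (l : M) (hl : σ • l = l) :
    tr σ r (t • tr σ r (w • l)) =
      ∑ k ∈ Finset.range r, tr σ r ((t * (σ ^ k * w * (σ ^ k)⁻¹)) • l) := by
  have h1 : t • tr σ r (w • l) = ∑ k ∈ Finset.range r, t • (σ ^ k) • w • l := by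
    unfold tr
    rw [Finset.smul_sum]
  rw [h1, tr_sum]
  apply Finset.sum_congr rfl
  intro k _
  congr 1
  have h2 : ∀ j : ℕ, (σ ^ j)⁻¹ • l = l := by
    intro j
    rw [inv_smul_eq_iff]
    induction j with
    | zero => simp
    | succ j ih => rw [pow_succ', mul_smul, ← ih, hl]
  rw [mul_smul, mul_smul, mul_smul, h2]

end tr

theorem l3 {M G : Type*} [AddCommGroup M] [Group G] [Finite G] [DistribMulAction G M]
    (Q T : Subgroup G) (σ : G) (r : ℕ) (hr : r.Prime) (hσ : σ ^ r = 1)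
    (hrM : ∀ m : M, r • m = 0 → m = 0) (hrQ : ¬ r ∣ Nat.card Q) (hrT : ¬ r ∣ Nat.card T)
    (hQn : Group.IsNilpotent Q) (hσQ : σ ∈ normalizer (Q : Set G))
    (hTQ : T ≤ normalizer (Q : Set G)) (hTσ : ∀ t ∈ T, t * σ = σ * t)
    (hQσ : ⁅Q, zpowers σ⁆ = Q) (hQT : ⁅Q, T⁆ = Q)
    (hcen : ∀ c ∈ Q, c * σ = σ * c → ∀ x ∈ Q, c * x = x * c)
    (hC : ∀ m : M, (∀ x ∈ Q, x • m = m) → ∀ t ∈ T, t • m = m)
    (L : Set M) (hLQ : ∀ x ∈ Q, ∀ l ∈ L, x • l ∈ L)
    (hstar : ∀ l ∈ L, σ • l ≠ l → ∀ t ∈ T,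
      ∑ j ∈ Finset.range r, (σ ^ j) • t • l = ∑ j ∈ Finset.range r, (σ ^ j) • l) :
    ∀ l ∈ L, σ • l = l → ∀ t ∈ T, t • l = l := by
  classical
  intro l hlL hl
  by_contra hcon
  have hσl : ∀ j : ℕ, (σ ^ j) • l = l := by
    intro j
    induction j with
    | zero => simp
    | succ j ih => rw [pow_succ', mul_smul, ih, hl]
  -- the subgroup `N`
  let N : Subgroup G :=
    { carrier := {x | ∃ c ∈ Q, c * σ = σ * c ∧ ∃ s ∈ Q, s • l = l ∧ x = c * s}
      mul_mem' := by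
        rintro _ _ ⟨c, hc, hcσ, s, hs, hsl, rfl⟩ ⟨c', hc', hcσ', s', hs', hsl', rfl⟩
        refine ⟨c * c', Q.mul_mem hc hc', ?_, s * s', Q.mul_mem hs hs', ?_, ?_⟩
        · rw [mul_assoc, hcσ', ← mul_assoc, hcσ, mul_assoc]
        · rw [mul_smul, hsl', hsl]
        · have h := hcen c' hc' hcσ' s hs
          calc c * s * (c' * s') = c * (s * c') * s' := by group
            _ = c * (c' * s) * s' := by rw [h]
            _ = c * c' * (s * s') := by group
      one_mem' := ⟨1, Q.one_mem, by simp, 1, Q.one_mem, by simp, by simp⟩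
      inv_mem' := by
        rintro _ ⟨c, hc, hcσ, s, hs, hsl, rfl⟩
        refine ⟨c⁻¹, Q.inv_mem hc, ?_, s⁻¹, Q.inv_mem hs, ?_, ?_⟩
        · exact (Commute.inv_left (show Commute c σ from hcσ)).eq
        · rw [inv_smul_eq_iff, hsl]
        · have h := hcen c hc hcσ s hs
          rw [← mul_inv_rev, ← h] }
  have hNmem : ∀ x, x ∈ N ↔ ∃ c ∈ Q, c * σ = σ * c ∧ ∃ s ∈ Q, s • l = l ∧ x = c * s := fun x =>
    Iff.rfl
  have hNQ : N ≤ Q := by
    rintro _ ⟨c, hc, hcσ, s, hs, hsl, rfl⟩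
    exact Q.mul_mem hc hs
  have hconjQ : ∀ (k : ℕ), ∀ x ∈ Q, σ ^ k * x * (σ ^ k)⁻¹ ∈ Q := by
    intro k x hx
    exact (mem_normalizer_iff.mp ((normalizer (Q : Set G)).pow_mem hσQ k) x).mp hx
  have hσNk : ∀ (k : ℕ), ∀ x ∈ N, σ ^ k * x * (σ ^ k)⁻¹ ∈ N := by
    rintro k _ ⟨c, hc, hcσ, s, hs, hsl, rfl⟩
    refine ⟨c, hc, hcσ, σ ^ k * s * (σ ^ k)⁻¹, hconjQ k s hs, ?_, ?_⟩
    · rw [mul_smul, mul_smul]
      have : (σ ^ k)⁻¹ • l = l := by rw [inv_smul_eq_iff, hσl]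
      rw [this, hsl, hσl]
    · have h : σ ^ k * c = c * σ ^ k := (Commute.pow_right (show Commute c σ from hcσ) k).eq.symm
      calc σ ^ k * (c * s) * (σ ^ k)⁻¹ = (σ ^ k * c) * s * (σ ^ k)⁻¹ := by group
        _ = (c * σ ^ k) * s * (σ ^ k)⁻¹ := by rw [h]
        _ = _ := by group
  have hσN : ∀ x ∈ N, σ * x * σ⁻¹ ∈ N := by
    intro x hx
    have := hσNk 1 x hx
    simpa using this
  have hCN : ∀ c ∈ Q, c * σ = σ * c → c ∈ N := by
    intro c hc hcσ
    exact ⟨c, hc, hcσ, 1, Q.one_mem, by simp, by simp⟩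
  -- fixed points
  have hN3 : ∀ y ∈ Q, σ • y • l = y • l → y ∈ N := by
    intro y hy hyl
    let S : Subgroup G := Q ⊓ MulAction.stabilizer G l
    have hS : ∀ x, x ∈ S ↔ x ∈ Q ∧ x • l = l := fun x => Iff.rfl
    obtain ⟨n, hn, hyn⟩ := fixed_coset' Q S σ hr hσ hrQ hσQ inf_le_left (by
      intro x hx
      rw [hS] at hx ⊢
      refine ⟨by simpa using hconjQ 1 x hx.1, ?_⟩
      rw [mul_smul, mul_smul]
      have : σ⁻¹ • l = l := by rw [inv_smul_eq_iff, hl]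
      rw [this, hx.2, hl]) y hy (by
        rw [hS]
        refine ⟨Q.mul_mem (Q.inv_mem hy) (by simpa using hconjQ 1 y hy), ?_⟩
        rw [mul_smul, mul_smul, mul_smul]
        have : σ⁻¹ • l = l := by rw [inv_smul_eq_iff, hl]
        rw [this, hyl, inv_smul_smul])
    rw [hS] at hn
    refine ⟨y * n, Q.mul_mem hy hn.1, hyn, n⁻¹, Q.inv_mem hn.1, ?_, by group⟩
    rw [inv_smul_eq_iff, hn.2]
  -- translates
  have hN4 : ∀ u ∈ Q, ∀ k : ℕ, 0 < k → k < r → u * (σ ^ k * u⁻¹ * (σ ^ k)⁻¹) ∈ N → u ∈ N := by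
    intro u hu k hk0 hkr hk
    obtain ⟨n, hn, hyn⟩ := fixed_coset' Q N (σ ^ k) hr
      (by rw [← pow_mul, mul_comm, pow_mul, hσ, one_pow]) hrQ
      ((normalizer (Q : Set G)).pow_mem hσQ k) hNQ (hσNk k) u⁻¹ (Q.inv_mem hu) (by
        rw [inv_inv]; exact hk)
    have hcop : Nat.Coprime k r := by
      apply Nat.Coprime.symm
      rw [hr.coprime_iff_not_dvd]
      intro hd
      exact absurd (Nat.le_of_dvd hk0 hd) (by omega)
    obtain ⟨m, -, hm⟩ := Nat.exists_mul_mod_eq_one_of_coprime hcop hr.one_lt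
    have h10 : (σ ^ k) ^ m = σ := by
      rw [← pow_mul]
      conv_lhs => rw [← Nat.div_add_mod (k * m) r]
      rw [hm, pow_add, pow_mul, hσ, one_pow, one_mul, pow_one]
    have h11 : (u⁻¹ * n) * σ = σ * (u⁻¹ * n) := by
      have := (Commute.pow_right (show Commute (u⁻¹ * n) (σ ^ k) from hyn) m).eq
      rwa [h10] at this
    have h12 := hCN _ (Q.mul_mem (Q.inv_mem hu) (hNQ hn)) h11
    have h13 := N.mul_mem h12 (N.inv_mem hn)
    have h14 := N.inv_mem h13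
    simpa using h14
  -- the traces of `y • l` for `y ∉ N`
  have hP : ∀ y ∈ Q, y ∉ N → ∀ d ∈ T, d • tr σ r (y • l) = tr σ r (y • l) := by
    intro y hy hyN d hd
    rw [smul_tr σ r d (hTσ d hd)]
    exact hstar (y • l) (hLQ y hy l hlL) (fun h => hyN (hN3 y hy h)) d hd
  have hNQeq : N = Q := by
    apply eq_of_cover Q T N σ hr hσ hrQ hrT hQn hσQ hTQ hTσ hQT hNQ hσN hCN
    intro d hd t ht
    by_contra hno
    push Not at hno
    obtain ⟨hu, hk⟩ := hno
    apply hcon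
    intro e he
    set u := d * t * d⁻¹ with hudef
    have huQ : u ∈ Q := (mem_normalizer_iff.mp (hTQ hd) t).mp ht
    have hw : u⁻¹ ∉ N := fun h => hu (by simpa using N.inv_mem h)
    have hA : d • tr σ r (t • tr σ r (u⁻¹ • l)) = tr σ r (u • tr σ r (u⁻¹ • l)) := by
      rw [smul_tr σ r d (hTσ d hd)]
      congr 1
      have h1 : d • t • tr σ r (u⁻¹ • l) = u • d • tr σ r (u⁻¹ • l) := by
        rw [← mul_smul, ← mul_smul]
        congr 1
        rw [hudef]; group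
      rw [h1, hP u⁻¹ (Q.inv_mem huQ) hw d hd]
    rw [tr_tr σ r t _ l hl, tr_tr σ r u _ l hl] at hA
    have hfixL : ∀ e ∈ T, e • (∑ k ∈ Finset.range r,
        tr σ r ((t * (σ ^ k * u⁻¹ * (σ ^ k)⁻¹)) • l)) = ∑ k ∈ Finset.range r,
        tr σ r ((t * (σ ^ k * u⁻¹ * (σ ^ k)⁻¹)) • l) := by
      intro e he
      rw [Finset.smul_sum]
      apply Finset.sum_congr rfl
      intro k hkr
      rw [Finset.mem_range] at hkr
      apply hP _ (Q.mul_mem ht (hconjQ k _ (Q.inv_mem huQ))) _ e he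
      intro h
      apply hk k hkr
      have h2 : (σ ^ k * u * (σ ^ k)⁻¹)⁻¹ = σ ^ k * u⁻¹ * (σ ^ k)⁻¹ := by group
      rw [h2]
      exact h
    have hr1 : r = (r - 1) + 1 := by have := hr.pos; omega
    have hsplit : ∑ k ∈ Finset.range r, tr σ r ((u * (σ ^ k * u⁻¹ * (σ ^ k)⁻¹)) • l) =
        (∑ k ∈ Finset.range (r - 1),
          tr σ r ((u * (σ ^ (k + 1) * u⁻¹ * (σ ^ (k + 1))⁻¹)) • l)) + r • l := by
      have h1 := Finset.sum_range_succ'
        (fun k => tr σ r ((u * (σ ^ k * u⁻¹ * (σ ^ k)⁻¹)) • l)) (r - 1)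
      rw [← hr1] at h1
      rw [h1]
      congr 1
      simp only [pow_zero, one_mul, inv_one, mul_one, mul_inv_cancel, one_smul]
      exact tr_fix σ r l hl
    have hfixR : ∀ e ∈ T, e • (∑ k ∈ Finset.range (r - 1),
        tr σ r ((u * (σ ^ (k + 1) * u⁻¹ * (σ ^ (k + 1))⁻¹)) • l)) =
          ∑ k ∈ Finset.range (r - 1),
        tr σ r ((u * (σ ^ (k + 1) * u⁻¹ * (σ ^ (k + 1))⁻¹)) • l) := by
      intro e he
      rw [Finset.smul_sum]
      apply Finset.sum_congr rfl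
      intro k hkr
      rw [Finset.mem_range] at hkr
      apply hP _ (Q.mul_mem huQ (hconjQ (k + 1) _ (Q.inv_mem huQ))) _ e he
      intro h
      exact hu (hN4 u huQ (k + 1) (by omega) (by omega) h)
    rw [hsplit, hfixL d hd] at hA
    have hrl : ∀ e ∈ T, e • (r • l) = r • l := by
      intro e he
      have h1 : r • l = (∑ k ∈ Finset.range r, tr σ r ((t * (σ ^ k * u⁻¹ * (σ ^ k)⁻¹)) • l)) -
          ∑ k ∈ Finset.range (r - 1),
            tr σ r ((u * (σ ^ (k + 1) * u⁻¹ * (σ ^ (k + 1))⁻¹)) • l) := by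
        rw [hA]; abel
      rw [h1, smul_sub, hfixL e he, hfixR e he]
    have h2 := hrl e he
    have h3 : r • (e • l - l) = 0 := by
      rw [smul_sub, smul_comm r e l, h2, sub_self]
    exact sub_eq_zero.mp (hrM _ h3)
  -- conclusion
  apply hcon
  apply hC
  have hfin : ⁅Q, zpowers σ⁆ ≤ Q ⊓ MulAction.stabilizer G l := by
    rw [Subgroup.commutator_le]
    intro x hx g hg
    have hgl : ∀ g ∈ zpowers σ, g • l = l := by
      intro g hg
      have h1 : zpowers σ ≤ MulAction.stabilizer G l := by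
        rw [zpowers_le]; exact hl
      exact h1 hg
    rw [← hNQeq] at hx
    obtain ⟨c, hc, hcσ, s, hs, hsl, rfl⟩ := hx
    have hgn : g ∈ normalizer (Q : Set G) := by
      have h1 : zpowers σ ≤ normalizer (Q : Set G) := by
        rw [zpowers_le]; exact hσQ
      exact h1 hg
    have hgc : g * c = c * g := by
      have h1 : zpowers σ ≤ centralizer ({c} : Set G) := by
        rw [zpowers_le, mem_centralizer_singleton_iff]; exact hcσ.symm
      have := h1 hg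
      rw [mem_centralizer_singleton_iff] at this
      exact this
    have hsg : g * s⁻¹ * g⁻¹ ∈ Q := (mem_normalizer_iff.mp hgn _).mp (Q.inv_mem hs)
    have hcs := hcen c hc hcσ (s * (g * s⁻¹ * g⁻¹)) (Q.mul_mem hs hsg)
    have h3 : ⁅c * s, g⁆ = s * (g * s⁻¹ * g⁻¹) := by
      rw [commutatorElement_def]
      have h4 : g * c⁻¹ = c⁻¹ * g := (Commute.inv_right (show Commute g c from hgc)).eq
      calc c * s * g * (c * s)⁻¹ * g⁻¹ = c * (s * (g * s⁻¹ * (c⁻¹ * g⁻¹))) := by group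
        _ = c * (s * (g * s⁻¹ * (g⁻¹ * c⁻¹))) := by
            have h5 : c⁻¹ * g⁻¹ = g⁻¹ * c⁻¹ := by
              rw [← mul_inv_rev, ← mul_inv_rev, hgc]
            rw [h5]
        _ = (c * (s * (g * s⁻¹ * g⁻¹))) * c⁻¹ := by group
        _ = _ := by rw [hcs]; group
    rw [h3]
    refine ⟨Q.mul_mem hs hsg, ?_⟩
    change (s * (g * s⁻¹ * g⁻¹)) • l = l
    rw [mul_smul, mul_smul, mul_smul]
    have h6 : g⁻¹ • l = l := by rw [inv_smul_eq_iff, hgl g hg]
    have h7 : s⁻¹ • l = l := by rw [inv_smul_eq_iff, hsl]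
    rw [h6, h7, hgl g hg, hsl]
  rw [hQσ] at hfin
  intro x hx
  exact (hfin hx).2

end Cfsg.Agent.H583.L3
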