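import Cfsg.Agent.H583.ColCoord
import Cfsg.Agent.H583.ColTri

/-!
# Affine coordinates: basic facts, prime degree (helper583)
-/

set_option autoImplicit false

universe u w

namespace Cfsg.Agent.H583.Col

open MulAction
open scoped Pointwise commutatorElement

namespace Coord

variable {G : Type u} {Ω : Type w} [Group G] [MulAction G Ω] {r k : ℕ} (C : Coord G Ω r k)

include C in
theorem card_eq (hr : r.Prime) : Nat.card Ω = r ^ k := by
  have : NeZero r := ⟨hr.ne_zero⟩
  rw [Nat.card_congr C.e, Nat.card_eq_fintype_card, Fintype.card_fun, ZMod.card,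
    Fintype.card_fin]

theorem smul_eq (g : G) (ω : Ω) : C.T g (C.e ω) + C.t g = C.e (g • ω) := (C.smul g ω).symm

theorem T_inj (g : G) : Function.Injective (C.T g) := by
  intro x y hxy
  have h1 := C.smul g (C.e.symm x)
  have h2 := C.smul g (C.e.symm y)
  rw [Equiv.apply_symm_apply] at h1 h2
  rw [hxy, ← h2] at h1
  have h3 := smul_left_cancel g (C.e.injective h1)
  exact C.e.symm.injective h3

theorem apply_eq (g : G) (x : Fin k → ZMod r) : C.T g x + C.t g = C.e (g • C.e.symm x) := by
  rw [C.smul, Equiv.apply_symm_apply]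

theorem t_eq (g : G) : C.t g = C.e (g • C.e.symm 0) := by
  rw [← C.apply_eq, map_zero, zero_add]

theorem t_mul (g h : G) : C.t (g * h) = C.T g (C.t h) + C.t g := by
  rw [C.t_eq (g * h), mul_smul, C.smul, ← C.t_eq h]

theorem T_mul (g h : G) (x : Fin k → ZMod r) : C.T (g * h) x = C.T g (C.T h x) := by
  have h1 := C.apply_eq (g * h) x
  rw [mul_smul, C.smul, C.smul, Equiv.apply_symm_apply, C.t_mul, map_add, ← add_assoc] at h1
  rw [← add_left_inj (C.T g (C.t h)), ← add_left_inj (C.t g), h1]

theorem t_one : C.t 1 = 0 := by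
  rw [C.t_eq, one_smul, Equiv.apply_symm_apply]

theorem T_one (x : Fin k → ZMod r) : C.T 1 x = x := by
  have h1 := C.apply_eq 1 x
  rwa [one_smul, Equiv.apply_symm_apply, C.t_one, add_zero] at h1

/-- elements with trivial linear part -/
def ker : Subgroup G where
  carrier := {g | ∀ x, C.T g x = x}
  one_mem' := C.T_one
  mul_mem' := by
    intro a b ha hb x
    rw [C.T_mul, hb, ha]
  inv_mem' := by
    intro a ha x
    have h1 := C.T_mul a a⁻¹ x
    rw [mul_inv_cancel, C.T_one, ha] at h1
    exact h1.symm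

theorem tri_succ {m : ℕ} (h : derivedSeries G m ≤ C.ker) : Tri G Ω (m + 1) := by
  intro g hg
  have h1 : derivedSeries G (m + 1) ≤ (toPermHom G Ω).ker := by
    rw [derivedSeries_succ, Subgroup.commutator_le]
    intro a ha b hb
    have h2 : ∀ ω : Ω, (a * b) • ω = (b * a) • ω := by
      intro ω
      apply C.e.injective
      rw [mul_smul, mul_smul, C.smul, C.smul, C.smul, C.smul, h ha, h hb, h ha, h hb]
      abel
    rw [MonoidHom.mem_ker, map_commutatorElement, commutatorElement_eq_one_iff_mul_comm,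
      ← map_mul, ← map_mul, Equiv.Perm.ext_iff]
    exact h2
  intro ω
  exact DFunLike.congr_fun (MonoidHom.mem_ker.mp (h1 hg)) ω

theorem smul_eq_self {g : G} (h1 : C.t g = 0) (h2 : ∀ x, C.T g x = x) (ω : Ω) : g • ω = ω := by
  apply C.e.injective
  rw [C.smul, h1, h2, add_zero]

/-- an element which fixes the origin and the basis vectors is trivial -/
theorem smul_eq_of_basis {g : G} (h0 : g • C.e.symm 0 = C.e.symm 0)
    (h : ∀ i, g • C.e.symm (Pi.single i 1) = C.e.symm (Pi.single i 1)) (ω : Ω) : g • ω = ω := by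
  classical
  have ht : C.t g = 0 := by rw [C.t_eq, h0, Equiv.apply_symm_apply]
  refine C.smul_eq_self ht (fun x => ?_) ω
  have hT : ∀ i, C.T g (Pi.single i 1) = Pi.single i 1 := by
    intro i
    have h1 := C.apply_eq g (Pi.single i 1)
    rwa [h i, Equiv.apply_symm_apply, ht, add_zero] at h1
  have hx : x = ∑ i, x i • (Pi.single i 1 : Fin k → ZMod r) := by
    conv_lhs => rw [← Finset.univ_sum_single x]
    refine Finset.sum_congr rfl (fun i _ => ?_)
    rw [← Pi.single_smul, smul_eq_mul, mul_one]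
  conv_lhs => rw [hx]
  conv_rhs => rw [hx]
  rw [map_sum]
  refine Finset.sum_congr rfl (fun i _ => ?_)
  rw [ZMod.map_smul, hT]

end Coord

section Prime

variable {G : Type u} {Ω : Type w} [Group G] [MulAction G Ω]

theorem Coord.T_scalar {r : ℕ} (C : Coord G Ω r 1) (g : G) (x : Fin 1 → ZMod r) :
    C.T g x = (C.T g (fun _ => 1) 0) • x := by
  have hx : x = (x 0) • (fun _ => (1 : ZMod r)) := by
    funext i
    rw [Subsingleton.elim i 0, Pi.smul_apply, smul_eq_mul, mul_one]
  funext i
  rw [Subsingleton.elim i 0]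
  conv_lhs => rw [hx]
  rw [ZMod.map_smul, Pi.smul_apply, Pi.smul_apply, smul_eq_mul, smul_eq_mul, mul_comm]

theorem tri_coord_one {r : ℕ} (C : Coord G Ω r 1) : Tri G Ω 2 := by
  refine C.tri_succ (m := 1) ?_
  rw [derivedSeries_succ, Subgroup.commutator_le]
  intro a _ b _
  have hcomm : ∀ x, C.T (a * b) x = C.T (b * a) x := by
    intro x
    rw [C.T_mul, C.T_mul, C.T_scalar a, C.T_scalar b, C.T_scalar b (C.T a x), C.T_scalar a x,
      smul_smul, smul_smul, mul_comm]
  intro x
  have h1 : ⁅a, b⁆ = (a * b) * (b * a)⁻¹ := by rw [commutatorElement_def]; group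
  rw [h1, C.T_mul, hcomm, ← C.T_mul, mul_inv_cancel, C.T_one]

theorem fix_two_coord {r : ℕ} (hr : r.Prime) (C : Coord G Ω r 1) {g : G} {ω1 ω2 : Ω}
    (hne : ω1 ≠ ω2) (h1 : g • ω1 = ω1) (h2 : g • ω2 = ω2) (ω : Ω) : g • ω = ω := by
  have : Fact r.Prime := ⟨hr⟩
  have e1 := C.smul g ω1
  have e2 := C.smul g ω2
  rw [h1] at e1
  rw [h2] at e2
  set a := C.e ω1
  set b := C.e ω2
  have hab : a ≠ b := fun h => hne (C.e.injective h)
  have hd : C.T g (a - b) = a - b := by
    rw [map_sub]
    conv_rhs => rw [e1, e2]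
    abel
  have h0 : (a - b) 0 ≠ 0 := by
    intro h
    apply hab
    rw [← sub_eq_zero]
    funext i
    rw [Subsingleton.elim i 0, h]; rfl
  have hs : C.T g (fun _ => 1) 0 = 1 := by
    rw [C.T_scalar g (a - b)] at hd
    have h3 := congrFun hd 0
    rw [Pi.smul_apply, smul_eq_mul] at h3
    exact mul_right_cancel₀ h0 (by rw [h3, one_mul])
  have hT : ∀ x, C.T g x = x := by
    intro x
    rw [C.T_scalar g x, hs, one_smul]
  refine C.smul_eq_self ?_ hT ω
  rw [hT] at e1
  exact left_eq_add.mp e1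

/-- the image of a group in the permutations -/
theorem tri_of_range {m : ℕ} (h : Tri (toPermHom G Ω).range Ω m) : Tri G Ω m := by
  intro g hg ω
  have h1 := map_derivedSeries_le_derivedSeries (toPermHom G Ω).rangeRestrict m
    (Subgroup.mem_map_of_mem _ hg)
  exact h _ h1 ω

theorem range_solvable [Group.IsSolvable G] : Group.IsSolvable (toPermHom G Ω).range := by
  exact Group.isSolvable_of_surjective (toPermHom G Ω).rangeRestrict_surjective

theorem range_trans [IsPretransitive G Ω] : IsPretransitive (toPermHom G Ω).range Ω := by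
  refine ⟨fun x y => ?_⟩
  obtain ⟨g, hg⟩ := MulAction.exists_smul_eq G x y
  exact ⟨⟨toPermHom G Ω g, g, rfl⟩, hg⟩

theorem coord_of_prime [Group.IsSolvable G] [IsPretransitive G Ω]
    (hp : (Nat.card Ω).Prime) :
    ∃ r : ℕ, r.Prime ∧ Nonempty (Coord (toPermHom G Ω).range Ω r 1) := by
  have hfin : Finite Ω := (Nat.card_ne_zero.mp hp.ne_zero).2
  have : IsPretransitive (toPermHom G Ω).range Ω := range_trans
  have hprim := IsPreprimitive.of_prime_card (G := (toPermHom G Ω).range) (X := Ω) hp
  have hs : Group.IsSolvable (toPermHom G Ω).range := range_solvable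
  obtain ⟨r, k, hr, ⟨C⟩⟩ := exists_coord hprim hp.one_lt
  have hc := C.card_eq hr
  have hk : k = 1 := by
    rw [hc] at hp
    exact Nat.Prime.eq_one_of_pow hp
  subst hk
  exact ⟨r, hr, ⟨C⟩⟩

theorem tri_prime [Group.IsSolvable G] [IsPretransitive G Ω] (hp : (Nat.card Ω).Prime) :
    Tri G Ω 2 := by
  obtain ⟨r, hr, ⟨C⟩⟩ := coord_of_prime (G := G) hp
  exact tri_of_range (tri_coord_one C)

/-- Galois: in a solvable transitive group of prime degree, an element which fixes two points is
trivial. -/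
theorem fix_two [Group.IsSolvable G] [IsPretransitive G Ω] (hp : (Nat.card Ω).Prime) {g : G}
    {ω1 ω2 : Ω} (hne : ω1 ≠ ω2) (h1 : g • ω1 = ω1) (h2 : g • ω2 = ω2) (ω : Ω) : g • ω = ω := by
  obtain ⟨r, hr, ⟨C⟩⟩ := coord_of_prime (G := G) hp
  exact fix_two_coord hr C (g := ⟨toPermHom G Ω g, g, rfl⟩) hne h1 h2 ω

/-- degree six -/
theorem tri_six [Group.IsSolvable G] [IsPretransitive G Ω] (h6 : Nat.card Ω = 6) :
    Tri G Ω 3 := by
  have hfin : Finite Ω := (Nat.card_ne_zero.mp (by omega)).2
  apply tri_of_range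
  have : IsPretransitive (toPermHom G Ω).range Ω := range_trans
  have hs : Group.IsSolvable (toPermHom G Ω).range := range_solvable
  by_cases hprim : IsPreprimitive (toPermHom G Ω).range Ω
  · exfalso
    obtain ⟨r, k, hr, ⟨C⟩⟩ := exists_coord hprim (by omega)
    have hc := C.card_eq hr
    rw [h6] at hc
    have h2 : 2 ∣ r ^ k := by rw [← hc]; norm_num
    have h3 : 3 ∣ r ^ k := by rw [← hc]; norm_num
    have h2' := (Nat.prime_dvd_prime_iff_eq Nat.prime_two hr).mp (Nat.prime_two.dvd_of_dvd_pow h2)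
    have h3' := (Nat.prime_dvd_prime_iff_eq Nat.prime_three hr).mp
      (Nat.prime_three.dvd_of_dvd_pow h3)
    omega
  · have hB : ∃ B : Set Ω, IsBlock (toPermHom G Ω).range B ∧ ¬ IsTrivialBlock B := by
      by_contra hcon
      push Not at hcon
      exact hprim ⟨fun {B} hB => hcon B hB⟩
    obtain ⟨B, hB, hnt⟩ := hB
    have hne : B.Nontrivial := by
      rw [← Set.not_subsingleton_iff]
      intro h; exact hnt (Or.inl h)
    obtain ⟨y0, hy0⟩ := hne.nonempty
    have hmul := hB.ncard_block_mul_ncard_orbit_eq ⟨y0, hy0⟩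
    have h1 : 1 < B.ncard := Set.one_lt_ncard (Set.toFinite B) |>.mpr hne
    have h2 : B.ncard ≠ 6 := by
      intro h
      apply hnt
      right
      rw [Set.eq_univ_iff_ncard, h, h6]
    rw [h6] at hmul
    have hdvd : B.ncard ∣ 6 := Dvd.intro _ hmul
    have hle := Nat.le_of_dvd (by norm_num) hdvd
    have hcase : (B.ncard = 2 ∧ (orbit (toPermHom G Ω).range B).ncard = 3) ∨
        (B.ncard = 3 ∧ (orbit (toPermHom G Ω).range B).ncard = 2) := by
      have h3 : B.ncard = 2 ∨ B.ncard = 3 ∨ B.ncard = 4 ∨ B.ncard = 5 := by omega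
      rcases h3 with h3 | h3 | h3 | h3
      · left; rw [h3] at hmul; omega
      · right; rw [h3] at hmul; omega
      · rw [h3] at hmul; omega
      · rw [h3] at hmul; omega
    have hfo : ∀ K : Subgroup (toPermHom G Ω).range, ∀ S : SubMulAction K Ω, Finite S :=
      fun K S => Finite.of_injective (fun s : S => (s : Ω)) Subtype.coe_injective
    rcases hcase with ⟨h3, h4⟩ | ⟨h3, h4⟩
    · refine tri_imprim (a := 2) (b := 1) hy0 (tri_three ?_) (fun K S hS => ?_)
      · rw [Nat.card_coe_set_eq, h4]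
      · have := hfo K S
        exact tri_two (by rw [hS, h3])
    · refine tri_imprim (a := 1) (b := 2) hy0 (tri_two ?_) (fun K S hS => ?_)
      · rw [Nat.card_coe_set_eq, h4]
      · have := hfo K S
        exact tri_three (by rw [hS, h3])

/-- transitive groups of degree at most seven -/
theorem tri_seven_trans [Group.IsSolvable G] [IsPretransitive G Ω] [Finite Ω]
    (h7 : Nat.card Ω ≤ 7) : Tri G Ω 3 := by
  by_cases h4 : Nat.card Ω ≤ 4
  · exact tri_four h4
  have h : Nat.card Ω = 5 ∨ Nat.card Ω = 6 ∨ Nat.card Ω = 7 := by omega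
  rcases h with h | h | h
  · exact (tri_prime (G := G) (by rw [h]; norm_num)).mono (by norm_num)
  · exact tri_six h
  · exact (tri_prime (G := G) (by rw [h]; norm_num)).mono (by norm_num)

/-- **Solvable groups acting on at most seven points.** -/
theorem tri_seven [Group.IsSolvable G] [Finite Ω] (h7 : Nat.card Ω ≤ 7) : Tri G Ω 3 := by
  intro g hg ω
  have h1 : Nat.card (orbit G ω) ≤ 7 :=
    (Nat.card_le_card_of_injective _ Subtype.coe_injective).trans h7
  have h2 := tri_seven_trans (G := G) (Ω := orbit G ω) h1 g hg ⟨ω, mem_orbit_self ω⟩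
  exact congrArg Subtype.val h2

/-- an invariant set of size at most seven -/
theorem tri_seven_set [Group.IsSolvable G] (D : Set Ω) (hfin : D.Finite) (h7 : D.ncard ≤ 7)
    (hD : ∀ (g : G), ∀ x ∈ D, g • x ∈ D) {g : G} (hg : g ∈ derivedSeries G 3) {x : Ω}
    (hx : x ∈ D) : g • x = x := by
  let S : SubMulAction G Ω := { carrier := D, smul_mem' := fun c {x} hx => hD c x hx }
  have : Finite S := hfin
  have h1 : Nat.card S ≤ 7 := h7
  have h2 := tri_seven (G := G) (Ω := S) h1 g hg ⟨x, hx⟩
  exact congrArg Subtype.val h2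

end Prime

end Cfsg.Agent.H583.Col
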