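import Mathlib
import Cfsg.Agent.SolvableStructure.PrimitiveSolvable

/-!
# Affine coordinates for primitive solvable permutation groups (helper583)

* `Coord`: affine coordinates `Ω ≃ (Fin k → ZMod r)`.
* `exists_coord`: a faithful primitive solvable group has affine coordinates.
-/

set_option autoImplicit false

universe u w

namespace Cfsg.Agent.H583.Col

open MulAction
open Cfsg.Agent.SolvableStructure.MinimalNormal
open Cfsg.Agent.SolvableStructure.PrimitiveSolvable

/-- affine coordinates of an action -/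
structure Coord (G : Type u) (Ω : Type w) [Group G] [MulAction G Ω] (r k : ℕ) where
  e : Ω ≃ (Fin k → ZMod r)
  T : G → ((Fin k → ZMod r) →+ (Fin k → ZMod r))
  t : G → (Fin k → ZMod r)
  smul : ∀ g ω, e (g • ω) = T g (e ω) + t g

theorem elem_coord (A : Type u) [AddCommGroup A] [Finite A] {r : ℕ} (hr : r.Prime)
    (h : ∀ x : A, r • x = 0) : ∃ k : ℕ, Nonempty (A ≃+ (Fin k → ZMod r)) := by
  have : Fact r.Prime := ⟨hr⟩
  let i : Module (ZMod r) A := AddCommGroup.zmodModule (n := r) h
  have hfin : Module.Finite (ZMod r) A := Module.Finite.of_finite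
  exact ⟨_, ⟨(Module.finBasis (ZMod r) A).equivFun.toAddEquiv⟩⟩

/-- affine coordinates such that all translations belong to `G` -/
theorem exists_coord_trans {G : Type u} {Ω : Type w} [Group G] [Finite G] [Group.IsSolvable G]
    [MulAction G Ω] [FaithfulSMul G Ω] (hprim : IsPreprimitive G Ω) [Finite Ω]
    (hΩ : 1 < Nat.card Ω) :
    ∃ r k : ℕ, r.Prime ∧ ∃ C : Coord G Ω r k, ∀ x, ∃ m : G, (∀ y, C.T m y = y) ∧ C.t m = x := by
  classical
  have hΩne : Nonempty Ω := (Nat.card_pos_iff.mp (by omega)).1
  obtain ⟨ω0⟩ := hΩne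
  have hnt : Nontrivial G := by
    by_contra hcon
    rw [not_nontrivial_iff_subsingleton] at hcon
    have hsub : Subsingleton Ω := by
      refine ⟨fun a b => ?_⟩
      obtain ⟨g, hg⟩ := MulAction.exists_smul_eq G a b
      rw [Subsingleton.elim g 1, one_smul] at hg
      exact hg
    rw [Nat.card_of_subsingleton ω0] at hΩ
    omega
  -- a minimal normal subgroup
  obtain ⟨M, ⟨hMn, hM⟩, hmin⟩ := Set.Finite.exists_minimal
    (s := {M : Subgroup G | M.Normal ∧ M ≠ ⊥}) (Set.toFinite _) ⟨⊤, inferInstance, top_ne_bot⟩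
  have hmin' : ∀ K : Subgroup G, K.Normal → K ≤ M → K = ⊥ ∨ K = M := by
    intro K hK hKM
    by_cases h : K = ⊥
    · exact Or.inl h
    · exact Or.inr (le_antisymm hKM (hmin ⟨hK, h⟩ hKM))
  have htrans := isPretransitive_of_normal hprim M hM
  have hcomm := comm_of_minimal_normal M hM hmin'
  have hstab := stabilizer_eq_bot_of_comm (Ω := Ω) M hcomm ω0
  obtain ⟨r, d, hr, -, -, hpow⟩ := exists_prime_of_minimal_normal M hM hmin'
  let _ : CommGroup M :=
    { (inferInstance : Group M) with
      mul_comm := fun a b => Subtype.ext (hcomm a a.2 b b.2) }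
  -- the bijection `M → Ω`
  have hinj : ∀ a b : M, a • ω0 = b • ω0 → a = b := by
    intro a b hab
    have : b⁻¹ * a ∈ stabilizer M ω0 := by
      rw [mem_stabilizer_iff, mul_smul, hab, inv_smul_smul]
    rw [hstab, Subgroup.mem_bot] at this
    exact (inv_mul_eq_one.mp this).symm
  let f : M ≃ Ω := Equiv.ofBijective (fun m => m • ω0)
    ⟨fun a b hab => hinj a b hab, fun ω => MulAction.exists_smul_eq M ω0 ω⟩
  have hf : ∀ m : M, f m = m • ω0 := fun m => rfl
  -- the vector space
  obtain ⟨k, ⟨b⟩⟩ := elem_coord (Additive M) hr (fun x => by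
    apply Additive.toMul.injective
    apply Subtype.ext
    exact hpow _ (Additive.toMul x).2)
  refine ⟨r, k, hr, ?_⟩
  let T : G → (Additive M →+ Additive M) := fun g =>
    MonoidHom.toAdditive (MulAut.conjNormal g : M ≃* M).toMonoidHom
  have hT : ∀ g (m : M), ((Additive.toMul (T g (Additive.ofMul m)) : M) : G) = g * m * g⁻¹ :=
    fun g m => MulAut.conjNormal_apply g m
  let t : G → Additive M := fun g => Additive.ofMul (f.symm (g • ω0))
  have ht : ∀ g, ((Additive.toMul (t g) : M) : G) • ω0 = g • ω0 := by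
    intro g
    have := f.apply_symm_apply (g • ω0)
    exact this
  refine ⟨
    { e := (f.symm.trans Additive.ofMul).trans b.toEquiv
      T := fun g => (b.toAddMonoidHom.comp (T g)).comp b.symm.toAddMonoidHom
      t := fun g => b (t g)
      smul := ?_ }, ?_⟩
  · intro g ω
    obtain ⟨m, rfl⟩ := f.surjective ω
    have key : f.symm (g • f m) = Additive.toMul (T g (Additive.ofMul m) + t g) := by
      rw [Equiv.symm_apply_eq, hf, hf]
      have h1 : Additive.toMul (T g (Additive.ofMul m) + t g) =
        Additive.toMul (T g (Additive.ofMul m)) * Additive.toMul (t g) := rfl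
      rw [h1, mul_smul]
      change g • ((m : G) • ω0) = ((Additive.toMul (T g (Additive.ofMul m)) : M) : G) •
        ((Additive.toMul (t g) : M) : G) • ω0
      rw [ht, hT, ← mul_smul, ← mul_smul, inv_mul_cancel_right]
    change b (Additive.ofMul (f.symm (g • f m))) =
      b (T g (b.symm (b (Additive.ofMul (f.symm (f m)))))) + b (t g)
    rw [key, f.symm_apply_apply, b.symm_apply_apply, ← map_add]
    rfl
  · intro x
    obtain ⟨y, rfl⟩ := b.surjective x
    refine ⟨((Additive.toMul y : M) : G), fun z => ?_, ?_⟩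
    · obtain ⟨w, rfl⟩ := b.surjective z
      change b (T _ (b.symm (b w))) = b w
      rw [b.symm_apply_apply]
      congr 1
      apply Additive.toMul.injective
      apply Subtype.ext
      have h2 := hT ((Additive.toMul y : M) : G) (Additive.toMul w)
      rw [ofMul_toMul] at h2
      rw [h2, hcomm _ (Additive.toMul y).2 _ (Additive.toMul w).2, mul_inv_cancel_right]
    · change b (Additive.ofMul (f.symm (((Additive.toMul y : M) : G) • ω0))) = b y
      congr 1
      have h3 : f.symm (((Additive.toMul y : M) : G) • ω0) = Additive.toMul y :=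
        f.symm_apply_apply (Additive.toMul y)
      rw [h3, ofMul_toMul]

theorem exists_coord {G : Type u} {Ω : Type w} [Group G] [Finite G] [Group.IsSolvable G]
    [MulAction G Ω] [FaithfulSMul G Ω] (hprim : IsPreprimitive G Ω) [Finite Ω]
    (hΩ : 1 < Nat.card Ω) :
    ∃ r k : ℕ, r.Prime ∧ Nonempty (Coord G Ω r k) := by
  obtain ⟨r, k, hr, C, -⟩ := exists_coord_trans hprim hΩ
  exact ⟨r, k, hr, ⟨C⟩⟩

end Cfsg.Agent.H583.Col
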