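import Cfsg.Agent.H583.ColPath

/-!
# Rigid four-colourings: degree eight, main theorem (helper583)

* `r4`: five inequivalent rigid 4-colourings.
-/

set_option autoImplicit false

universe u w

namespace Cfsg.Agent.H583.Col

open MulAction
open scoped Pointwise

variable {G : Type u} {Ω : Type w} [Group G] [MulAction G Ω]

/-- the point stabiliser acts irreducibly -/
theorem irr {r k : ℕ} (C : Coord G Ω r k)
    (htr : ∀ x, ∃ m : G, (∀ y, C.T m y = y) ∧ C.t m = x) (hprim : IsPreprimitive G Ω)
    (H : AddSubgroup (Fin k → ZMod r))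
    (hH : ∀ g, C.t g = 0 → ∀ x ∈ H, C.T g x ∈ H) : H = ⊥ ∨ H = ⊤ := by
  have hH' : ∀ g, ∀ x ∈ H, C.T g x ∈ H := by
    intro g x hx
    obtain ⟨m, hm1, hm2⟩ := htr (-(C.t g))
    have h1 : C.t (m * g) = 0 := by rw [C.t_mul, hm1, hm2, add_neg_cancel]
    have h2 := hH (m * g) h1 x hx
    rwa [C.T_mul, hm1] at h2
  let B : Set Ω := {ω | C.e ω ∈ H}
  have hsub : ∀ g : G, C.t g ∈ H → g • B ⊆ B := by
    rintro g hg _ ⟨ω, hω, rfl⟩
    change C.e (g • ω) ∈ H
    rw [C.smul]
    exact H.add_mem (hH' g _ hω) hg
  have hinv : ∀ g : G, C.t g ∈ H → C.t g⁻¹ ∈ H := by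
    intro g hg
    have h1 : C.t (g⁻¹ * g) = 0 := by rw [inv_mul_cancel, C.t_one]
    rw [C.t_mul] at h1
    rw [eq_neg_of_add_eq_zero_right h1]
    exact H.neg_mem (hH' _ _ hg)
  have hB : IsBlock G B := by
    rw [isBlock_iff_smul_eq_or_disjoint]
    intro g
    by_cases hg : C.t g ∈ H
    · left
      apply Set.Subset.antisymm (hsub g hg)
      intro x hx
      rw [Set.mem_smul_set_iff_inv_smul_mem]
      exact hsub g⁻¹ (hinv g hg) (Set.smul_mem_smul_set hx)
    · right
      rw [Set.disjoint_left]
      rintro _ ⟨ω, hω, rfl⟩ h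
      apply hg
      have h1 : C.e (g • ω) ∈ H := h
      rw [C.smul] at h1
      exact (H.add_mem_cancel_left (hH' g _ hω)).mp h1
  rcases hprim.isTrivialBlock_of_isBlock hB with h | h
  · left
    rw [eq_bot_iff]
    intro x hx
    rw [AddSubgroup.mem_bot]
    have h1 : C.e.symm x ∈ B := by
      change C.e (C.e.symm x) ∈ H
      rwa [Equiv.apply_symm_apply]
    have h2 : C.e.symm 0 ∈ B := by
      change C.e (C.e.symm 0) ∈ H
      rw [Equiv.apply_symm_apply]; exact H.zero_mem
    exact C.e.symm.injective (h h1 h2)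
  · right
    rw [eq_top_iff]
    intro x _
    have h1 : C.e.symm x ∈ B := by rw [h]; trivial
    change C.e (C.e.symm x) ∈ H at h1
    rwa [Equiv.apply_symm_apply] at h1

section Eight

variable (C : Coord G Ω 2 3)

/-- an invariant set of at most three nonzero vectors is empty -/
theorem no_small (htr : ∀ x, ∃ m : G, (∀ y, C.T m y = y) ∧ C.t m = x)
    (hprim : IsPreprimitive G Ω) (O : Finset (Fin 3 → ZMod 2)) (h0 : (0 : Fin 3 → ZMod 2) ∉ O)
    (hO : ∀ g, C.t g = 0 → ∀ x ∈ O, C.T g x ∈ O) (h3 : O.card ≤ 3) : O = ∅ := by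
  classical
  have hcard : Nat.card (Fin 3 → ZMod 2) = 8 := by
    rw [Nat.card_eq_fintype_card, Fintype.card_fun, ZMod.card, Fintype.card_fin]; norm_num
  have hadd : ∀ x : Fin 3 → ZMod 2, x + x = 0 := by
    intro x
    funext i
    rw [Pi.add_apply, Pi.zero_apply]
    exact CharTwo.add_self_eq_zero _
  have heq : ∀ x y : Fin 3 → ZMod 2, x + y = 0 → x = y := by
    intro x y h
    rw [← hadd y] at h
    exact add_right_cancel h
  -- subgroups of order 2 and 4 are not invariant
  have hinv : ∀ H : AddSubgroup (Fin 3 → ZMod 2), (∀ g, C.t g = 0 → ∀ x ∈ H, C.T g x ∈ H) →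
      H ≠ ⊥ → Nat.card H ≤ 4 → False := by
    intro H hH hbot hc
    rcases irr C htr hprim H hH with h | h
    · exact hbot h
    · rw [h, AddSubgroup.card_top, hcard] at hc
      omega
  -- the fixed vectors
  let F : AddSubgroup (Fin 3 → ZMod 2) :=
    { carrier := {y | ∀ g, C.t g = 0 → C.T g y = y}
      zero_mem' := fun g _ => map_zero _
      add_mem' := fun {a b} ha hb g hg => by rw [map_add, ha g hg, hb g hg]
      neg_mem' := fun {a} ha g hg => by rw [map_neg, ha g hg] }
  have hF : ∀ y, y ∈ F ↔ ∀ g, C.t g = 0 → C.T g y = y := fun y => Iff.rfl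
  have hFbot : F = ⊥ := by
    rcases irr C htr hprim F (fun g hg x hx => by rw [(hF x).mp hx g hg]; exact hx) with h | h
    · exact h
    · exfalso
      have htriv : ∀ g, C.t g = 0 → ∀ x, C.T g x = x := by
        intro g hg x
        exact (hF x).mp (by rw [h]; trivial) g hg
      let a : Fin 3 → ZMod 2 := Pi.single 0 1
      have ha : a ≠ 0 := by
        intro h
        have := congrFun h 0
        simp [a] at this
      refine hinv (AddSubgroup.zmultiples a) (fun g hg x hx => by rw [htriv g hg x]; exact hx)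
        ?_ ?_
      · rw [Ne, AddSubgroup.zmultiples_eq_bot]; exact ha
      · rw [Nat.card_zmultiples]
        have : addOrderOf a ∣ 2 := addOrderOf_dvd_of_nsmul_eq_zero (by rw [two_nsmul, hadd])
        exact (Nat.le_of_dvd (by norm_num) this).trans (by norm_num)
  have hsum : ∑ x ∈ O, x = 0 := by
    have : ∑ x ∈ O, x ∈ F := by
      rw [hF]
      intro g hg
      rw [map_sum]
      have himg : O.image (C.T g) = O := by
        refine Finset.eq_of_subset_of_card_le ?_
          (Finset.card_image_of_injective O (C.T_inj g)).ge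
        intro x hx
        obtain ⟨y, hy, rfl⟩ := Finset.mem_image.mp hx
        exact hO g hg y hy
      conv_rhs => rw [← himg]
      rw [Finset.sum_image (fun x _ y _ h => C.T_inj g h)]
    rwa [hFbot, AddSubgroup.mem_bot] at this
  have hc : O.card = 0 ∨ O.card = 1 ∨ O.card = 2 ∨ O.card = 3 := by omega
  rcases hc with hc | hc | hc | hc
  · exact Finset.card_eq_zero.mp hc
  · exfalso
    obtain ⟨a, rfl⟩ := Finset.card_eq_one.mp hc
    rw [Finset.sum_singleton] at hsum
    exact h0 (by rw [hsum]; simp)
  · exfalso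
    obtain ⟨a, b, hab, rfl⟩ := Finset.card_eq_two.mp hc
    rw [Finset.sum_pair hab] at hsum
    exact hab (heq a b hsum)
  · exfalso
    obtain ⟨a, b, c, hab, hac, hbc, rfl⟩ := Finset.card_eq_three.mp hc
    have hs : a + (b + c) = 0 := by
      rw [Finset.sum_insert (by simp [hab, hac]), Finset.sum_pair hbc] at hsum
      exact hsum
    have e1 : b + c = a := (heq _ _ hs).symm
    have e2 : a + c = b := by
      apply heq
      rw [← hs]; abel
    have e3 : a + b = c := by
      apply heq
      rw [← hs]; abel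
    let H : AddSubgroup (Fin 3 → ZMod 2) :=
      { carrier := {y | y = 0 ∨ y = a ∨ y = b ∨ y = c}
        zero_mem' := Or.inl rfl
        add_mem' := by
          rintro x y (rfl | rfl | rfl | rfl) (rfl | rfl | rfl | rfl)
          · left; exact hadd _
          · right; left; exact zero_add _
          · right; right; left; exact zero_add _
          · right; right; right; exact zero_add _
          · right; left; exact add_zero _
          · left; exact hadd _
          · right; right; right; exact e3
          · right; right; left; exact e2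
          · right; right; left; exact add_zero _
          · right; right; right; rw [add_comm]; exact e3
          · left; exact hadd _
          · right; left; exact e1
          · right; right; right; exact add_zero _
          · right; right; left; rw [add_comm]; exact e2
          · right; left; rw [add_comm]; exact e1
          · left; exact hadd _
        neg_mem' := by
          intro x hx
          have : -x = x := by
            apply heq; rw [neg_add_cancel]
          rw [this]; exact hx }
    refine hinv H ?_ ?_ ?_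
    · rintro g hg x (rfl | hx)
      · left; exact map_zero _
      · right
        have hx' : x ∈ ({a, b, c} : Finset (Fin 3 → ZMod 2)) := by simpa using hx
        have := hO g hg x hx'
        simpa using this
    · intro h
      have h1 : a ∈ H := Or.inr (Or.inl rfl)
      rw [h, AddSubgroup.mem_bot] at h1
      exact h0 (by rw [h1]; simp)
    · have h1 : (H : Set (Fin 3 → ZMod 2)) ⊆ (({0, a, b, c} : Finset (Fin 3 → ZMod 2)) : Set _) := by
        rintro x (rfl | rfl | rfl | rfl) <;> simp
      have h2 := Set.ncard_le_ncard h1 (Set.toFinite _)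
      rw [Set.ncard_coe_finset] at h2
      have h3 : (({0, a, b, c} : Finset (Fin 3 → ZMod 2))).card ≤ 4 := Finset.card_le_four
      change Nat.card (H : Set (Fin 3 → ZMod 2)) ≤ 4
      rw [Nat.card_coe_set_eq]
      omega

/-- the stabiliser of the origin is transitive on the nonzero vectors -/
theorem trans_eight (htr : ∀ x, ∃ m : G, (∀ y, C.T m y = y) ∧ C.t m = x)
    (hprim : IsPreprimitive G Ω) {x y : Fin 3 → ZMod 2} (hx : x ≠ 0) (hy : y ≠ 0) :
    ∃ g, C.t g = 0 ∧ C.T g x = y := by
  classical
  let O : Finset (Fin 3 → ZMod 2) := Finset.univ.filter (fun z => ∃ g, C.t g = 0 ∧ C.T g x = z)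
  have hmem : ∀ z, z ∈ O ↔ ∃ g, C.t g = 0 ∧ C.T g x = z := fun z => by simp [O]
  have h0 : (0 : Fin 3 → ZMod 2) ∉ O := by
    intro h
    obtain ⟨g, -, hg⟩ := (hmem 0).mp h
    exact hx (C.T_inj g (by rw [hg, map_zero]))
  have hinv : ∀ g, C.t g = 0 → ∀ z ∈ O, C.T g z ∈ O := by
    intro g hg z hz
    obtain ⟨h, hh, rfl⟩ := (hmem z).mp hz
    exact (hmem _).mpr ⟨g * h, by rw [C.t_mul, hh, hg, map_zero, add_zero], C.T_mul g h x⟩
  have hxO : x ∈ O := (hmem x).mpr ⟨1, C.t_one, C.T_one x⟩
  let O' : Finset (Fin 3 → ZMod 2) := Finset.univ \ (insert 0 O)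
  have hmem' : ∀ z, z ∈ O' ↔ z ≠ 0 ∧ z ∉ O := fun z => by simp [O']
  have hinvt : ∀ g, C.t g = 0 → C.t g⁻¹ = 0 := by
    intro g hg
    have h1 : C.t (g⁻¹ * g) = 0 := by rw [inv_mul_cancel, C.t_one]
    rw [C.t_mul, hg, map_zero, zero_add] at h1
    exact h1
  have hinv' : ∀ g, C.t g = 0 → ∀ z ∈ O', C.T g z ∈ O' := by
    intro g hg z hz
    rw [hmem'] at hz ⊢
    refine ⟨fun h => hz.1 (C.T_inj g (by rw [h, map_zero])), fun h => hz.2 ?_⟩
    have h1 := hinv g⁻¹ (hinvt g hg) _ h
    rwa [← C.T_mul, inv_mul_cancel, C.T_one] at h1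
  have hcard : O'.card + (O.card + 1) = 8 := by
    have h1 : (insert 0 O).card = O.card + 1 := Finset.card_insert_of_notMem h0
    have h2 : O'.card = Finset.univ.card - (insert 0 O).card :=
      Finset.card_sdiff_of_subset (Finset.subset_univ _)
    rw [Finset.card_univ, Fintype.card_fun, ZMod.card, Fintype.card_fin, h1] at h2
    have h3 : O.card + 1 ≤ 2 ^ 3 := by
      rw [← h1]
      refine (Finset.card_le_univ _).trans ?_
      rw [Fintype.card_fun, ZMod.card, Fintype.card_fin]
    omega
  by_cases hO3 : O.card ≤ 3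
  · have := no_small C htr hprim O h0 hinv hO3
    rw [this] at hxO
    exact absurd hxO (Finset.notMem_empty x)
  · have h4 := no_small C htr hprim O' (fun h => ((hmem' 0).mp h).1 rfl) hinv' (by omega)
    have h5 : y ∉ O' := by rw [h4]; exact Finset.notMem_empty y
    rw [hmem'] at h5
    push Not at h5
    exact (hmem y).mp (h5 hy)

/-- degree eight -/
theorem four_eight [FaithfulSMul G Ω] [Group.IsSolvable G]
    (htr : ∀ x, ∃ m : G, (∀ y, C.T m y = y) ∧ C.t m = x) (hprim : IsPreprimitive G Ω) :
    FiveR G Ω (Fin 4) := by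
  classical
  let a : Fin 3 → ZMod 2 := ![1, 0, 0]
  let b : Fin 3 → ZMod 2 := ![0, 1, 0]
  let c : Fin 3 → ZMod 2 := ![0, 0, 1]
  have hbc : b ≠ c := by decide
  have hcard2 : ({b, c} : Set (Fin 3 → ZMod 2)).ncard = 2 := Set.ncard_pair hbc
  have hcard1 : ({a} : Set (Fin 3 → ZMod 2)).ncard = 1 := Set.ncard_singleton a
  let ω0 : Ω := C.e.symm 0
  -- an element of the stabiliser which fixes two nonzero vectors is trivial
  have key : ∀ g, C.t g = 0 → ∀ x y : Fin 3 → ZMod 2, x ≠ 0 → y ≠ 0 → x ≠ y →
      C.T g x = x → C.T g y = y → ∀ z, C.T g z = z := by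
    intro g hg x y hx hy hxy hgx hgy z
    by_cases hz : z = 0
    · rw [hz, map_zero]
    have hmemS : ∀ h : G, h ∈ stabilizer G ω0 ↔ C.t h = 0 := by
      intro h
      rw [mem_stabilizer_iff, C.t_eq, ← C.e.symm.injective.eq_iff, Equiv.symm_apply_apply]
    have hne : ∀ v : Fin 3 → ZMod 2, v ≠ 0 → C.e.symm v ∈ SubMulAction.ofStabilizer G ω0 := by
      intro v hv
      rw [SubMulAction.mem_ofStabilizer_iff]
      intro h
      exact hv (C.e.symm.injective h)
    have hsm : ∀ h : G, C.t h = 0 → ∀ v, h • C.e.symm v = C.e.symm (C.T h v) := by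
      intro h hh v
      apply C.e.injective
      rw [C.smul, Equiv.apply_symm_apply, Equiv.apply_symm_apply, hh, add_zero]
    have hfin : Finite Ω := Finite.of_equiv _ C.e.symm
    have hcard : Nat.card (SubMulAction.ofStabilizer G ω0) = 7 := by
      have h1 := SubMulAction.nat_card_ofStabilizer_add_one_eq (G := G) ω0
      rw [C.card_eq Nat.prime_two] at h1
      omega
    have htrans : IsPretransitive (stabilizer G ω0) (SubMulAction.ofStabilizer G ω0) := by
      refine ⟨fun p q => ?_⟩
      have hp : C.e p.1 ≠ 0 := by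
        intro h
        have h1 := (SubMulAction.mem_ofStabilizer_iff G ω0).mp p.2
        apply h1
        rw [← C.e.symm_apply_apply p.1, h]
      have hq : C.e q.1 ≠ 0 := by
        intro h
        have h1 := (SubMulAction.mem_ofStabilizer_iff G ω0).mp q.2
        apply h1
        rw [← C.e.symm_apply_apply q.1, h]
      obtain ⟨h, hh, hh2⟩ := trans_eight C htr hprim hp hq
      refine ⟨⟨h, (hmemS h).mpr hh⟩, Subtype.ext ?_⟩
      change h • p.1 = q.1
      rw [← C.e.symm_apply_apply p.1, hsm h hh, hh2, C.e.symm_apply_apply]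
    have hs : Group.IsSolvable (stabilizer G ω0) := inferInstance
    have h7 := fix_two (G := stabilizer G ω0) (Ω := SubMulAction.ofStabilizer G ω0)
      (by rw [hcard]; norm_num) (g := ⟨g, (hmemS g).mpr hg⟩)
      (ω1 := ⟨C.e.symm x, hne x hx⟩) (ω2 := ⟨C.e.symm y, hne y hy⟩)
      (fun h => hxy (C.e.symm.injective (congrArg Subtype.val h)))
      (Subtype.ext (by
        change g • C.e.symm x = C.e.symm x
        rw [hsm g hg, hgx]))
      (Subtype.ext (by
        change g • C.e.symm y = C.e.symm y
        rw [hsm g hg, hgy])) ⟨C.e.symm z, hne z hz⟩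
    have h8 : g • C.e.symm z = C.e.symm z := congrArg Subtype.val h7
    rw [hsm g hg] at h8
    exact C.e.symm.injective h8
  refine fiveR_of_sets' Nat.prime_two C {a} {b, c} ?_ ?_ ?_ ?_ ?_ ?_ ?_ ?_
  · intro h
    exact absurd (Set.mem_singleton_iff.mp h) (by decide)
  · rintro (h | h)
    · exact absurd h (by decide)
    · exact absurd (Set.mem_singleton_iff.mp h) (by decide)
  · rw [Set.disjoint_left]
    rintro x hx (h | h)
    · rw [Set.mem_singleton_iff.mp hx] at h
      exact absurd h (by decide)
    · rw [Set.mem_singleton_iff.mp hx] at h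
      exact absurd (Set.mem_singleton_iff.mp h) (by decide)
  · intro g hg h1 h2
    have hTa : C.T g a = a := h1 a rfl
    have hTbc : C.T g (b + c) = b + c := by
      have hne : C.T g b ≠ C.T g c := fun h => hbc (C.T_inj g h)
      rw [map_add]
      rcases h2 b (Or.inl rfl) with h | h <;> rcases h2 c (Or.inr rfl) with h' | h'
      · exact absurd (h.trans h'.symm) hne
      · rw [h, h']
      · rw [h, h', add_comm]
      · exact absurd (h.trans h'.symm) hne
    exact key g hg a (b + c) (by decide) (by decide) (by decide) hTa hTbc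
  · rw [hcard2]; norm_num
  · rw [hcard2, hcard1]; norm_num
  · rw [hcard2, hcard1]; norm_num
  · rw [hcard2, hcard1]; norm_num

end Eight

/-- **(R4)** -/
theorem r4 {G : Type u} {Ω : Type w} [Group G] [Finite G] [Group.IsSolvable G] [MulAction G Ω]
    [FaithfulSMul G Ω] [MulAction.IsPreprimitive G Ω] [Finite Ω] (hn : 5 ≤ Nat.card Ω) :
    ∃ c : Fin 5 → Ω → Fin 4, (∀ i, ∀ g : G, (∀ ω, c i (g • ω) = c i ω) → g = 1) ∧
      ∀ i j, i ≠ j → ∀ g : G, ¬ ∀ ω, c i (g • ω) = c j ω := by
  have hprim : IsPreprimitive G Ω := inferInstance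
  obtain ⟨r, k, hr, C, htr⟩ := exists_coord_trans (G := G) (Ω := Ω) hprim (by omega)
  have hc := C.card_eq hr
  change FiveR G Ω (Fin 4)
  by_cases hk4 : 4 ≤ k
  · exact four_big hr C hk4
  have hk : k = 0 ∨ k = 1 ∨ k = 2 ∨ k = 3 := by omega
  have h2 := hr.two_le
  rcases hk with rfl | rfl | rfl | rfl
  · rw [pow_zero] at hc; omega
  · rw [pow_one] at hc
    exact four_one hr C (by omega)
  · refine four_two hr C ?_
    by_contra hlt
    have : r = 2 := by omega
    subst this
    norm_num at hc
    omega
  · by_cases h3 : 3 ≤ r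
    · exact four_three hr C h3
    · have : r = 2 := by omega
      subst this
      exact four_eight C htr hprim

end Cfsg.Agent.H583.Col
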