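import Cfsg.Agent.H583.ColCount
import Cfsg.Agent.H578.Comb

/-!
# Rigid four-colourings (helper583)

* `five_of_one`: five inequivalent colourings from one rigid colouring.
* `fiveR_of_sets`: the criterion in coordinates.
-/

set_option autoImplicit false

universe u w

namespace Cfsg.Agent.H583.Col

open MulAction
open scoped Pointwise

variable {G : Type u} {Ω : Type w} [Group G] [MulAction G Ω]

/-- the five permutations of the colours -/
def perm5 : Fin 5 → Equiv.Perm (Fin 4) :=
  ![1, Equiv.swap 0 3, Equiv.swap 1 3, Equiv.swap 2 3, Equiv.swap 0 2]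

theorem five_of_one [Finite Ω] (κ : Ω → Fin 4) (hκ : IsRigid G κ)
    (h02 : (κ ⁻¹' {0}).ncard ≠ (κ ⁻¹' {2}).ncard)
    (h3 : ∀ i, i ≠ 3 → (κ ⁻¹' {i}).ncard < (κ ⁻¹' {3}).ncard) : FiveR G Ω (Fin 4) := by
  refine ⟨fun i ω => perm5 i (κ ω), fun i g hg => ?_, ?_⟩
  · exact hκ g (fun ω => (perm5 i).injective (hg ω))
  · intro i j hij g hg
    have key : ∀ a : Fin 4, (κ ⁻¹' {(perm5 i)⁻¹ a}).ncard = (κ ⁻¹' {(perm5 j)⁻¹ a}).ncard := by
      intro a
      have h1 : κ ⁻¹' {(perm5 i)⁻¹ a} = g • (κ ⁻¹' {(perm5 j)⁻¹ a}) := by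
        ext x
        rw [Set.mem_smul_set_iff_inv_smul_mem]
        have h2 : perm5 i (κ (g • g⁻¹ • x)) = perm5 j (κ (g⁻¹ • x)) := hg (g⁻¹ • x)
        rw [smul_inv_smul] at h2
        simp only [Set.mem_preimage, Set.mem_singleton_iff]
        rw [Equiv.Perm.eq_inv_iff_eq, Equiv.Perm.eq_inv_iff_eq, h2]
      rw [h1, Set.ncard_smul_set]
    have k0 := key 0
    have k1 := key 1
    have k2 := key 2
    have k3 := key 3
    have l0 := h3 0 (by decide)
    have l1 := h3 1 (by decide)
    have l2 := h3 2 (by decide)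
    have e : ∀ (i : Fin 5) (a : Fin 4), (perm5 i)⁻¹ a =
        (![![0, 1, 2, 3], ![3, 1, 2, 0], ![0, 3, 2, 1], ![0, 1, 3, 2], ![2, 1, 0, 3]] :
          Fin 5 → Fin 4 → Fin 4) i a := by decide
    rw [e, e] at k0 k1 k2 k3
    fin_cases i <;> fin_cases j <;>
      first | exact absurd rfl hij | (simp at k0 k1 k2 k3; omega)

variable {r k : ℕ}

theorem eq_id_of_basis (T : (Fin k → ZMod r) →+ (Fin k → ZMod r))
    (h : ∀ i, T (Pi.single i 1) = Pi.single i 1) (x : Fin k → ZMod r) : T x = x := by
  classical
  have hx : x = ∑ i, x i • (Pi.single i 1 : Fin k → ZMod r) := by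
    conv_lhs => rw [← Finset.univ_sum_single x]
    refine Finset.sum_congr rfl (fun i _ => ?_)
    rw [← Pi.single_smul, smul_eq_mul, mul_one]
  conv_lhs => rw [hx]
  conv_rhs => rw [hx]
  rw [map_sum]
  refine Finset.sum_congr rfl (fun i _ => ?_)
  rw [ZMod.map_smul, h]

/-- the criterion in coordinates, for a set of pairs `(T, t)` -/
theorem fiveR_of_sets' [FaithfulSMul G Ω] (hr : r.Prime) (C : Coord G Ω r k)
    (A1 A2 : Set (Fin k → ZMod r)) (h01 : (0 : Fin k → ZMod r) ∉ A1)
    (h02 : (0 : Fin k → ZMod r) ∉ A2) (h12 : Disjoint A1 A2)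
    (hrig : ∀ g : G, C.t g = 0 → (∀ x ∈ A1, C.T g x ∈ A1) → (∀ x ∈ A2, C.T g x ∈ A2) →
      ∀ x, C.T g x = x)
    (hA2 : A2.ncard ≠ 1) (hs0 : A1.ncard + A2.ncard + 2 < r ^ k) (hs1 : 2 * A1.ncard + A2.ncard + 1 < r ^ k)
    (hs2 : A1.ncard + 2 * A2.ncard + 1 < r ^ k) : FiveR G Ω (Fin 4) := by
  classical
  have hne : NeZero r := ⟨hr.ne_zero⟩
  have hfin : Finite Ω := Finite.of_equiv _ C.e.symm
  have hdis := Set.disjoint_left.mp h12
  let κ : (Fin k → ZMod r) → Fin 4 := fun x =>
    if x = 0 then 0 else if x ∈ A1 then 1 else if x ∈ A2 then 2 else 3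
  have k0 : ∀ x, κ x = 0 ↔ x = 0 := by
    intro x
    by_cases hx : x = 0
    · simp [κ, hx]
    · simp only [κ, if_neg hx, hx, iff_false]
      split_ifs <;> decide
  have k1 : ∀ x, κ x = 1 ↔ x ∈ A1 := by
    intro x
    by_cases hx : x = 0
    · simp [κ, hx, h01]
    · by_cases h1 : x ∈ A1
      · simp [κ, hx, h1]
      · simp only [κ, if_neg hx, if_neg h1]
        constructor
        · intro h
          split_ifs at h <;> exact absurd h (by decide)
        · intro h
          exact absurd h h1
  have k2 : ∀ x, κ x = 2 ↔ x ∈ A2 := by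
    intro x
    by_cases hx : x = 0
    · simp [κ, hx, h02]
    · by_cases h1 : x ∈ A1
      · simp [κ, hx, h1, hdis h1]
      · by_cases h2 : x ∈ A2
        · simp [κ, hx, h1, h2]
        · simp [κ, hx, h1, h2]
  have hpre : ∀ i, ((fun ω => κ (C.e ω)) ⁻¹' {i}).ncard = (κ ⁻¹' {i}).ncard := by
    intro i
    rw [← Set.ncard_image_of_injective ((fun ω => κ (C.e ω)) ⁻¹' {i}) C.e.injective]
    congr 1
    ext x
    constructor
    · rintro ⟨y, hy, rfl⟩
      exact hy
    · intro hx
      refine ⟨C.e.symm x, ?_, Equiv.apply_symm_apply _ _⟩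
      simpa using hx
  have s0 : (κ ⁻¹' {0}).ncard = 1 := by
    have : κ ⁻¹' {0} = {0} := by ext x; simp [k0]
    rw [this, Set.ncard_singleton]
  have s1 : (κ ⁻¹' {1}).ncard = A1.ncard := by
    have : κ ⁻¹' {1} = A1 := by ext x; simp [k1]
    rw [this]
  have s2 : (κ ⁻¹' {2}).ncard = A2.ncard := by
    have : κ ⁻¹' {2} = A2 := by ext x; simp [k2]
    rw [this]
  have s3 : r ^ k ≤ (κ ⁻¹' {3}).ncard + (1 + A1.ncard + A2.ncard) := by
    have hu : (Set.univ : Set (Fin k → ZMod r)) ⊆ κ ⁻¹' {3} ∪ (({0} ∪ A1) ∪ A2) := by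
      intro x _
      by_cases hx : x = 0
      · right; left; left; exact hx
      · by_cases h1 : x ∈ A1
        · right; left; right; exact h1
        · by_cases h2 : x ∈ A2
          · right; right; exact h2
          · left; simp [κ, hx, h1, h2]
    have h1 := Set.ncard_le_ncard hu (Set.toFinite _)
    rw [Set.ncard_univ, Nat.card_eq_fintype_card, Fintype.card_fun, ZMod.card,
      Fintype.card_fin] at h1
    have h2 := Set.ncard_union_le (κ ⁻¹' {3}) (({0} ∪ A1) ∪ A2)
    have h3 := Set.ncard_union_le ({0} ∪ A1) A2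
    have h4 := Set.ncard_union_le {0} A1
    rw [Set.ncard_singleton] at h4
    omega
  refine five_of_one (fun ω => κ (C.e ω)) ?_ ?_ ?_
  · intro g hg
    have h1 : ∀ x, κ (C.T g x + C.t g) = κ x := by
      intro x
      have h2 : κ (C.e (g • C.e.symm x)) = κ (C.e (C.e.symm x)) := hg (C.e.symm x)
      rwa [C.smul, Equiv.apply_symm_apply] at h2
    have ht : C.t g = 0 := by
      have h2 := h1 0
      rw [map_zero, zero_add, (k0 0).mpr rfl] at h2
      exact (k0 _).mp h2
    rw [ht] at h1
    have hT := hrig g ht (fun x hx => by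
      have h2 := h1 x
      rw [add_zero, (k1 x).mpr hx] at h2
      exact (k1 _).mp h2) (fun x hx => by
      have h2 := h1 x
      rw [add_zero, (k2 x).mpr hx] at h2
      exact (k2 _).mp h2)
    apply FaithfulSMul.eq_of_smul_eq_smul (α := Ω)
    intro ω
    rw [one_smul]
    exact C.smul_eq_self ht hT ω
  · rw [hpre, hpre, s0, s2]; exact hA2.symm
  · intro i hi
    rw [hpre, hpre]
    have hi' : i = 0 ∨ i = 1 ∨ i = 2 := by
      revert hi; revert i; decide
    rcases hi' with rfl | rfl | rfl
    · rw [s0]; omega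
    · rw [s1]; omega
    · rw [s2]; omega

theorem fiveR_of_sets [FaithfulSMul G Ω] (hr : r.Prime) (C : Coord G Ω r k)
    (A1 A2 : Set (Fin k → ZMod r)) (h01 : (0 : Fin k → ZMod r) ∉ A1)
    (h02 : (0 : Fin k → ZMod r) ∉ A2) (h12 : Disjoint A1 A2)
    (hrig : ∀ T : (Fin k → ZMod r) →+ (Fin k → ZMod r), Function.Injective T →
      (∀ x ∈ A1, T x ∈ A1) → (∀ x ∈ A2, T x ∈ A2) → ∀ x, T x = x)
    (hA2 : A2.ncard ≠ 1) (hs0 : A1.ncard + A2.ncard + 2 < r ^ k) (hs1 : 2 * A1.ncard + A2.ncard + 1 < r ^ k)
    (hs2 : A1.ncard + 2 * A2.ncard + 1 < r ^ k) : FiveR G Ω (Fin 4) :=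
  fiveR_of_sets' hr C A1 A2 h01 h02 h12 (fun g _ h1 h2 => hrig (C.T g) (C.T_inj g) h1 h2)
    hA2 hs0 hs1 hs2

/-- dimension one -/
theorem four_one [FaithfulSMul G Ω] (hr : r.Prime) (C : Coord G Ω r 1) (h5 : 5 ≤ r) :
    FiveR G Ω (Fin 4) := by
  have : Fact (1 < r) := ⟨by omega⟩
  refine fiveR_of_sets hr C {Pi.single 0 1} ∅ ?_ (by simp) (by simp) ?_ (by simp) ?_ ?_ ?_
  · intro h
    have h1 := congrFun (Set.mem_singleton_iff.mp h) 0
    simp at h1
  · intro T _ h1 _
    refine eq_id_of_basis T (fun i => ?_)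
    rw [Subsingleton.elim i 0]
    exact h1 _ rfl
  · rw [Set.ncard_singleton, Set.ncard_empty, pow_one]; omega
  · rw [Set.ncard_singleton, Set.ncard_empty, pow_one]; omega
  · rw [Set.ncard_singleton, Set.ncard_empty, pow_one]; omega

/-- dimension two -/
theorem four_two [FaithfulSMul G Ω] (hr : r.Prime) (C : Coord G Ω r 2) (h3 : 3 ≤ r) :
    FiveR G Ω (Fin 4) := by
  have hf : Fact (1 < r) := ⟨by omega⟩
  have h2 : (2 : ZMod r) ≠ 0 := by
    intro h
    have : ((2 : ℕ) : ZMod r) = 0 := by exact_mod_cast h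
    rw [ZMod.natCast_eq_zero_iff] at this
    have := Nat.le_of_dvd (by norm_num) this
    omega
  have hadd : (1 : ZMod r) + 1 = 2 := by norm_num
  let a : Fin 2 → ZMod r := ![1, 0]
  let b : Fin 2 → ZMod r := ![0, 1]
  have ha : a = Pi.single 0 1 := by ext i; fin_cases i <;> simp [a]
  have hb : b = Pi.single 1 1 := by ext i; fin_cases i <;> simp [b]
  have hcard2 : (({b, a + b} : Set (Fin 2 → ZMod r))).ncard = 2 := by
    apply Set.ncard_pair
    intro h
    have := congrFun h 0
    simp [a, b] at this
  have hr9 : 9 ≤ r ^ 2 := by nlinarith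
  refine fiveR_of_sets hr C {a} {b, a + b} ?_ ?_ ?_ ?_ ?_ ?_ ?_ ?_
  · intro h
    have h1 := congrFun (Set.mem_singleton_iff.mp h) 0
    simp [a] at h1
  · rintro (h | h)
    · have := congrFun h 1
      simp [b] at this
    · have := congrFun h 1
      simp [a, b] at this
  · rw [Set.disjoint_left]
    rintro x rfl (h | h)
    · have := congrFun h 0
      simp [a, b] at this
    · have := congrFun h 1
      simp [a, b] at this
  · intro T _ h1 h2'
    have hTa : T a = a := h1 a rfl
    have hTb : T b = b := by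
      rcases h2' b (Or.inl rfl) with h | h
      · exact h
      · exfalso
        rcases h2' (a + b) (Or.inr rfl) with h' | h'
        · rw [map_add, hTa, h] at h'
          have := congrFun h' 0
          simp [a, b] at this
          rw [hadd] at this
          exact h2 this
        · rw [map_add, hTa, h] at h'
          have := congrFun h' 0
          simp [a, b] at this
    refine eq_id_of_basis T (fun i => ?_)
    fin_cases i
    · exact ha ▸ hTa
    · exact hb ▸ hTb
  · rw [hcard2]; norm_num
  · rw [hcard2, Set.ncard_singleton]; omega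
  · rw [hcard2, Set.ncard_singleton]; omega
  · rw [hcard2, Set.ncard_singleton]; omega

/-- dimension three, odd characteristic -/
theorem four_three [FaithfulSMul G Ω] (hr : r.Prime) (C : Coord G Ω r 3) (h3 : 3 ≤ r) :
    FiveR G Ω (Fin 4) := by
  have hf : Fact (1 < r) := ⟨by omega⟩
  have h2 : (2 : ZMod r) ≠ 0 := by
    intro h
    have : ((2 : ℕ) : ZMod r) = 0 := by exact_mod_cast h
    rw [ZMod.natCast_eq_zero_iff] at this
    have := Nat.le_of_dvd (by norm_num) this
    omega
  let a : Fin 3 → ZMod r := ![1, 0, 0]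
  let b : Fin 3 → ZMod r := ![0, 1, 0]
  let c : Fin 3 → ZMod r := ![0, 0, 1]
  have ha : a = Pi.single 0 1 := by ext i; fin_cases i <;> simp [a]
  have hb : b = Pi.single 1 1 := by ext i; fin_cases i <;> simp [b]
  have hc : c = Pi.single 2 1 := by ext i; fin_cases i <;> simp [c]
  have hcard1 : (({b, c} : Set (Fin 3 → ZMod r))).ncard ≤ 2 := 
    (Set.ncard_insert_le _ _).trans (by rw [Set.ncard_singleton])
  have hab : a ≠ a + b := by
    intro h
    have := congrFun h 1
    simp [a, b] at this
  have hcard2 : (({a, a + b, b + c} : Set (Fin 3 → ZMod r))).ncard = 3 := by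
    rw [Set.ncard_eq_three]
    refine ⟨a, a + b, b + c, hab, ?_, ?_, rfl⟩
    · intro h
      have := congrFun h 0
      simp [a, b, c] at this
    · intro h
      have := congrFun h 0
      simp [a, b, c] at this
  have hr27 : 27 ≤ r ^ 3 := by
    calc 27 = 3 ^ 3 := by norm_num
      _ ≤ r ^ 3 := Nat.pow_le_pow_left h3 3
  refine fiveR_of_sets hr C {b, c} {a, a + b, b + c} ?_ ?_ ?_ ?_ ?_ ?_ ?_ ?_
  · rintro (h | h)
    · have := congrFun h 1
      simp [b] at this
    · have := congrFun h 2
      simp [c] at this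
  · rintro (h | h | h)
    · have := congrFun h 0
      simp [a] at this
    · have := congrFun h 0
      simp [a, b] at this
    · have := congrFun h 1
      simp [b, c] at this
  · rw [Set.disjoint_left]
    rintro x (rfl | rfl) (h | h | h)
    · have := congrFun h 0
      simp [a, b] at this
    · have := congrFun h 0
      simp [a, b] at this
    · have := congrFun h 2
      simp [b, c] at this
    · have := congrFun h 0
      simp [a, c] at this
    · have := congrFun h 0
      simp [a, b, c] at this
    · have := congrFun h 1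
      simp [b, c] at this
  · intro T hT h1 h2'
    have hbc : T b + T c = b + c := by
      have hne : T b ≠ T c := by
        intro h
        have := hT h
        have := congrFun this 1
        simp [b, c] at this
      rcases h1 b (Or.inl rfl) with h | h <;> rcases h1 c (Or.inr rfl) with h' | h'
      · exact absurd (h.trans h'.symm) hne
      · rw [h, h']
      · rw [h, h', add_comm]
      · exact absurd (h.trans h'.symm) hne
    have hTbc : T (b + c) = b + c := by rw [map_add, hbc]
    have hmem : ∀ x ∈ ({a, a + b, b + c} : Set (Fin 3 → ZMod r)), x ≠ b + c → T x = a ∨ T x = a + b := by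
      intro x hx hxne
      rcases h2' x hx with h | h | h
      · exact Or.inl h
      · exact Or.inr h
      · exfalso
        apply hxne
        apply hT
        rw [hTbc]
        exact h
    have hane : a ≠ b + c := by
      intro h
      have := congrFun h 0
      simp [a, b, c] at this
    have habne : a + b ≠ b + c := by
      intro h
      have := congrFun h 0
      simp [a, b, c] at this
    have m1 := hmem a (Or.inl rfl) hane
    have m2 := hmem (a + b) (Or.inr (Or.inl rfl)) habne
    have hTab : T a = a ∧ T b = b := by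
      rcases m1 with h | h
      · refine ⟨h, ?_⟩
        rcases m2 with h' | h'
        · exact absurd (hT (h.trans h'.symm)) hab
        · rw [map_add, h] at h'
          exact add_left_cancel h'
      · exfalso
        rcases m2 with h' | h'
        · -- T b = - b
          rw [map_add, h] at h'
          have hb' : T b = -b := by
            have h5 : a + (b + T b) = a + 0 := by rw [← add_assoc, h', add_zero]
            exact eq_neg_of_add_eq_zero_right (add_left_cancel h5)
          rcases h1 b (Or.inl rfl) with h6 | h6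
          · have h6' : T b = b := h6
            rw [h6'] at hb'
            have := congrFun hb' 1
            simp [b] at this
            have h8 : (1 : ZMod r) + 1 = 0 := by nth_rewrite 1 [this]; ring
            apply h2
            rw [← h8]; norm_num
          · have h6' : T b = c := h6
            rw [h6'] at hb'
            have := congrFun hb' 1
            simp [b, c] at this
        · exact absurd (hT (h.trans h'.symm)) hab
    have hTc : T c = c := by
      rw [hTab.2] at hbc
      exact add_left_cancel hbc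
    refine eq_id_of_basis T (fun i => ?_)
    fin_cases i
    · exact ha ▸ hTab.1
    · exact hb ▸ hTab.2
    · exact hc ▸ hTc
  · rw [hcard2]; norm_num
  · rw [hcard2]; omega
  · rw [hcard2]; omega
  · rw [hcard2]; omega

end Cfsg.Agent.H583.Col
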