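import Cfsg.Agent.H583.ColFour

/-!
# Rigid four-colourings in dimension at least four (helper583)
-/

set_option autoImplicit false

universe u w

namespace Cfsg.Agent.H583.Col

open MulAction
open Cfsg.Agent.H578.Comb

variable {G : Type u} {Ω : Type w} [Group G] [MulAction G Ω] {r k : ℕ}

theorem three_mul_lt {k : ℕ} (hk : 4 ≤ k) : 3 * k + 1 < 2 ^ k := by
  induction k, hk using Nat.le_induction with
  | base => norm_num
  | succ k hk ih => rw [pow_succ]; omega

/-- dimension at least four -/
theorem four_big [FaithfulSMul G Ω] (hr : r.Prime) (C : Coord G Ω r k) (hk : 4 ≤ k) :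
    FiveR G Ω (Fin 4) := by
  classical
  have hne0 : NeZero r := ⟨hr.ne_zero⟩
  let e : (Fin k → ZMod r) ≃+ ((i : Fin k) → ZMod ((fun _ => r) i)) := AddEquiv.refl _
  have hn : ∀ i : Fin k, 1 < (fun _ : Fin k => r) i := fun _ => hr.one_lt
  let i0 : Fin k := ⟨0, by omega⟩
  let i1 : Fin k := ⟨1, by omega⟩
  let i2 : Fin k := ⟨2, by omega⟩
  let A1 : Set (Fin k → ZMod r) := Set.range (fun i : Fin k => ind e {i})
  let f : Fin k → (Fin k → ZMod r) := fun i =>
    if h : i.val + 1 < k then ind e {i, ⟨i.val + 1, h⟩} else ind e {i0, i1, i2}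
  let A2 : Set (Fin k → ZMod r) := Set.range f
  have hA2 : ∀ x, x ∈ A2 ↔ (∃ i j : Fin k, j.val = i.val + 1 ∧ x = ind e {i, j}) ∨
      x = ind e {i0, i1, i2} := by
    intro x
    constructor
    · rintro ⟨i, rfl⟩
      by_cases h : i.val + 1 < k
      · left
        exact ⟨i, ⟨i.val + 1, h⟩, rfl, dif_pos h⟩
      · right
        exact dif_neg h
    · rintro (⟨i, j, hij, rfl⟩ | rfl)
      · have h : i.val + 1 < k := by rw [← hij]; exact j.isLt
        refine ⟨i, ?_⟩
        have hj : j = ⟨i.val + 1, h⟩ := Fin.ext hij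
        rw [hj]
        exact dif_pos h
      · refine ⟨⟨k - 1, by omega⟩, ?_⟩
        exact dif_neg (by simp; omega)
  have hcard3 : ({i0, i1, i2} : Finset (Fin k)).card = 3 := by
    rw [Finset.card_eq_three]
    refine ⟨i0, i1, i2, ?_, ?_, ?_, rfl⟩ <;>
      · simp only [i0, i1, i2, ne_eq, Fin.mk.injEq]; norm_num
  have hpair : ∀ i j : Fin k, j.val = i.val + 1 → ({i, j} : Finset (Fin k)).card = 2 := by
    intro i j hij
    apply Finset.card_pair
    intro h; rw [h] at hij; omega
  have hA1c : A1.ncard ≤ k := by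
    have : A1 = (fun i : Fin k => ind e {i}) '' Set.univ := by rw [Set.image_univ]
    rw [this]
    refine (Set.ncard_image_le Set.finite_univ).trans ?_
    rw [Set.ncard_univ, Nat.card_fin]
  have hA2c : A2.ncard ≤ k := by
    have : A2 = f '' Set.univ := by rw [Set.image_univ]
    rw [this]
    refine (Set.ncard_image_le Set.finite_univ).trans ?_
    rw [Set.ncard_univ, Nat.card_fin]
  have hlt : 3 * k + 1 < r ^ k :=
    (three_mul_lt hk).trans_le (Nat.pow_le_pow_left hr.two_le k)
  refine fiveR_of_sets hr C A1 A2 ?_ ?_ ?_ ?_ ?_ ?_ ?_ ?_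
  · rintro ⟨i, hi⟩
    have h1 : ind e {i} = ind e ∅ := by rw [ind_empty]; exact hi
    exact absurd (ind_inj e hn h1) (Finset.singleton_ne_empty i)
  · intro h
    rcases (hA2 _).mp h with ⟨i, j, hij, h⟩ | h
    · have h1 : ind e {i, j} = ind e ∅ := by rw [ind_empty]; exact h.symm
      exact absurd (ind_inj e hn h1) (Finset.insert_ne_empty _ _)
    · have h1 : ind e {i0, i1, i2} = ind e ∅ := by rw [ind_empty]; exact h.symm
      exact absurd (ind_inj e hn h1) (Finset.insert_ne_empty _ _)
  · rw [Set.disjoint_left]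
    rintro x ⟨i, rfl⟩ h
    rcases (hA2 _).mp h with ⟨a, b, hab, h⟩ | h
    · have h1 := congrArg Finset.card (ind_inj e hn h)
      rw [Finset.card_singleton, hpair a b hab] at h1
      omega
    · have h1 := congrArg Finset.card (ind_inj e hn h)
      rw [Finset.card_singleton, hcard3] at h1
      omega
  · intro T hT h1 h2
    have hσ : ∀ i : Fin k, ∃ j : Fin k, T (ind e {i}) = ind e {j} := by
      intro i
      obtain ⟨j, hj⟩ := h1 _ ⟨i, rfl⟩
      exact ⟨j, hj.symm⟩
    choose σ hσ1 using hσ
    have hσinj : Function.Injective σ := by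
      intro i j hij
      have h3 : T (ind e {i}) = T (ind e {j}) := by rw [hσ1, hσ1, hij]
      have := ind_inj e hn (hT h3)
      rwa [Finset.singleton_inj] at this
    have hadj : ∀ i j : Fin k, j.val = i.val + 1 →
        ((σ j).val = (σ i).val + 1 ∨ (σ i).val = (σ j).val + 1) := by
      intro i j hij
      have hne : i ≠ j := by intro h; rw [h] at hij; omega
      have h4 := h2 _ ((hA2 _).mpr (Or.inl ⟨i, j, hij, rfl⟩))
      have hne'' : σ i ≠ σ j := fun h => hne (hσinj h)
      rw [← ind_pair e hne, map_add, hσ1, hσ1, ind_pair e hne''] at h4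
      rcases (hA2 _).mp h4 with ⟨a, b, hab, h5⟩ | h5
      · have h6 := ind_inj e hn h5
        have hi : σ i = a ∨ σ i = b := by
          have : σ i ∈ ({a, b} : Finset (Fin k)) := by rw [← h6]; simp
          simpa using this
        have hj : σ j = a ∨ σ j = b := by
          have : σ j ∈ ({a, b} : Finset (Fin k)) := by rw [← h6]; simp
          simpa using this
        rcases hi with hi | hi <;> rcases hj with hj | hj
        · exact absurd (hi.trans hj.symm) hne''
        · left; rw [hi, hj]; exact hab
        · right; rw [hi, hj]; exact hab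
        · exact absurd (hi.trans hj.symm) hne''
      · have h6 := congrArg Finset.card (ind_inj e hn h5)
        rw [Finset.card_pair hne'', hcard3] at h6
        omega
    have hid : ∀ i, σ i = i := by
      rcases path_aut σ hσinj hadj with h | h
      · intro i; exact Fin.ext (h i)
      · exfalso
        have h01 : i0 ≠ i1 := by simp only [i0, i1, ne_eq, Fin.mk.injEq]; norm_num
        have hd : Disjoint ({i0, i1} : Finset (Fin k)) {i2} := by
          rw [Finset.disjoint_singleton_right]
          simp [i0, i1, i2]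
        have hsplit : ind e {i0, i1, i2} = ind e {i0} + ind e {i1} + ind e {i2} := by
          rw [ind_pair e h01, ind_union e hd]
          congr 1
        have h4 := h2 _ ((hA2 _).mpr (Or.inr rfl))
        have hσ01 : σ i0 ≠ σ i1 := fun h => h01 (hσinj h)
        have h02 : i0 ≠ i2 := by simp only [i0, i2, ne_eq, Fin.mk.injEq]; norm_num
        have h12 : i1 ≠ i2 := by simp only [i1, i2, ne_eq, Fin.mk.injEq]; norm_num
        have hd' : Disjoint ({σ i0, σ i1} : Finset (Fin k)) {σ i2} := by
          rw [Finset.disjoint_singleton_right]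
          simp only [Finset.mem_insert, Finset.mem_singleton, not_or]
          exact ⟨fun h => h02 (hσinj h).symm, fun h => h12 (hσinj h).symm⟩
        rw [hsplit, map_add, map_add, hσ1, hσ1, hσ1, ind_pair e hσ01, ind_union e hd'] at h4
        have hc3 : (({σ i0, σ i1} : Finset (Fin k)) ∪ {σ i2}).card = 3 := by
          rw [Finset.card_union_of_disjoint hd', Finset.card_pair hσ01, Finset.card_singleton]
        rcases (hA2 _).mp h4 with ⟨a, b, hab, h5⟩ | h5
        · have h6 := congrArg Finset.card (ind_inj e hn h5)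
          rw [hc3, hpair a b hab] at h6
          omega
        · have h6 := ind_inj e hn h5
          have h7 : σ i0 ∈ ({i0, i1, i2} : Finset (Fin k)) := by rw [← h6]; simp
          have h8 := h i0
          simp only [Finset.mem_insert, Finset.mem_singleton] at h7
          rcases h7 with h7 | h7 | h7 <;> rw [h7] at h8 <;> simp only [i0, i1, i2] at h8 <;> omega
    intro x
    refine eq_id_of_fix e hn T (fun i => ?_) x
    rw [hσ1, hid]
  · intro h
    rw [Set.ncard_eq_one] at h
    obtain ⟨a, ha⟩ := h
    have h1 : ind e {i0, i1} ∈ A2 := (hA2 _).mpr (Or.inl ⟨i0, i1, rfl, rfl⟩)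
    have h2 : ind e {i0, i1, i2} ∈ A2 := (hA2 _).mpr (Or.inr rfl)
    rw [ha, Set.mem_singleton_iff] at h1 h2
    have h3 := congrArg Finset.card (ind_inj e hn (h1.trans h2.symm))
    rw [hpair i0 i1 rfl, hcard3] at h3
    omega
  · omega
  · omega
  · omega

end Cfsg.Agent.H583.Col
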