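import Cfsg.Agent.H583.FxLin
import Cfsg.Agent.H254.FxEvenTI
import Cfsg.Agent.H254.FxTools
import Cfsg.Agent.OddOrderLocal.CyclicSub

/-!
# Elements of `PSL_3(q)` normalising a subgroup of prime order (helper583, task 2052)

* `exists_lift`, `eq_of_mk` : lifts to `SL_3(q)`;
* `no_inv` : `q` of order three modulo `r`: no involution normalises `⟨x⟩`;
* `not_four` : `q` even of order two modulo `r`: `4` does not divide `|N(⟨x⟩)|`;
* `four_dvd` : `OddTI 4 D` and a cyclic Sylow subgroup `P ≤ D`: `4` divides `|N(⟨x⟩)|`.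
-/

set_option autoImplicit false
set_option linter.unusedSectionVars false

namespace Cfsg.Agent.H583.FxThree

open Matrix Subgroup Cfsg.Agent.H254.Fx Cfsg.Agent.H583.FxLin

variable {F : Type} [Field F]

/-- the projection -/
abbrev mk (F : Type) [Field F] : SpecialLinearGroup (Fin 3) F →* ProjectiveSpecialLinearGroup (Fin 3) F :=
  QuotientGroup.mk' (center (SpecialLinearGroup (Fin 3) F))

theorem mk_surjective : Function.Surjective (mk F) := QuotientGroup.mk'_surjective _

theorem mk_eq_one {s : SpecialLinearGroup (Fin 3) F} :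
    mk F s = 1 ↔ ∃ c : F, c ^ 3 = 1 ∧ s.1 = Matrix.scalar (Fin 3) c := by
  rw [QuotientGroup.mk'_apply, QuotientGroup.eq_one_iff, Matrix.SpecialLinearGroup.mem_center_iff, Fintype.card_fin]
  constructor
  · rintro ⟨c, hc, h⟩
    exact ⟨c, hc, h.symm⟩
  · rintro ⟨c, hc, h⟩
    exact ⟨c, hc, h.symm⟩

/-- the scalar matrices -/
def sc (c : F) (hc : c ^ 3 = 1) : SpecialLinearGroup (Fin 3) F := ⟨Matrix.scalar (Fin 3) c, by
  rw [scalar_apply, det_diagonal, Finset.prod_const, Finset.card_univ, Fintype.card_fin, hc]⟩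

theorem mk_sc (c : F) (hc : c ^ 3 = 1) : mk F (sc c hc) = 1 := mk_eq_one.2 ⟨c, hc, rfl⟩

theorem sc_comm (c : F) (hc : c ^ 3 = 1) (s : SpecialLinearGroup (Fin 3) F) : sc c hc * s = s * sc c hc :=
  Subtype.ext (Matrix.scalar_commute c (Commute.all c) s.1).eq

theorem sc_pow (c : F) (hc : c ^ 3 = 1) (n : ℕ) : (sc c hc ^ n).1 = Matrix.scalar (Fin 3) (c ^ n) := by
  rw [Matrix.SpecialLinearGroup.coe_pow, map_pow]; rfl

/-- the condition on `n`: prime to three or no central elements -/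
def Ok (F : Type) [Field F] (n : ℕ) : Prop := Nat.Coprime n 3 ∨ ∀ c : F, c ^ 3 = 1 → c = 1

theorem exists_lift {n : ℕ} (hn : Ok F n) {y : ProjectiveSpecialLinearGroup (Fin 3) F} (hy : y ^ n = 1) :
    ∃ s : SpecialLinearGroup (Fin 3) F, mk F s = y ∧ s ^ n = 1 := by
  obtain ⟨s, rfl⟩ := mk_surjective y
  rw [← map_pow] at hy
  obtain ⟨c, hc, hs⟩ := mk_eq_one.1 hy
  obtain ⟨d, hd, hdc⟩ : ∃ d : F, d ^ 3 = 1 ∧ d ^ n * c = 1 := by
    rcases hn with hn | hn
    · have h3 : n % 3 = 1 ∨ n % 3 = 2 := by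
        have h4 : ¬ 3 ∣ n := by
          intro h
          have h5 := Nat.dvd_gcd h (dvd_refl 3)
          rw [hn] at h5
          omega
        omega
      rcases h3 with h3 | h3
      · refine ⟨c ^ 2, by rw [← pow_mul, mul_comm, pow_mul, hc, one_pow], ?_⟩
        rw [← pow_mul, ← pow_succ]
        have : 2 * n + 1 = 3 * (2 * (n / 3) + 1) := by omega
        rw [this, pow_mul, hc, one_pow]
      · refine ⟨c, hc, ?_⟩
        rw [← pow_succ]
        have : n + 1 = 3 * (n / 3 + 1) := by omega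
        rw [this, pow_mul, hc, one_pow]
    · exact ⟨1, one_pow _, by rw [hn c hc, one_pow, one_mul]⟩
  refine ⟨sc d hd * s, by rw [map_mul, mk_sc, one_mul], ?_⟩
  have h1 : Commute (sc d hd) s := sc_comm d hd s
  rw [h1.mul_pow]
  apply Subtype.ext
  rw [Matrix.SpecialLinearGroup.coe_mul, sc_pow, hs, ← map_mul, hdc, map_one]
  rfl

theorem eq_of_mk {n : ℕ} (hn : Ok F n) {a b : SpecialLinearGroup (Fin 3) F} (h : mk F a = mk F b) (ha : a ^ n = 1)
    (hb : b ^ n = 1) : a = b := by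
  have h1 : mk F (a * b⁻¹) = 1 := by rw [map_mul, map_inv, h, mul_inv_cancel]
  obtain ⟨c, hc, hs⟩ := mk_eq_one.1 h1
  have h2 : a * b⁻¹ = sc c hc := Subtype.ext hs
  have h3 : a = sc c hc * b := by rw [← h2, inv_mul_cancel_right]
  have h4 : sc c hc ^ n = 1 := by
    have h5 : Commute (sc c hc) b := sc_comm c hc b
    rw [h3, h5.mul_pow, hb, mul_one] at ha
    exact ha
  have h5 : c ^ n = 1 := by
    have h6 := sc_pow c hc n
    rw [h4] at h6
    have h7 := congrFun (congrFun h6 0) 0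
    rw [scalar_apply, diagonal_apply_eq] at h7
    rw [← h7]; rfl
  have h6 : c = 1 := by
    rcases hn with hn | hn
    · have h7 : orderOf c ∣ Nat.gcd n 3 := Nat.dvd_gcd (orderOf_dvd_of_pow_eq_one h5) (orderOf_dvd_of_pow_eq_one hc)
      rw [hn, Nat.dvd_one] at h7
      exact orderOf_eq_one_iff.1 h7
    · exact hn c hc
  rw [h3]
  have h7 : sc c hc = 1 := by
    subst h6
    apply Subtype.ext
    change Matrix.scalar (Fin 3) (1 : F) = 1
    rw [map_one]
  rw [h7, one_mul]

theorem ok_two : Ok F 2 := Or.inl (by norm_num)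

theorem ok_four : Ok F 4 := Or.inl (by norm_num)

/-- an involution normalising a subgroup of prime order -/
theorem conj_or {G : Type*} [Group G] [Finite G] {r : ℕ} (hr : r.Prime) {x t : G} (hx : orderOf x = r)
    (ht : t * t = 1) (hn : t ∈ normalizer (zpowers x : Set G)) : t * x * t⁻¹ = x ∨ t * x * t⁻¹ = x⁻¹ := by
  have : Fact r.Prime := ⟨hr⟩
  have h1 : t * x * t⁻¹ ∈ zpowers x := (mem_normalizer_iff.1 hn x).1 (mem_zpowers x)
  rw [← (isOfFinOrder_of_finite x).mem_powers_iff_mem_zpowers] at h1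
  obtain ⟨j, hj⟩ := h1
  have hj' : t * x * t⁻¹ = x ^ j := hj.symm
  have h2 := pow_conj_iter hj' 2
  rw [pow_two, ht, one_mul, inv_one, mul_one] at h2
  have h3 : ((j : ZMod r)) * j = 1 := by
    have h4 : x ^ 1 = x ^ (j ^ 2) := by rw [pow_one]; exact h2
    rw [pow_eq_pow_iff_modEq, hx] at h4
    have h5 := (ZMod.natCast_eq_natCast_iff _ _ _).2 h4
    rw [Nat.cast_one, Nat.cast_pow, pow_two] at h5
    exact h5.symm
  rcases mul_self_eq_one_iff.1 h3 with h4 | h4
  · left
    rw [hj']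
    have h5 : x ^ j = x ^ 1 := by
      rw [pow_eq_pow_iff_modEq, hx, ← ZMod.natCast_eq_natCast_iff, h4, Nat.cast_one]
    rw [h5, pow_one]
  · right
    rw [hj', eq_inv_iff_mul_eq_one, ← pow_succ]
    apply orderOf_dvd_iff_pow_eq_one.1
    rw [hx, ← ZMod.natCast_eq_zero_iff, Nat.cast_succ, h4]
    ring

/-- the linear representation -/
abbrev τ (F : Type) [Field F] : SpecialLinearGroup (Fin 3) F →* ((Fin 3 → F) ≃ₗ[F] (Fin 3 → F)) :=
  Matrix.SpecialLinearGroup.toLin'

theorem τ_injective : Function.Injective (τ F) := Matrix.SpecialLinearGroup.toLin'_injective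

theorem finrank_three : Module.finrank F (Fin 3 → F) = 3 := by
  rw [Module.finrank_fintype_fun_eq_card, Fintype.card_fin]

/-- not scalar -/
theorem not_scalar {s : SpecialLinearGroup (Fin 3) F} (h : mk F s ≠ 1) (c : F) : ∃ v, τ F s v ≠ c • v := by
  by_contra hcon
  push Not at hcon
  apply h
  have h1 : s.1 = Matrix.scalar (Fin 3) c := by
    apply (Matrix.toLin' (R := F) (m := Fin 3) (n := Fin 3)).injective
    apply LinearMap.ext
    intro v
    have h2 := hcon v
    rw [Matrix.SpecialLinearGroup.toLin'_apply] at h2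
    rw [h2, scalar_apply, ← smul_one_eq_diagonal, map_smul, LinearMap.smul_apply, toLin'_one]
    rfl
  have h2 := s.2
  rw [h1, scalar_apply, det_diagonal, Finset.prod_const, Finset.card_univ, Fintype.card_fin] at h2
  exact mk_eq_one.2 ⟨c, h2, h1⟩

variable [Fintype F]

/-- lifting the relation -/
theorem lift_rel {r : ℕ} (hr : r.Prime) (hok : Ok F r) {x t : ProjectiveSpecialLinearGroup (Fin 3) F} (hx : orderOf x = r)
    (ht : t * t = 1) (hn : t ∈ normalizer (zpowers x : Set (ProjectiveSpecialLinearGroup (Fin 3) F))) :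
    ∃ a b : SpecialLinearGroup (Fin 3) F, mk F a = x ∧ mk F b = t ∧ a ^ r = 1 ∧ b * b = 1 ∧
      (b * a * b⁻¹ = a ∨ b * a * b⁻¹ = a⁻¹) := by
  obtain ⟨a, ha, har⟩ := exists_lift hok (y := x) (by rw [← hx, pow_orderOf_eq_one])
  obtain ⟨b, hb, hbt⟩ := exists_lift (ok_two (F := F)) (y := t) (by rw [pow_two, ht])
  refine ⟨a, b, ha, hb, har, by rw [← pow_two, hbt], ?_⟩
  have hc : (b * a * b⁻¹) ^ r = 1 := by rw [conj_pow, har, mul_one, mul_inv_cancel]
  rcases conj_or hr hx ht hn with h | h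
  · left
    exact eq_of_mk hok (by rw [map_mul, map_mul, map_inv, ha, hb, h]) hc har
  · right
    exact eq_of_mk hok (by rw [map_mul, map_mul, map_inv, map_inv, ha, hb, h]) hc (by rw [inv_pow, har, inv_one])

/-- **`q` of order three modulo `r`: no involution normalises `⟨x⟩`.** -/
theorem no_inv {r : ℕ} (hr : r.Prime) (hr2 : r ≠ 2) (hok : Ok F r)
    (hiff : ∀ j, r ∣ Fintype.card F ^ j - 1 ↔ 3 ∣ j) {x t : ProjectiveSpecialLinearGroup (Fin 3) F} (hx : orderOf x = r)
    (ht : t * t = 1) (ht1 : t ≠ 1) (hn : t ∈ normalizer (zpowers x : Set (ProjectiveSpecialLinearGroup (Fin 3) F))) :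
    False := by
  have : Fact r.Prime := ⟨hr⟩
  obtain ⟨a, b, ha, hb, har, hbb, h⟩ := lift_rel hr hok hx ht hn
  have ha1 : a ≠ 1 := by
    rintro rfl
    rw [map_one] at ha
    rw [← ha, orderOf_one] at hx
    exact hr.one_lt.ne hx
  refine no_inv_three (V := Fin 3 → F) (x := τ F a) (t := τ F b) hiff hr2 finrank_three ?_ ?_ ?_ ?_ ?_
  · rw [← map_pow, har, map_one]
  · intro h1
    exact ha1 (τ_injective (h1.trans (map_one _).symm))
  · rw [← map_mul, hbb, map_one]
  · exact not_scalar (by rw [hb]; exact ht1)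
  · rw [← map_mul, ← map_inv, ← map_mul, ← map_inv]
    rcases h with h | h
    · left; rw [h]
    · right; rw [h]

/-- **`q` even of order two modulo `r`: every involution normalising `⟨x⟩` inverts `x`.** -/
theorem inverts [CharP F 2] {r : ℕ} (hr : r.Prime) (hok : Ok F r)
    (hiff : ∀ j, r ∣ Fintype.card F ^ j - 1 ↔ 2 ∣ j) {x t : ProjectiveSpecialLinearGroup (Fin 3) F} (hx : orderOf x = r)
    (ht : t * t = 1) (ht1 : t ≠ 1) (hn : t ∈ normalizer (zpowers x : Set (ProjectiveSpecialLinearGroup (Fin 3) F))) :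
    t * x ≠ x * t ∧ t * x * t⁻¹ = x⁻¹ := by
  have : Fact r.Prime := ⟨hr⟩
  have key : t * x * t⁻¹ ≠ x := by
    intro hc
    obtain ⟨a, b, ha, hb, har, hbb, h⟩ := lift_rel hr hok hx ht hn
    have ha1 : a ≠ 1 := by
      rintro rfl
      rw [map_one] at ha
      rw [← ha, orderOf_one] at hx
      exact hr.one_lt.ne hx
    have hb1 : b ≠ 1 := by
      rintro rfl
      rw [map_one] at hb
      exact ht1 hb.symm
    have h' : b * a * b⁻¹ = a := eq_of_mk hok (by rw [map_mul, map_mul, map_inv, ha, hb, hc])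
      (by rw [conj_pow, har, mul_one, mul_inv_cancel]) har
    refine no_comm_two (V := Fin 3 → F) (x := τ F a) (t := τ F b) hiff finrank_three ?_ ?_ ?_ ?_ ?_
    · rw [← map_pow, har, map_one]
    · intro h1
      exact ha1 (τ_injective (h1.trans (map_one _).symm))
    · rw [← map_mul, hbb, map_one]
    · intro h1
      exact hb1 (τ_injective (h1.trans (map_one _).symm))
    · rw [← map_mul, ← map_mul]
      rw [mul_inv_eq_iff_eq_mul] at h'
      rw [h']
  refine ⟨fun h => key ?_, (conj_or hr hx ht hn).resolve_left key⟩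
  rw [h, mul_inv_cancel_right]

/-- **`q` even of order two modulo `r`: the square of an element of order dividing four normalising `⟨x⟩` is one.** -/
theorem sq_eq_one [CharP F 2] {r : ℕ} (hr : r.Prime) (hok : Ok F r)
    (hiff : ∀ j, r ∣ Fintype.card F ^ j - 1 ↔ 2 ∣ j) {x g : ProjectiveSpecialLinearGroup (Fin 3) F} (hx : orderOf x = r)
    (hg : g ^ 4 = 1) (hn : g ∈ normalizer (zpowers x : Set (ProjectiveSpecialLinearGroup (Fin 3) F))) :
    g * g = 1 := by
  have : Fact r.Prime := ⟨hr⟩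
  by_contra hg1
  have hgg : (g * g) * (g * g) = 1 := by
    rw [← hg, ← pow_two, ← pow_two, ← pow_mul]
  obtain ⟨-, hinv⟩ := inverts hr hok hiff hx hgg hg1 (mul_mem hn hn)
  obtain ⟨a, ha, har⟩ := exists_lift hok (y := x) (by rw [← hx, pow_orderOf_eq_one])
  obtain ⟨b, hb, hbt⟩ := exists_lift (ok_four (F := F)) hg
  have ha1 : a ≠ 1 := by
    rintro rfl
    rw [map_one] at ha
    rw [← ha, orderOf_one] at hx
    exact hr.one_lt.ne hx
  have hbb : (b * b) * (b * b) = 1 := by
    rw [← hbt, ← pow_two, ← pow_two, ← pow_mul]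
  have hbb1 : b * b ≠ 1 := by
    intro h
    apply hg1
    rw [← hb, ← map_mul, h, map_one]
  have h' : b * b * a * (b * b)⁻¹ = a⁻¹ := eq_of_mk hok
    (by rw [map_mul, map_mul, map_mul, map_inv, map_inv, map_mul, ha, hb, hinv])
    (by rw [conj_pow, har, mul_one, mul_inv_cancel]) (by rw [inv_pow, har, inv_one])
  -- `g` normalises
  have h1 : g⁻¹ * x * g ∈ zpowers x := by
    have h2 := (mem_normalizer_iff.1 (inv_mem hn) x).1 (mem_zpowers x)
    rwa [inv_inv] at h2
  rw [← (isOfFinOrder_of_finite x).mem_powers_iff_mem_zpowers] at h1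
  obtain ⟨j, hj⟩ := h1
  have hj' : x ^ j = g⁻¹ * x * g := hj
  have h3 : b⁻¹ * a * b = a ^ j := eq_of_mk hok
    (by rw [map_mul, map_mul, map_inv, map_pow, ha, hb, hj'])
    (by
      have h4 := conj_pow (i := r) (a := b⁻¹) (b := a)
      rw [inv_inv] at h4
      rw [h4, har, mul_one, inv_mul_cancel]) (by rw [← pow_mul, mul_comm, pow_mul, har, one_pow])
  refine no_four_two (V := Fin 3 → F) (x := τ F a) (t := τ F (b * b)) (g := τ F b) hiff finrank_three ?_ ?_ ?_ ?_ ?_ ?_ ?_
  · rw [← map_pow, har, map_one]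
  · intro h4
    exact ha1 (τ_injective (h4.trans (map_one _).symm))
  · rw [← map_mul]
  · rw [← map_mul, hbb, map_one]
  · intro h4
    exact hbb1 (τ_injective (h4.trans (map_one _).symm))
  · rw [← map_mul, ← map_inv, ← map_mul, ← map_inv, h']
  · intro v hv
    rw [mem_fx] at hv ⊢
    have h4 : a * b = b * a ^ j := by rw [← h3]; group
    have h5 : τ F a (τ F b v) = τ F b (τ F (a ^ j) v) := by
      rw [← LinearEquiv.mul_apply, ← LinearEquiv.mul_apply, ← map_mul, ← map_mul, h4]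
    rw [h5, map_pow]
    have h6 := pow_eigen (x := τ F a) (w := v) (a := (1 : F)) (by rw [one_smul]; exact hv) j
    rw [h6, one_pow, one_smul]

/-- **`q` even of order two modulo `r`.** -/
theorem not_four [CharP F 2] {r : ℕ} (hr : r.Prime) (hok : Ok F r)
    (hiff : ∀ j, r ∣ Fintype.card F ^ j - 1 ↔ 2 ∣ j) {x : ProjectiveSpecialLinearGroup (Fin 3) F} (hx : orderOf x = r) :
    ¬ 4 ∣ Nat.card (normalizer (zpowers x : Set (ProjectiveSpecialLinearGroup (Fin 3) F))) := by
  intro h4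
  have : Fact (Nat.Prime 2) := ⟨Nat.prime_two⟩
  obtain ⟨Q, hQ⟩ := Sylow.exists_subgroup_card_pow_prime
    (G := ↥(normalizer (zpowers x : Set (ProjectiveSpecialLinearGroup (Fin 3) F)))) 2 (n := 2)
    (by norm_num; exact h4)
  have hsq : ∀ g ∈ Q, g * g = 1 := by
    intro g hg
    have h1 : g ^ 4 = 1 := by
      have h2 : (⟨g, hg⟩ : ↥Q) ^ Nat.card ↥Q = 1 := pow_card_eq_one'
      rw [hQ] at h2
      exact congrArg Subtype.val h2
    apply Subtype.ext
    refine sq_eq_one hr hok hiff hx ?_ g.2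
    have h2 := congrArg Subtype.val h1
    exact h2
  have hQ4 : Nat.card ↥Q = 4 := hQ
  have hfin : Finite ↥Q := Nat.finite_of_card_ne_zero (by omega)
  have : Nontrivial ↥Q := Finite.one_lt_card_iff_nontrivial.1 (by omega)
  obtain ⟨s, hs⟩ := exists_ne (1 : ↥Q)
  obtain ⟨t, ht, hts⟩ : ∃ t : ↥Q, t ≠ 1 ∧ t ≠ s := by
    by_contra hcon
    push Not at hcon
    have h1 : (Set.univ : Set ↥Q) ⊆ {1, s} := by
      intro t _
      by_cases h : t = 1
      · exact Or.inl h
      · exact Or.inr (hcon t h)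
    have h2 := Set.ncard_le_ncard h1 (Set.toFinite _)
    rw [Set.ncard_univ, hQ4] at h2
    have h3 : ({1, s} : Set ↥Q).ncard ≤ 2 := Set.ncard_insert_le _ _ |>.trans (by rw [Set.ncard_singleton])
    omega
  let f : ↥Q →* ProjectiveSpecialLinearGroup (Fin 3) F := (Subgroup.subtype _).comp Q.subtype
  have key : ∀ u : ↥Q, u ≠ 1 → f u * x ≠ x * f u ∧ f u * x * (f u)⁻¹ = x⁻¹ := by
    intro u hu
    refine inverts hr hok hiff hx ?_ ?_ (Q.subtype u).2
    · exact congrArg Subtype.val (hsq u u.2)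
    · intro h
      apply hu
      exact Subtype.ext (Subtype.ext h)
  have h1 := (key s hs).2
  have h2 := (key t ht).2
  have h3 : s * t ≠ 1 := by
    intro h
    apply hts
    have h4 : s * s = 1 := Subtype.ext (hsq s s.2)
    exact mul_left_cancel (h.trans h4.symm)
  apply (key (s * t) h3).1
  rw [map_mul]
  have h4 : f t * x = x⁻¹ * f t := by rw [← h2, inv_mul_cancel_right]
  have h5 : f s * x⁻¹ = x * f s := by
    have h6 : f s * x⁻¹ * (f s)⁻¹ = x := by
      calc f s * x⁻¹ * (f s)⁻¹ = (f s * x * (f s)⁻¹)⁻¹ := by group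
        _ = x := by rw [h1, inv_inv]
    exact mul_inv_eq_iff_eq_mul.1 h6
  calc f s * f t * x = f s * (f t * x) := by rw [mul_assoc]
    _ = f s * x⁻¹ * f t := by rw [h4, mul_assoc]
    _ = x * (f s * f t) := by rw [h5, mul_assoc]

end Cfsg.Agent.H583.FxThree

namespace Cfsg.Agent.H583.FxThree

open Subgroup Cfsg.Agent.H254.Fx

/-- **a cyclic Sylow subgroup in `D`** -/
theorem four_dvd {G : Type*} [Group G] [Finite G] {D : Subgroup G} (h : OddTI 4 D) {r : ℕ} (hr : r.Prime)
    {P : Sylow r G} (hP : (P : Subgroup G) ≤ D) (hcyc : IsCyclic ↥(P : Subgroup G)) {x : G}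
    (hxP : x ∈ (P : Subgroup G)) (hx : orderOf x = r) : 4 ∣ Nat.card (normalizer (zpowers x : Set G)) := by
  have : Fact r.Prime := ⟨hr⟩
  have hP1 : (P : Subgroup G) ≠ ⊥ := by
    intro h1
    rw [h1, mem_bot] at hxP
    rw [hxP, orderOf_one] at hx
    exact hr.one_lt.ne hx
  have h1 := (h.tran r P hr hP hP1).trans (h.relIndex_dvd hr hP)
  refine h1.trans (card_dvd_of_le ?_)
  intro g hg
  have h2 : (zpowers x).map (MulAut.conj g).toMonoidHom = zpowers x := by
    refine Cfsg.Agent.OddOrderLocal.CyclicSub.eq_of_card_eq_of_le_cyclic (Z := (P : Subgroup G)) hcyc ?_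
      (zpowers_le.2 hxP) (card_map_eq _ _)
    rw [MonoidHom.map_zpowers, zpowers_le]
    exact (mem_normalizer_iff.1 hg x).1 hxP
  exact Cfsg.Agent.EvenType.StrongP.mem_norm.2 h2

end Cfsg.Agent.H583.FxThree
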