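import Cfsg.Agent.H583.FxThree
import Cfsg.Agent.S0243

/-!
# The torus of order `(q² - 1)/d` and the unipotent radical in `PSL_3(q)` (helper583, task 2052)
-/

set_option autoImplicit false
set_option linter.unusedSectionVars false

namespace Cfsg.Agent.H583.FxThree

open Matrix Subgroup Cfsg.Agent.H254.Fx

variable {F : Type} [Field F]

/-- `diag(A, d)` -/
def gM (A : Matrix (Fin 2) (Fin 2) F) (d : F) : Matrix (Fin 3) (Fin 3) F :=
  !![A 0 0, A 0 1, 0; A 1 0, A 1 1, 0; 0, 0, d]

theorem gM_mul (A B : Matrix (Fin 2) (Fin 2) F) (d e : F) : gM A d * gM B e = gM (A * B) (d * e) := by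
  ext i j
  fin_cases i <;> fin_cases j <;> simp [gM, mul_apply, Fin.sum_univ_three, Fin.sum_univ_two]

theorem gM_one : gM (1 : Matrix (Fin 2) (Fin 2) F) 1 = 1 := by
  ext i j
  fin_cases i <;> fin_cases j <;> simp [gM]

/-- `A ↦ diag(A, det A⁻¹)` -/
def gS (F : Type) [Field F] : GL (Fin 2) F →* Matrix.SpecialLinearGroup (Fin 3) F where
  toFun A := ⟨gM A.1 (((GeneralLinearGroup.det A)⁻¹ : Fˣ) : F), by
    have h1 : A.1 0 0 * A.1 1 1 - A.1 0 1 * A.1 1 0 = ((GeneralLinearGroup.det A : Fˣ) : F) := (det_fin_two A.1).symm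
    have h2 := Units.mul_inv (GeneralLinearGroup.det A)
    rw [gM, det_fin_three]
    simp
    rw [← h2, ← h1]
    simp
    ring⟩
  map_one' := by
    apply Subtype.ext
    change gM (1 : Matrix (Fin 2) (Fin 2) F) (((GeneralLinearGroup.det (1 : GL (Fin 2) F))⁻¹ : Fˣ) : F) = 1
    rw [map_one, inv_one, Units.val_one, gM_one]
  map_mul' A B := by
    apply Subtype.ext
    change gM (A.1 * B.1) (((GeneralLinearGroup.det (A * B))⁻¹ : Fˣ) : F) = gM A.1 _ * gM B.1 _
    rw [gM_mul, map_mul, mul_inv, Units.val_mul]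

theorem coe_gS (A : GL (Fin 2) F) : (gS F A).1 = gM A.1 (((GeneralLinearGroup.det A)⁻¹ : Fˣ) : F) := rfl

/-- `GL_2 → PSL_3` -/
abbrev gK (F : Type) [Field F] : GL (Fin 2) F →* ProjectiveSpecialLinearGroup (Fin 3) F := (mk F).comp (gS F)

theorem gK_eq_one {A : GL (Fin 2) F} (h : gK F A = 1) : ∃ c : F, c ^ 3 = 1 ∧ A.1 = Matrix.scalar (Fin 2) c := by
  obtain ⟨c, hc, h1⟩ := mk_eq_one.1 h
  refine ⟨c, hc, ?_⟩
  rw [coe_gS] at h1
  have h2 : ∀ i j, gM A.1 (((GeneralLinearGroup.det A)⁻¹ : Fˣ) : F) i j = Matrix.scalar (Fin 3) c i j :=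
    fun i j => by rw [h1]
  ext i j
  fin_cases i <;> fin_cases j
  · simpa [gM] using h2 0 0
  · simpa [gM] using h2 0 1
  · simpa [gM] using h2 1 0
  · simpa [gM] using h2 1 1

section field

variable {E : Type} [Field E] [Finite E] [Algebra F E] (b : Module.Basis (Fin 2) F E)

/-- multiplications -/
noncomputable def TT : Eˣ →* GL (Fin 2) F := Units.map (Algebra.leftMulMatrix b : E →* Matrix (Fin 2) (Fin 2) F)

theorem TT_eq_scalar {a : Eˣ} {c : F} (h : (TT b a).1 = Matrix.scalar _ c) : (a : E) = algebraMap F E c := by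
  have h1 : Algebra.leftMulMatrix b (a : E) = Matrix.scalar _ c := h
  apply Algebra.leftMulMatrix_injective b
  rw [h1, AlgHom.commutes]
  rfl

/-- the torus -/
noncomputable abbrev tor : Eˣ →* ProjectiveSpecialLinearGroup (Fin 3) F := (gK F).comp (TT b)

theorem tor_eq_one {a : Eˣ} (h : tor b a = 1) : a ^ 3 = 1 ∧ ((∀ c : F, c ^ 3 = 1 → c = 1) → a = 1) := by
  obtain ⟨c, hc, h1⟩ := gK_eq_one h
  have h2 := TT_eq_scalar b h1
  constructor
  · apply Units.ext
    rw [Units.val_pow_eq_pow_val, h2, ← map_pow, hc, map_one, Units.val_one]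
  · intro h3
    apply Units.ext
    rw [h2, h3 c hc, map_one, Units.val_one]

theorem orderOf_tor {r : ℕ} (hr : r.Prime) (hok : Ok F r) {a : Eˣ} (ha : orderOf a = r) : orderOf (tor b a) = r := by
  have : Fact r.Prime := ⟨hr⟩
  refine orderOf_eq_prime (by rw [← map_pow, ← ha, pow_orderOf_eq_one, map_one]) fun h => ?_
  obtain ⟨h3, h1⟩ := tor_eq_one b h
  have h4 : a = 1 := by
    rcases hok with hok | hok
    · have h7 : orderOf a ∣ Nat.gcd r 3 := Nat.dvd_gcd (dvd_of_eq ha) (orderOf_dvd_of_pow_eq_one h3)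
      rw [hok, Nat.dvd_one] at h7
      exact orderOf_eq_one_iff.1 h7
    · exact h1 hok
  rw [h4, orderOf_one] at ha
  exact hr.one_lt.ne ha

theorem eight_dvd_range [Fintype F] (ho : Odd (Fintype.card F)) (hcard : Nat.card E = Fintype.card F ^ 2) :
    8 ∣ Nat.card (tor b).range := by
  have h1 : Nat.card Eˣ = Fintype.card F ^ 2 - 1 := by rw [Nat.card_units, hcard]
  have h2 : 8 ∣ Nat.card Eˣ := by
    rw [h1]
    obtain ⟨k, hk⟩ := ho
    obtain ⟨m, hm⟩ := Nat.even_mul_succ_self k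
    have : Fintype.card F ^ 2 - 1 = 8 * m := by
      rw [hk, Nat.sub_eq_iff_eq_add (Nat.one_le_pow _ _ (by omega))]
      have : (2 * k + 1) ^ 2 = 4 * (k * (k + 1)) + 1 := by ring
      rw [this, hm]; ring
    rw [this]
    exact dvd_mul_right _ _
  have h3 : Nat.card (tor b).ker * Nat.card (tor b).range = Nat.card Eˣ := by
    rw [← Subgroup.index_ker, Subgroup.card_mul_index]
  have h4 : IsPGroup 3 (tor b).ker := by
    intro a
    refine ⟨1, Subtype.ext ?_⟩
    rw [pow_one]
    exact (tor_eq_one b a.2).1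
  have : Fact (Nat.Prime 3) := ⟨Nat.prime_three⟩
  obtain ⟨n, hn⟩ := (IsPGroup.iff_card).1 h4
  rw [← h3] at h2
  have h5 : Nat.Coprime 8 (Nat.card (tor b).ker) := by
    rw [hn]
    exact Nat.Coprime.pow_right n (by norm_num)
  exact h5.dvd_of_dvd_mul_left h2

/-- **`q` odd: the elements of the torus are bad.** -/
theorem bad_tor [Fintype F] (ho : Odd (Fintype.card F)) (hcard : Nat.card E = Fintype.card F ^ 2) (a : Eˣ) :
    Bad (tor b a) := by
  refine bad_of_comm_eight (Y := (tor b).range) ?_ (eight_dvd_range b ho hcard)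
  rintro _ ⟨c, rfl⟩
  rw [← map_mul, ← map_mul, mul_comm]

end field

/-- the field extension of degree two -/
theorem exists_ext (F : Type) [Field F] [Fintype F] :
    ∃ (E : Type) (_ : Field E) (_ : Finite E) (_ : Algebra F E), Nat.card E = Fintype.card F ^ 2 ∧
      Nonempty (Module.Basis (Fin 2) F E) := by
  obtain ⟨r, hr⟩ := CharP.exists F
  obtain ⟨n, hr', hn⟩ := FiniteField.card F r
  have : Fact r.Prime := ⟨hr'⟩
  have hcardK : Nat.card (FiniteField.Extension F r 2) = Nat.card F ^ 2 := FiniteField.natCard_extension F r 2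
  have hfin : Module.finrank F (FiniteField.Extension F r 2) = 2 := by
    have h1 := Module.natCard_eq_pow_finrank (K := F) (V := FiniteField.Extension F r 2)
    rw [hcardK] at h1
    exact (Nat.pow_right_injective (Finite.one_lt_card (α := F)) h1).symm
  refine ⟨FiniteField.Extension F r 2, inferInstance, inferInstance, inferInstance, ?_,
    ⟨Module.finBasisOfFinrankEq F _ hfin⟩⟩
  rw [hcardK, Nat.card_eq_fintype_card]

/-! ### The unipotent radical -/

/-- `[1, v; 0, 1]` -/
def uM (a b : F) : Matrix (Fin 3) (Fin 3) F := !![1, 0, a; 0, 1, b; 0, 0, 1]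

theorem uM_mul (a b a' b' : F) : uM a b * uM a' b' = uM (a + a') (b + b') := by
  ext i j
  fin_cases i <;> fin_cases j <;> simp [uM, mul_apply, Fin.sum_univ_three, add_comm]

/-- the unipotent radical of a maximal parabolic subgroup -/
def uS (F : Type) [Field F] : Multiplicative (F × F) →* Matrix.SpecialLinearGroup (Fin 3) F where
  toFun p := ⟨uM p.toAdd.1 p.toAdd.2, by rw [uM, det_fin_three]; simp⟩
  map_one' := by
    apply Subtype.ext
    change uM (0 : F) 0 = 1
    ext i j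
    fin_cases i <;> fin_cases j <;> simp [uM]
  map_mul' p q := by
    apply Subtype.ext
    change uM (p.toAdd.1 + q.toAdd.1) (p.toAdd.2 + q.toAdd.2) = uM _ _ * uM _ _
    rw [uM_mul]

theorem coe_uS (p : Multiplicative (F × F)) : (uS F p).1 = uM p.toAdd.1 p.toAdd.2 := rfl

theorem gS_uS (A : GL (Fin 2) F) (p : Multiplicative (F × F)) : ∃ p' : Multiplicative (F × F),
    gS F A * uS F p = uS F p' * gS F A := by
  refine ⟨Multiplicative.ofAdd
    ((A.1 0 0 * p.toAdd.1 + A.1 0 1 * p.toAdd.2) * ((GeneralLinearGroup.det A : Fˣ) : F),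
     (A.1 1 0 * p.toAdd.1 + A.1 1 1 * p.toAdd.2) * ((GeneralLinearGroup.det A : Fˣ) : F)), ?_⟩
  apply Subtype.ext
  rw [Matrix.SpecialLinearGroup.coe_mul, Matrix.SpecialLinearGroup.coe_mul, coe_gS, coe_uS, coe_uS]
  have h2 := Units.mul_inv (GeneralLinearGroup.det A)
  rw [toAdd_ofAdd]
  generalize (((GeneralLinearGroup.det A)⁻¹ : Fˣ) : F) = e at *
  generalize ((GeneralLinearGroup.det A : Fˣ) : F) = d at *
  ext i j
  fin_cases i <;> fin_cases j <;> simp [gM, uM, mul_apply, Fin.sum_univ_three, mul_assoc, h2]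

end Cfsg.Agent.H583.FxThree
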