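import Cfsg.Agent.H583.GoodGen
import Cfsg.Agent.H965.SUTwF4
import Cfsg.Agent.H965.SUTits
import Cfsg.Agent.H728.DghpTwB
import Cfsg.Agent.S1072
import Cfsg.Agent.S1074
import Cfsg.Agent.S2128

/-!
# The good primes of `²F4(q)` and of the Tits group (helper583, for S4384)
-/

set_option autoImplicit false
set_option linter.unusedSectionVars false

namespace Cfsg.Agent.H583.GoodRee

open Cfsg.Agent.H465.SU Cfsg.Agent.H585.Good Cfsg.Agent.H583.GoodGen
open Cfsg.Agent.H728.DghpLem Cfsg.Agent.H728.DghpMat Cfsg.Agent.H728.DghpNum Cfsg.Agent.H728.DghpRow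
  Cfsg.Agent.H518.Dghp Cfsg.Agent.H728.DghpCent Cfsg.Agent.H728.DghpUntw Cfsg.Agent.H728.DghpTwA
  Cfsg.Agent.H728.DghpTwelve
open Cfsg Cfsg.Lie Cfsg.Agent.Nodes.RGDChev Cfsg.Agent.H129.TorusChar
  Cfsg.Agent.ChevalleyStructure.CoxeterGeomTypes

theorem wit_2F4 {K : Type*} [Field K] [Fintype K] {m : ℕ} (hm : 1 ≤ m) (hK : Fintype.card K = 2 ^ (2 * m + 1))
    {r : ℕ} (hr : Ppd (2 ^ (2 * m + 1)) 12 r) (h53 : 53 ≤ r) {x : ↥(twistedF4 K (2 ^ m))} (hx : orderOf x = r) :
    Wit ↥(twistedF4 K (2 ^ m)) r x := by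
  set q := 2 ^ (2 * m + 1) with hqdef
  have hq8 : 8 ≤ q := by
    have : 2 ^ 3 ≤ 2 ^ (2 * m + 1) := Nat.pow_le_pow_right (by norm_num) (by omega)
    omega
  obtain ⟨s, hs⟩ := exists_ppd (q := q) (e := 6) (by omega) (by norm_num) (by omega)
  have hr1 : 13 ≤ r := hr.le_of (by decide)
  have hs1 : 7 ≤ s := hs.le_of (by decide)
  have hs12 : ¬ s ∣ 12 := fun h => by
    have h2 : (12 : ℕ) = 2 ^ 2 * 3 := by norm_num
    rw [h2] at h
    rcases (Nat.Prime.dvd_mul hs.prime).1 h with h | h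
    · have := Nat.le_of_dvd (by norm_num) (hs.prime.dvd_of_dvd_pow h); omega
    · have := Nat.le_of_dvd (by norm_num) h; omega
  have hcard := Cfsg.Agent.S1068.result (K := K) (m := m) hK
  rw [← hqdef] at hcard
  have hN : Fintype.card chevF4.Idx = 52 := card_idx _
  have hp : IsType chevF4 4 CoxeterMatrix.F₄ := by simp [IsType, typeList]
  have hle : twistedF4 K (2 ^ m) ≤ chevF4.group K := genSubgroup_le hp.inList _
  have hinc := Subgroup.inclusion_injective hle
  have hsG : s ∣ Nat.card ↥(twistedF4 K (2 ^ m)) := by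
    rw [hcard]
    exact ((dvd_add_one hs (k := 3) (by norm_num) (by norm_num)).mul_left _).mul_right _ |>.mul_right _
  obtain ⟨c, hc⟩ := exists_order hs.prime hsG
  have hK1 : Fintype.card K = q ^ 1 := by rw [pow_one]; exact hK
  refine ⟨s, c, hs.prime, (Ppd.ne hr hs (by norm_num)).symm, ⟨1, hc⟩, ?_⟩
  rw [pow_one] at hc
  refine not_solvable_wt (a := 1) (φ := (twistedF4 K (2 ^ m)).subtype) (twistedF4 K (2 ^ m)).subtype_injective
    hr.prime hs.prime (hr.natCast_ne hK1) (hs.natCast_ne hK1) ?_ ?_ 0 (Or.inl rfl) ?_ one_pos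
    (by rw [pow_one, hN]; omega) x c (by rw [pow_one]; exact hx) hc
  · refine NonAdj.of_injective ?_ hinc
    exact nonAdj (l := 4) (M := CoxeterMatrix.F₄) hp card_F4 (by norm_num) one_ne_zero
      invC_F4 hK hr hs (by norm_num) (by decide)
      (not_dvd_list (L := [2, 6, 8, 12]) hr.prime hr1 (by decide)) hs12
  · exact elem_cyclic_of_injective (elem_cyclic hK (chevF4, [2, 6, 8, 12]) (by simp) hr
      (not_dvd_list hr.prime hr1 (by decide)) (by decide)) hinc
  · rw [hK, hr.ord, add_zero, hN]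
    exact lcm_gt' hs.prime (B := 7) hs12 hs1 (by norm_num)

section

open Subgroup Cfsg.Agent.H568 Cfsg.Agent.H798.RowTw Cfsg.Agent.H967.CopMat Cfsg.Agent.H967.CopSz Cfsg.Agent.H965.SU

/-- **²F4(q)**, after helper965's `row_twF4` -/
theorem good_2F4 {F : Type} [Field F] [Fintype F] {m : ℕ} (hm : 1 ≤ m) (hF : Fintype.card F = 2 ^ (2 * m + 1)) :
    HasGood ↥(twistedF4 F (2 ^ m)) := by
  obtain ⟨hs, hna⟩ := Cfsg.Agent.S1072.result hm hF
  have hcard := Cfsg.Agent.S1068.result hF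
  have hF' : Nat.card F = 2 ^ (2 * m + 1) := by rw [Nat.card_eq_fintype_card, hF]
  have h2f : Fact (Nat.Prime 2) := ⟨Nat.prime_two⟩
  have hc2 : CharP F 2 := charP_of_card Nat.prime_two hF
  obtain ⟨l, hP⟩ := exists_ppd (q := 2) (e := 12 * (2 * m + 1)) le_rfl (by omega) (by omega)
  have hl := hP.prime
  have hE := hP.dvd_iff
  have hdv := hP.dvd_pred
  have hlle : 12 * (2 * m + 1) ≤ l - 1 := Nat.le_of_dvd (by have := hl.two_le; omega) hdv
  have hq1 : 1 ≤ 2 ^ (2 * m + 1) := Nat.one_le_pow _ _ (by norm_num)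
  have hldvd : l ∣ (2 ^ (2 * m + 1)) ^ 6 + 1 := by
    have h1 : l ∣ 2 ^ (12 * (2 * m + 1)) - 1 := (hE _).2 dvd_rfl
    have h2 : 2 ^ (12 * (2 * m + 1)) - 1 = (2 ^ (6 * (2 * m + 1)) - 1) * ((2 ^ (2 * m + 1)) ^ 6 + 1) := by
      have h3 : 2 ^ (12 * (2 * m + 1)) = ((2 ^ (2 * m + 1)) ^ 6) ^ 2 := by rw [← pow_mul, ← pow_mul]; ring_nf
      have h4 : 2 ^ (6 * (2 * m + 1)) = (2 ^ (2 * m + 1)) ^ 6 := by rw [← pow_mul]; ring_nf
      rw [h3, h4]
      exact fac _
    rw [h2] at h1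
    rcases hl.dvd_mul.1 h1 with h3 | h3
    · have h4 := (hE _).1 h3
      have := Nat.le_of_dvd (by omega) h4
      omega
    · exact h3
  have hdc : l ∣ Nat.card ↥(twistedF4 F (2 ^ m)) := by
    rw [hcard]
    exact hldvd.mul_left _
  have : Fact l.Prime := ⟨hl⟩
  obtain ⟨ρ, hρi, -⟩ := exists_rep (F := F) (2 ^ m) hna
  -- the torus of `F₄(q)`
  obtain ⟨T, hT, hTc, hTi⟩ := f4_torus (F := F) _ hF
  have hlT : l ∣ Nat.card ↥T := by
    set q := 2 ^ (2 * m + 1) with hq
    have h1 : (q ^ 2 + 1) * (Nat.card ↥T) = q ^ 6 + 1 := by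
      have h2 : (q ^ 2 + 1) * (Nat.card ↥T + q ^ 2) = (q ^ 2 + 1) * (q ^ 4 + 1) := by rw [hTc]
      rw [mul_add] at h2
      have h3 : (q ^ 2 + 1) * (q ^ 4 + 1) = (q ^ 6 + 1) + (q ^ 2 + 1) * q ^ 2 := by ring
      rw [h3] at h2
      exact Nat.add_right_cancel h2
    rw [← h1] at hldvd
    rcases hl.dvd_mul.1 hldvd with h2 | h2
    · exfalso
      have h3 : l ∣ 2 ^ (4 * (2 * m + 1)) - 1 := by
        have h4 : 2 ^ (4 * (2 * m + 1)) - 1 = (q ^ 2 - 1) * (q ^ 2 + 1) := by
          have h5 : 2 ^ (4 * (2 * m + 1)) = (q ^ 2) ^ 2 := by rw [hq, ← pow_mul, ← pow_mul]; ring_nf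
          rw [h5]
          exact fac _
        rw [h4]
        exact h2.mul_left _
      have h4 := Nat.le_of_dvd (by omega) ((hE _).1 h3)
      omega
    · exact h2
  have hle := twF4_le_group (K := F) (2 ^ m)
  let inc := Subgroup.inclusion hle
  have hinc : Function.Injective inc := Subgroup.inclusion_injective hle
  have hcyc : ∀ P : Subgroup ↥(twistedF4 F (2 ^ m)), IsPGroup l P → IsCyclic ↥P := by
    intro P hP
    have h2 := (isolated hT hTi hlT).1 (P.map inc) (hP.map _)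
    exact (P.equivMapOfInjective inc hinc).isCyclic.2 h2
  obtain ⟨a, y, ha, hy, hfull⟩ := exists_full hl hdc hcyc
  have hord : ∀ k, l ∣ Nat.card F ^ k - 1 → 12 ∣ k := by
    intro k hk
    rw [hF', ← pow_mul] at hk
    have h1 := (hE _).1 hk
    rw [mul_comm (2 * m + 1) k] at h1
    exact Nat.dvd_of_mul_dvd_mul_right (by omega) h1
  have hy1 : orderOf (y ^ l ^ (a - 1)) = l := Cfsg.Agent.H518.SU.orderOf_pow_pred hl ha hy
  have hNN : NoNorm 2 (y ^ l ^ (a - 1)) := by
    refine noNorm_of_injective inc hinc ?_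
    exact noNorm_f4_of_torus hF hl hT hTc hTi hlT hord (by rw [orderOf_injective inc hinc, hy1])
  have hsu : SUel l y := by
    refine ⟨?_, ⟨a, hy⟩, ?_⟩
    · intro h
      rw [h, orderOf_one] at hy
      exact (Nat.one_lt_pow (by omega) hl.one_lt).ne hy
    · intro M hM hyM A B hA hB hAc hBc
      refine unique_of_centralize hM ha hy hyM (fun P => hcyc P P.isPGroup') ?_ A B hA hB hAc hBc
      intro t ht htl T' _ hT' hyT'
      by_cases h2 : t = 2
      · subst h2
        exact centralize_of_noNorm hNN hT' hyT'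
      · refine Cfsg.Agent.H465.LinSolv.centralize_matrix ρ hρi hl (by omega) ha ht htl ?_ hy hT' hyT' (Or.inl ?_)
        · intro h0
          exact h2 ((Nat.prime_dvd_prime_iff_eq Nat.prime_two ht).1 ((CharP.cast_eq_zero_iff F 2 t).1 h0)).symm
        · have h3 : l ^ a = l ^ (a - 1) * l := by rw [← pow_succ, Nat.sub_add_cancel ha]
          rw [h3]
          have h4 : 1 ≤ l ^ (a - 1) := Nat.one_le_pow _ _ hl.pos
          have h5 : 37 ≤ l := by omega
          have h6 := Nat.mul_le_mul_left (l ^ (a - 1)) h5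
          omega
  refine ⟨l, a, y, hl, by omega, ha, hy, hfull, hsu, InnAt.of_out hl ?_, ?_⟩
  · rw [Cfsg.Agent.S2128.result hm hF]
    intro h
    have := Nat.le_of_dvd (by omega) h
    omega
  · rcases Nat.lt_or_ge a 2 with h2 | h2
    · obtain rfl : a = 1 := by omega
      have e1 : y ^ l ^ (1 - 1) = y := by simp
      rw [e1]
      rw [pow_one] at hy
      exact Wit.of_one hl hy hsu hna
    · -- `l > 52`
      have hP' : Ppd (2 ^ (2 * m + 1)) 12 l := by
        have h3 := hP.pow (2 * m + 1) (by omega)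
        rwa [Nat.gcd_eq_right (Dvd.intro_left _ rfl), Nat.mul_div_cancel _ (by omega)] at h3
      refine wit_2F4 hm hF hP' ?_ hy1
      by_contra h53
      push Not at h53
      have hm1 : m = 1 := by omega
      subst hm1
      have h37 : l = 37 := by
        have h3 : 12 * (2 * 1 + 1) ∣ l - 1 := hdv
        omega
      subst h37
      have h4 : 37 ^ 2 ∣ Nat.card ↥(twistedF4 F (2 ^ 1)) :=
        (pow_dvd_pow 37 h2).trans (by rw [← hy]; exact orderOf_dvd_natCard y)
      rw [hcard] at h4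
      norm_num at h4

/-- **The Tits group**, after helper965's `row_tits` -/
theorem good_tits : HasGood Cfsg.Lie.TitsGroup := by
  obtain ⟨-, hsimp, hnc, hcard0⟩ := Cfsg.Agent.S1074.result
  have hfin : Finite Cfsg.Lie.TitsGroup := Nat.finite_of_card_ne_zero (by rw [hcard0]; norm_num)
  have h : Cfsg.Lie.IsoTits Cfsg.Lie.TitsGroup := ⟨MulEquiv.refl _⟩
  have hcard : Nat.card Cfsg.Lie.TitsGroup = 17971200 := by rw [hcard0]; norm_num
  obtain ⟨D⟩ : Nonempty (Cfsg.Agent.H87.TitsAbs.Dat Cfsg.Lie.TitsGroup) := Cfsg.Agent.H87.TitsData.dat_tits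
  have hc := Cfsg.Agent.H845.CopTits.card_cent_x h D
  have h13 : Nat.Prime 13 := by norm_num
  have : Fact (Nat.Prime 13) := ⟨h13⟩
  have hx : orderOf D.x = 13 := orderOf_eq_prime D.x13 D.x1
  have hfull : ¬ 13 ^ 2 ∣ Nat.card Cfsg.Lie.TitsGroup := by rw [hcard]; norm_num
  have hz1 : D.z ≠ 1 := by
    intro h0
    have h1 := D.conj 0 (by norm_num) 0 (by norm_num) 1 (by norm_num) (by norm_num)
    rw [pow_zero, pow_zero, pow_one, one_mul, one_mul, h0] at h1
    exact D.t1 (isConj_one_right.1 h1)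
  have hts : D.t * D.s ≠ D.s * D.t := by
    intro h0
    have h1 := D.ts
    rw [h0] at h1
    exact hz1 (mul_eq_right.1 h1.symm)
  have hsu : SUel 13 D.x := by
    refine suel_of_noNorm h13 hx hfull fun t ht htl htd => ?_
    have h0 : (17971200 : ℕ) = 2 ^ 11 * 3 ^ 3 * 5 ^ 2 * 13 := by norm_num
    have ht' : t = 2 ∨ t = 3 ∨ t = 5 := by
      rw [hcard, h0] at htd
      rcases (Nat.Prime.dvd_mul ht).1 htd with h1 | h1
      · rcases (Nat.Prime.dvd_mul ht).1 h1 with h1 | h1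
        · rcases (Nat.Prime.dvd_mul ht).1 h1 with h1 | h1
          · exact Or.inl ((Nat.prime_dvd_prime_iff_eq ht Nat.prime_two).1 (ht.dvd_of_dvd_pow h1))
          · exact Or.inr (Or.inl ((Nat.prime_dvd_prime_iff_eq ht Nat.prime_three).1 (ht.dvd_of_dvd_pow h1)))
        · exact Or.inr (Or.inr ((Nat.prime_dvd_prime_iff_eq ht (by norm_num)).1 (ht.dvd_of_dvd_pow h1)))
      · exact absurd ((Nat.prime_dvd_prime_iff_eq ht h13).1 h1) htl
    refine noNorm_of_num h13 ht htl hx hc fun k hk hkd hkl => ?_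
    have hk13 : k ≤ 24 := by
      by_contra h1
      have h2 : t ^ 25 ∣ Nat.card Cfsg.Lie.TitsGroup := (pow_dvd_pow t (by omega)).trans hkd
      have h3 : 2 ^ 25 ≤ t ^ 25 := Nat.pow_le_pow_left ht.two_le 25
      have h4 := Nat.le_of_dvd Nat.card_pos h2
      rw [hcard] at h4
      omega
    rw [hcard] at hkd
    rcases ht' with rfl | rfl | rfl
    · exfalso
      interval_cases k <;> revert hkd hkl <;> norm_num
    · have hk3 : k = 3 := by
        interval_cases k <;> revert hkd hkl <;> norm_num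
      subst hk3
      refine ⟨fun j hj1 hj3 hj => ?_, fun Q hQ _ => ?_⟩
      · interval_cases j <;> revert hj <;> norm_num
      · have : Fact (Nat.Prime 3) := ⟨Nat.prime_three⟩
        refine nonab_of_pair (t := 3) (k := 3) (Q0 := D.R) (IsPGroup.of_card (n := 3) (by rw [D.card_R]; norm_num))
          ⟨1, 0, 0, ?_⟩ ⟨0, 1, 0, ?_⟩ hts (by rw [hcard]; norm_num) Q hQ
        · show D.t ^ 1 * D.s ^ 0 * D.z ^ 0 = D.t
          rw [pow_one, pow_zero, pow_zero, mul_one, mul_one]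
        · show D.t ^ 0 * D.s ^ 1 * D.z ^ 0 = D.s
          rw [pow_one, pow_zero, pow_zero, mul_one, one_mul]
    · exfalso
      interval_cases k <;> revert hkd hkl <;> norm_num
  refine ⟨13, 1, D.x, h13, by norm_num, le_rfl, by rw [hx, pow_one], hfull, hsu, InnAt.of_out h13 ?_, ?_⟩
  · intro hd
    have h1 := Cfsg.Agent.H867.TitsOut.card_out_le h
    have h2 := Nat.le_of_dvd Nat.card_pos hd
    omega
  · have e1 : D.x ^ 13 ^ (1 - 1) = D.x := by simp
    rw [e1]
    exact Wit.of_one h13 hx hsu hnc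

end

end Cfsg.Agent.H583.GoodRee
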