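import Cfsg.Agent.H585.Good
import Cfsg.Agent.H465.PETable
import Cfsg.Agent.H498.SporOut

/-!
# The good primes of the sporadic groups (helper583, for S4384)
-/

set_option autoImplicit false

namespace Cfsg.Agent.H583.GoodSpor

open Cfsg Cfsg.Agent.H465.SU Cfsg.Agent.H585.Good

/-- a Sylow subgroup of prime order `≥ 5` -/
theorem hasGood_of_one {K : Type*} [Group K] [Finite K] [IsSimpleGroup K] (hK : ¬ IsMulCommutative K)
    (h : HasSU1 K) (hout : ∀ p : ℕ, p.Prime → 5 ≤ p → ¬ p ∣ Nat.card (Cfsg.Out K)) : HasGood K := by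
  obtain ⟨p, y, hp, hp5, hy, hc, hsu⟩ := h
  refine ⟨p, 1, y, hp, by omega, le_rfl, by rw [hy, pow_one], hc, hsu, InnAt.of_out hp (hout p hp hp5), ?_⟩
  have e1 : y ^ p ^ (1 - 1) = y := by simp
  rw [e1]
  exact Wit.of_one hp hy hsu hK

/-- **the sporadic groups, except `Fi₂₂`** -/
theorem good_sporadic {K : Type*} [Group K] [Finite K] [IsSimpleGroup K] (hK : ¬ IsMulCommutative K)
    (h : IsSporadicGroup K) : HasGood K ∨ Spor.IsoFi22 K := by
  rcases Cfsg.Agent.H465.PETable.hasSU1_sporadic h with h1 | h1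
  · refine Or.inl (hasGood_of_one hK h1 fun p hp hp5 hd => ?_)
    have h2 := Cfsg.Agent.H498.SporOut.index_le_two h
    have h3 : (MulAut.conj : K →* MulAut K).range.index = Nat.card (Cfsg.Out K) := rfl
    rw [h3] at h2
    have := Nat.le_of_dvd Nat.card_pos hd
    omega
  · exact Or.inr h1

end Cfsg.Agent.H583.GoodSpor
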