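import Cfsg.Agent.H585.Good
import Cfsg.Agent.H585.FacOne
import Cfsg.Agent.H465.SzRee
import Cfsg.Agent.S1073
import Cfsg.Agent.S2126
import Cfsg.Agent.S2127

/-!
# The good primes of the Suzuki and Ree groups (helper583, for S4384)
-/

set_option autoImplicit false

namespace Cfsg.Agent.H583.GoodSz

open Subgroup Cfsg.Agent.H465.SU Cfsg.Agent.H465.SzRee Cfsg.Agent.H585.Good Cfsg.Agent.H585.FacOne

/-- an element of order `p`, cyclic Sylow `p`-subgroups -/
theorem hasGood_of_cyclic {G : Type*} [Group G] [Finite G] [IsSimpleGroup G] (hG : ¬ IsMulCommutative G) {p : ℕ}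
    (hp : p.Prime) (hp2 : p ≠ 2) (hcyc : ∀ P : Subgroup G, IsPGroup p P → IsCyclic P) {y : G} (hy : orderOf y = p)
    (h : SUel p y) (hinn : InnAt G p) : HasGood G := by
  have : Fact p.Prime := ⟨hp⟩
  have hz : IsPGroup p (zpowers y) := IsPGroup.of_card (n := 1) (by rw [Nat.card_zpowers, hy, pow_one])
  obtain ⟨P, hP⟩ := hz.exists_le_sylow
  have hcP := hcyc P P.2
  obtain ⟨g, hg⟩ := hcP.exists_generator
  have hgo : orderOf (g : G) = p ^ (Nat.card G).factorization p := by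
    rw [orderOf_coe, orderOf_eq_card_of_forall_mem_zpowers hg, P.card_eq_multiplicity]
  set a := (Nat.card G).factorization p with ha
  have hyg : y ∈ zpowers (g : G) := by
    have h1 : y ∈ (P : Subgroup G) := hP (mem_zpowers y)
    obtain ⟨i, hi⟩ := mem_zpowers_iff.1 (hg ⟨y, h1⟩)
    refine mem_zpowers_iff.2 ⟨i, ?_⟩
    rw [← SubgroupClass.coe_zpow, hi]
  have ha1 : 1 ≤ a := by
    by_contra h0
    have h1 : a = 0 := by omega
    rw [h1, pow_zero, orderOf_eq_one_iff] at hgo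
    rw [hgo, zpowers_one_eq_bot, mem_bot] at hyg
    exact h.1 hyg
  have hxo : orderOf ((g : G) ^ p ^ (a - 1)) = p := by
    rw [orderOf_pow, hgo, Nat.gcd_eq_right (pow_dvd_pow p (Nat.sub_le a 1)), Nat.pow_div (Nat.sub_le a 1) hp.pos]
    have : a - (a - 1) = 1 := by omega
    rw [this, pow_one]
  have hsg : SUel p (g : G) := by
    refine ⟨?_, ⟨_, hgo⟩, fun M hM hgM A B hA hB hAc hBc => ?_⟩
    · intro h0
      rw [h0, zpowers_one_eq_bot, mem_bot] at hyg
      exact h.1 hyg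
    · exact h.2.2 M hM ((zpowers_le.2 hgM) hyg) A B hA hB hAc hBc
  refine ⟨p, a, g, hp, hp2, ha1, hgo, Nat.pow_succ_factorization_not_dvd Nat.card_pos.ne' hp, hsg, hinn, ?_⟩
  refine Wit.of_one hp hxo (SUel.of_zpowers h ?_) hG
  refine Cfsg.Agent.OddOrderLocal.CyclicSub.eq_of_card_eq_of_le_cyclic (Z := (P : Subgroup G)) hcP hP ?_ ?_
  · rw [zpowers_le]
    exact pow_mem g.2 _
  · rw [Nat.card_zpowers, Nat.card_zpowers, hy, hxo]

/-- **the Suzuki groups** -/
theorem good_sz {G : Type*} [Group G] [Finite G] [IsSimpleGroup G] (hG : ¬ IsMulCommutative G)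
    (h : Cfsg.Lie.IsoSuzuki G) : HasGood G := by
  obtain ⟨F, _, _, m, hm, hF, ⟨e⟩⟩ := h
  obtain ⟨p, y, hp, hp13, hord, hy, hSU⟩ := row_sz hm hF
  have : Fact p.Prime := ⟨hp⟩
  obtain ⟨e'⟩ := Cfsg.Agent.OddCyclic.ClaimC.SzIso.iso (F := F) hm hF
  have f : Cfsg.Sz F m ≃* G := e'.trans e.symm
  have hfin : Finite (Cfsg.Sz F m) := Finite.of_equiv G f.symm.toEquiv
  have hsim : IsSimpleGroup (Cfsg.Sz F m) := f.isSimpleGroup
  have hnc : ¬ IsMulCommutative (Cfsg.Sz F m) := fun hc => hG ⟨⟨fun a b => by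
    apply f.symm.injective
    rw [map_mul, map_mul]
    exact hc.is_comm.comm _ _⟩⟩
  have hp2' : ¬ p ∣ 2 := fun h => by have := Nat.le_of_dvd (by norm_num) h; omega
  have h1 := Lib.Zsigmondy.orderOf_dvd_pred hp hp2'
  rw [hord] at h1
  have h2 := Nat.le_of_dvd (by omega) h1
  refine (hasGood_of_cyclic hnc hp (by omega) (fun P hP => ?_) hy hSU ?_).congr f
  · obtain ⟨S, hS'⟩ := hP.exists_le_sylow
    have := Cfsg.Agent.S0331.result hm hF (by omega) S
    exact isCyclic_of_injective (Subgroup.inclusion hS') (Subgroup.inclusion_injective hS')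
  · have h3 : Finite ↥(Cfsg.Lie.Sz F (2 ^ (m + 1))) := Finite.of_equiv _ e'.toEquiv
    refine (InnAt.of_out (K := ↥(Cfsg.Lie.Sz F (2 ^ (m + 1)))) hp ?_).congr e'.symm
    rw [Cfsg.Agent.S2126.result hm hF]
    intro h4
    have := Nat.le_of_dvd (by omega) h4
    omega

/-- the Ree groups, after helper465's `row_ree` -/
theorem row_ree {K : Type*} [Field K] [Fintype K] {m : ℕ} (hm : 1 ≤ m) (hK : Fintype.card K = 3 ^ (2 * m + 1)) :
    ∃ (p : ℕ) (y : Cfsg.Lie.twistedG2 K (3 ^ m)), p.Prime ∧ 19 ≤ p ∧ 6 * (2 * m + 1) ≤ p - 1 ∧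
      (∀ P : Subgroup (Cfsg.Lie.twistedG2 K (3 ^ m)), IsPGroup p P → IsCyclic P) ∧ orderOf y = p ∧ SUel p y := by
  obtain ⟨p, hp, hord⟩ := Lib.Zsigmondy.exists_prime_orderOf (a := 3) (n := 6 * (2 * m + 1)) (by norm_num) (by omega)
    (by omega) (by omega)
  have : Fact p.Prime := ⟨hp⟩
  have hcard := Cfsg.Agent.S1069.result (K := K) hK
  have hS := Cfsg.Agent.S1158.result hm hK
  set q := 3 ^ (2 * m + 1) with hq
  set t := 3 ^ (m + 1) with ht
  have hq27 : 27 ≤ q := by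
    have : 3 ^ 3 ≤ 3 ^ (2 * m + 1) := Nat.pow_le_pow_right (by norm_num) (by omega)
    omega
  have htq : t ≤ q := Nat.pow_le_pow_right (by norm_num) (by omega)
  have htt : t ^ 2 = 3 * q := by
    rw [ht, hq]
    ring
  have hp3' : ¬ p ∣ 3 := by
    intro h
    have h2 : p = 3 := (Nat.prime_dvd_prime_iff_eq hp Nat.prime_three).1 h
    subst h2
    have h3 : ((3 : ℕ) : ZMod 3) = 0 := ZMod.natCast_self 3
    rw [h3] at hord
    have h4 : orderOf (0 : ZMod 3) = 0 := by
      rw [orderOf_eq_zero_iff']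
      intro n hn h5
      rw [zero_pow hn.ne'] at h5
      exact zero_ne_one h5
    omega
  have hp3 : p ≠ 3 := fun h => hp3' (h ▸ dvd_rfl)
  have hple : 6 * (2 * m + 1) ≤ p - 1 := by
    have h1 := Lib.Zsigmondy.orderOf_dvd_pred hp hp3'
    rw [hord] at h1
    exact Nat.le_of_dvd (by have := hp.two_le; omega) h1
  have hp19 : 19 ≤ p := by omega
  have hprod : q ^ 3 + 1 = (q + 1) * ((q + t + 1) * (q - t + 1)) := by
    have : (t : ℤ) ^ 2 = 3 * q := by exact_mod_cast htt
    zify [htq]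
    linear_combination (q + 1 : ℤ) * this
  have hfin : Finite ↥(Cfsg.Lie.twistedG2 K (3 ^ m)) := by
    apply Nat.finite_of_card_ne_zero
    rw [hcard]
    have : q - 1 ≠ 0 := by omega
    positivity
  have hn1 : ¬ p ∣ q - 1 := by
    have h1 := not_dvd_of_ord (a := 3) (j := 2 * m + 1) (by norm_num) hord (fun h => by
      have := Nat.le_of_dvd (by omega) h
      omega)
    exact h1
  have hn2 : ¬ p ∣ q ^ 2 - 1 := by
    have h1 := not_dvd_of_ord (a := 3) (j := 2 * (2 * m + 1)) (by norm_num) hord (fun h => by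
      have := Nat.le_of_dvd (by omega) h
      omega)
    have e : 3 ^ (2 * (2 * m + 1)) = q ^ 2 := by rw [hq]; ring
    rwa [e] at h1
  have hn3 : ¬ p ∣ q + 1 := by
    intro h
    apply hn2
    have : q ^ 2 - 1 = (q + 1) * (q - 1) := by
      have := Nat.sq_sub_sq q 1
      rwa [one_pow] at this
    rw [this]
    exact h.mul_right _
  -- `p ∣ q³ + 1`
  have hpq : p ∣ q ^ 3 + 1 := by
    have h1 : p ∣ 3 ^ (6 * (2 * m + 1)) - 1 := (Lib.Zsigmondy.dvd_pow_sub_one_iff (by norm_num) _).2 (by rw [hord])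
    have h2 : 3 ^ (6 * (2 * m + 1)) - 1 = (q ^ 3 + 1) * (3 ^ (3 * (2 * m + 1)) - 1) := by
      have e1 : 3 ^ (6 * (2 * m + 1)) = (q ^ 3) ^ 2 := by rw [hq]; ring
      have e2 : 3 ^ (3 * (2 * m + 1)) = q ^ 3 := by rw [hq]; ring
      rw [e1, e2]
      have := Nat.sq_sub_sq (q ^ 3) 1
      rwa [one_pow] at this
    rw [h2] at h1
    rcases (hp.dvd_mul).1 h1 with h3 | h3
    · exact h3
    · exact absurd h3 (not_dvd_of_ord (by norm_num) hord (fun h4 => by
        have := Nat.le_of_dvd (by omega) h4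
        omega))
  -- cyclic Sylow subgroups
  have hcyc : ∀ P : Sylow p ↥(Cfsg.Lie.twistedG2 K (3 ^ m)), IsCyclic P := by
    intro P
    have hpt : p ∣ q + t + 1 ∨ p ∣ q - t + 1 := by
      rw [hprod] at hpq
      rcases (hp.dvd_mul).1 hpq with h | h
      · exact absurd h hn3
      · exact (hp.dvd_mul).1 h
    have hpq0 : ¬ p ∣ q := fun h => hp3' (hp.dvd_of_dvd_pow (hq ▸ h))
    have hboth : ¬ (p ∣ q + t + 1 ∧ p ∣ q - t + 1) := by
      rintro ⟨ha, hb⟩
      have h3 : p ∣ (q + t + 1) - (q - t + 1) := Nat.dvd_sub ha hb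
      have h4 : (q + t + 1) - (q - t + 1) = 2 * t := by omega
      rw [h4] at h3
      rcases (hp.dvd_mul).1 h3 with h5 | h5
      · have := Nat.le_of_dvd (by norm_num) h5
        omega
      · exact hp3' (hp.dvd_of_dvd_pow (ht ▸ h5))
    rcases hpt with h | h
    · obtain ⟨A, hAc, hAn, hAN, hAC⟩ := hS (q + t + 1, 6 * (q + t + 1)) (by simp)
      refine cyclic_of_hall hAc ?_ P
      have hc1 : Nat.card ↥(Cfsg.Lie.twistedG2 K (3 ^ m)) = (q + t + 1) * (q ^ 3 * (q - 1) * (q + 1) * (q - t + 1)) := by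
        rw [hcard, hprod]; ring
      have h3 := Subgroup.card_mul_index A
      rw [hAn, hc1] at h3
      rw [Nat.eq_of_mul_eq_mul_left (by omega) h3]
      intro h4
      rcases (hp.dvd_mul).1 h4 with h4 | h4
      · rcases (hp.dvd_mul).1 h4 with h4 | h4
        · rcases (hp.dvd_mul).1 h4 with h4 | h4
          · exact hpq0 (hp.dvd_of_dvd_pow h4)
          · exact hn1 h4
        · exact hn3 h4
      · exact hboth ⟨h, h4⟩
    · obtain ⟨A, hAc, hAn, hAN, hAC⟩ := hS (q - t + 1, 6 * (q - t + 1)) (by simp)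
      refine cyclic_of_hall hAc ?_ P
      have hc1 : Nat.card ↥(Cfsg.Lie.twistedG2 K (3 ^ m)) = (q - t + 1) * (q ^ 3 * (q - 1) * (q + 1) * (q + t + 1)) := by
        rw [hcard, hprod]; ring
      have h3 := Subgroup.card_mul_index A
      rw [hAn, hc1] at h3
      rw [Nat.eq_of_mul_eq_mul_left (by omega) h3]
      intro h4
      rcases (hp.dvd_mul).1 h4 with h4 | h4
      · rcases (hp.dvd_mul).1 h4 with h4 | h4
        · rcases (hp.dvd_mul).1 h4 with h4 | h4
          · exact hpq0 (hp.dvd_of_dvd_pow h4)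
          · exact hn1 h4
        · exact hn3 h4
      · exact hboth ⟨h4, h⟩
  obtain ⟨y, hy⟩ := exists_prime_orderOf_dvd_card' (G := ↥(Cfsg.Lie.twistedG2 K (3 ^ m))) p (by
    rw [hcard]
    exact hpq.mul_left _)
  refine ⟨p, y, hp, hp19, hple, fun P hP => ?_, hy, ?_⟩
  · obtain ⟨S, hS'⟩ := hP.exists_le_sylow
    have := hcyc S
    exact isCyclic_of_injective (Subgroup.inclusion hS') (Subgroup.inclusion_injective hS')
  have hchar : CharP K 3 := by
    obtain ⟨r, hr⟩ := CharP.exists K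
    have hrp : r.Prime := (CharP.char_is_prime_or_zero K r).resolve_right (CharP.char_ne_zero_of_finite K r)
    have : Fact r.Prime := ⟨hrp⟩
    obtain ⟨n, -, hn⟩ := FiniteField.card K r
    rw [hK, hq] at hn
    have h1 : r ∣ 3 ^ (2 * m + 1) := by rw [hn]; exact dvd_pow_self r n.ne_zero
    have h2 : r = 3 := (Nat.prime_dvd_prime_iff_eq hrp Nat.prime_three).1 (hrp.dvd_of_dvd_pow h1)
    rwa [h2] at hr
  refine SUel.of_ord (F := K) (r := 3) (N := 3 * (2 * m + 1))
    ((glRep _ K).comp (Cfsg.Lie.twistedG2 K (3 ^ m)).subtype)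
    ((glRep_injective _ K).comp (Cfsg.Lie.twistedG2 K (3 ^ m)).subtype_injective) Nat.prime_three hp (by omega)
    hp3.symm ?_ ?_ hcyc ?_ hy
  · -- the 3-part of the order
    rw [hcard]
    intro h
    have h3q : 3 ∣ q := by rw [hq]; exact dvd_pow_self 3 (by omega)
    have hco : Nat.Coprime (3 ^ (3 * (2 * m + 1) + 1)) ((q - 1) * (q ^ 3 + 1)) := by
      apply Nat.Coprime.pow_left
      apply Nat.Coprime.mul_right
      · rw [Nat.Prime.coprime_iff_not_dvd Nat.prime_three]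
        omega
      · rw [Nat.Prime.coprime_iff_not_dvd Nat.prime_three]
        intro h4
        have h5 : 3 ∣ q ^ 3 := h3q.trans (dvd_pow_self q (by norm_num))
        omega
    have h3 : 3 ^ (3 * (2 * m + 1) + 1) ∣ q ^ 3 := by
      refine hco.dvd_of_dvd_mul_right ?_
      convert h using 1
      ring
    have h4 : q ^ 3 = 3 ^ (3 * (2 * m + 1)) := by rw [hq]; ring
    rw [h4, Nat.pow_dvd_pow_iff_le_right (by norm_num)] at h3
    omega
  · rw [hord]; omega
  · rw [Module.finrank_fintype_fun_eq_card]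
    have : Fintype.card Cfsg.Lie.chevG2.Idx = 14 := by decide
    omega

/-- **the Ree groups** -/
theorem good_ree {G : Type*} [Group G] [Finite G] (h : Cfsg.Lie.IsoRee G) : HasGood G := by
  obtain ⟨K, _, _, m, hm, hK, ⟨e⟩⟩ := h
  obtain ⟨hs, hna⟩ := Cfsg.Agent.S1073.result hm hK
  have hfin : Finite ↥(Cfsg.Lie.twistedG2 K (3 ^ m)) := Finite.of_equiv G e.toEquiv
  obtain ⟨p, y, hp, hp19, hple, hcyc, hy, hSU⟩ := row_ree hm hK
  refine (hasGood_of_cyclic hna hp (by omega) hcyc hy hSU (InnAt.of_out hp ?_)).congr e.symm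
  rw [Cfsg.Agent.S2127.result hm hK]
  intro h4
  have := Nat.le_of_dvd (by omega) h4
  omega

end Cfsg.Agent.H583.GoodSz
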