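import Cfsg.Agent.H583.GoodGen
import Cfsg.Agent.H585.SuG2
import Cfsg.Agent.H585.SuF4
import Cfsg.Agent.H585.SuE6
import Cfsg.Agent.H585.SuE7
import Cfsg.Agent.H585.SuE8
import Cfsg.Agent.H728.DghpUntw
import Cfsg.Agent.H728.DghpE7
import Cfsg.Agent.S1054
import Cfsg.Agent.S1055
import Cfsg.Agent.S2121
import Cfsg.Agent.S2122
import Cfsg.Agent.S2123
import Cfsg.Agent.S2124
import Cfsg.Agent.S2125

/-!
# The good primes of `G2(q)`, `F4(q)`, `E6(q)`, `E7(q)`, `E8(q)` (helper583, for S4384)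
-/

set_option autoImplicit false
set_option linter.unusedSectionVars false

namespace Cfsg.Agent.H583.GoodUntw

open Cfsg.Agent.H465.SU Cfsg.Agent.H585.Good Cfsg.Agent.H585.SuRow Cfsg.Agent.H583.GoodGen
open Cfsg.Agent.H728.DghpLem Cfsg.Agent.H728.DghpMat Cfsg.Agent.H728.DghpNum Cfsg.Agent.H728.DghpRow
  Cfsg.Agent.H518.Dghp Cfsg.Agent.H728.DghpCent Cfsg.Agent.H728.DghpUntw
open Cfsg Cfsg.Lie Cfsg.Agent.Nodes.RGDChev Cfsg.Agent.H129.TorusChar
  Cfsg.Agent.ChevalleyStructure.CoxeterGeomTypes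

variable {F : Type*} [Field F] [Fintype F]

theorem finite (D : ChevalleyDatum) : Finite ↥(D.group F) := inferInstance

theorem wit_G2 (h3 : 3 ≤ Fintype.card F) {r : ℕ} (hr : Ppd (Fintype.card F) 6 r) {x : ↥(chevG2.group F)}
    (hx : orderOf x = r) : Wit ↥(chevG2.group F) r x := by
  obtain ⟨s, hs⟩ := exists_ppd (q := Fintype.card F) (e := 3) (by omega) (by norm_num) (by omega)
  have hr1 : 7 ≤ r := hr.le_of (by decide)
  have hs1 : 7 ≤ s := hs.le_of (by decide)
  have hcard := Cfsg.Agent.S1059.result (F := F) rfl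
  have hN : Fintype.card chevG2.Idx = 14 := card_idx _
  refine wit_cyc (k := 1) (inj chevG2 F) (by rw [pow_one]) one_ne_zero hr hs ?_ (by norm_num) ?_ ?_ ?_ ?_ ?_ hx
  · rw [hcard]
    exact ((hs.dvd_iff 6).2 (by norm_num)).mul_left _
  · exact nonAdj (l := 2) (M := CoxeterMatrix.G₂) (by simp [IsType, typeList]) card_G2 (by norm_num) one_ne_zero
      invC_G2 rfl hr hs (by norm_num) (by decide)
      (not_dvd_list (L := [2, 6]) hr.prime hr1 (by decide)) (fun h => by
        have := Nat.le_of_dvd (by norm_num) h; omega)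
  · exact elem_cyclic rfl (chevG2, [2, 6]) (by simp) hr (not_dvd_list hr.prime hr1 (by decide)) (by decide)
  · exact elem_cyclic rfl (chevG2, [2, 6]) (by simp) hs (not_dvd_list hs.prime hs1 (by decide)) (by decide)
  · rw [hN]
    exact lcm_gt hs.prime (by norm_num) (by norm_num; omega) hs1 (by norm_num)
  · rw [hN]
    exact lcm_gt hr.prime (by norm_num) (by norm_num; omega) hr1 (by norm_num)

theorem wit_F4 {r : ℕ} (hr : Ppd (Fintype.card F) 12 r) {x : ↥(chevF4.group F)}
    (hx : orderOf x = r) : Wit ↥(chevF4.group F) r x := by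
  have hq2 : 2 ≤ Fintype.card F := Fintype.one_lt_card
  obtain ⟨s, hs⟩ := exists_ppd (q := Fintype.card F) (e := 8) hq2 (by norm_num) (by omega)
  have hr1 : 13 ≤ r := hr.le_of (by decide)
  have hs1 : 17 ≤ s := hs.le_of (by decide)
  have hcard := Cfsg.Agent.S1062.result (F := F) rfl
  have hN : Fintype.card chevF4.Idx = 52 := card_idx _
  refine wit_cyc (k := 1) (inj chevF4 F) (by rw [pow_one]) one_ne_zero hr hs ?_ (by norm_num) ?_ ?_ ?_ ?_ ?_ hx
  · rw [hcard]
    exact ((((hs.dvd_iff 8).2 dvd_rfl).mul_left _).mul_right _)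
  · exact nonAdj (l := 4) (M := CoxeterMatrix.F₄) (by simp [IsType, typeList]) card_F4 (by norm_num) one_ne_zero
      invC_F4 rfl hr hs (by norm_num) (by decide)
      (not_dvd_list (L := [2, 6, 8, 12]) hr.prime hr1 (by decide)) (fun h => by
        have := Nat.le_of_dvd (by norm_num) h; omega)
  · exact elem_cyclic rfl (chevF4, [2, 6, 8, 12]) (by simp) hr (not_dvd_list hr.prime hr1 (by decide)) (by decide)
  · exact elem_cyclic rfl (chevF4, [2, 6, 8, 12]) (by simp) hs (not_dvd_list hs.prime hs1 (by decide)) (by decide)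
  · rw [hN]
    exact lcm_gt hs.prime (by norm_num) (by norm_num; omega) hs1 (by norm_num)
  · rw [hN]
    exact lcm_gt hr.prime (by norm_num) (by norm_num; omega) hr1 (by norm_num)

theorem wit_E6 {r : ℕ} (hr : Ppd (Fintype.card F) 9 r) {x : ↥(chevE6.group F)}
    (hx : orderOf x = r) : Wit ↥(chevE6.group F) r x := by
  have hq2 : 2 ≤ Fintype.card F := Fintype.one_lt_card
  obtain ⟨s, hs⟩ := exists_ppd (q := Fintype.card F) (e := 8) hq2 (by norm_num) (by omega)
  have hr1 : 19 ≤ r := hr.le_of (by decide)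
  have hs1 : 17 ≤ s := hs.le_of (by decide)
  have hcard := Cfsg.Agent.S1063.result (F := F) rfl
  have hN : Fintype.card chevE6.Idx = 78 := card_idx _
  refine wit_cyc (k := 1) (inj chevE6 F) (by rw [pow_one]) one_ne_zero hr hs ?_ (by norm_num) ?_ ?_ ?_ ?_ ?_ hx
  · refine dvd_of_gcd hs.prime (by norm_num) (by omega) hcard ?_
    exact ((((hs.dvd_iff 8).2 dvd_rfl).mul_left _).mul_right _).mul_right _
  · exact nonAdj (l := 6) (M := CoxeterMatrix.E₆) (by simp [IsType, typeList]) card_E6 (by norm_num) (d := 3)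
      (by norm_num) invC_E6 rfl hr hs (by norm_num) (by decide)
      (not_dvd_list (L := [2, 5, 6, 8, 9, 12]) hr.prime hr1 (by decide)) (fun h => by
        have := Nat.le_of_dvd (by norm_num) h; omega)
  · exact elem_cyclic rfl (chevE6, [2, 5, 6, 8, 9, 12]) (by simp) hr (not_dvd_list hr.prime hr1 (by decide)) (by decide)
  · exact elem_cyclic rfl (chevE6, [2, 5, 6, 8, 9, 12]) (by simp) hs (not_dvd_list hs.prime hs1 (by decide)) (by decide)
  · rw [hN]
    exact lcm_gt hs.prime (by norm_num) (by norm_num; omega) hs1 (by norm_num)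
  · rw [hN]
    exact lcm_gt hr.prime (by norm_num) (by norm_num; omega) hr1 (by norm_num)

theorem wit_E8 {r : ℕ} (hr : Ppd (Fintype.card F) 30 r) {x : ↥(chevE8.group F)}
    (hx : orderOf x = r) : Wit ↥(chevE8.group F) r x := by
  have hq2 : 2 ≤ Fintype.card F := Fintype.one_lt_card
  obtain ⟨s, hs⟩ := exists_ppd (q := Fintype.card F) (e := 24) hq2 (by norm_num) (by omega)
  have hr1 : 31 ≤ r := hr.le_of (by decide)
  have hs1 : 73 ≤ s := hs.le_of (by decide)
  have hcard := Cfsg.Agent.S1065.result (F := F) rfl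
  have hN : Fintype.card chevE8.Idx = 248 := card_idx _
  refine wit_cyc (k := 1) (inj chevE8 F) (by rw [pow_one]) one_ne_zero hr hs ?_ (by norm_num) ?_ ?_ ?_ ?_ ?_ hx
  · rw [hcard]
    exact (((hs.dvd_iff 24).2 dvd_rfl).mul_left _).mul_right _
  · exact nonAdj (l := 8) (M := CoxeterMatrix.E₈) (by simp [IsType, typeList]) card_E8 (by norm_num) one_ne_zero
      invC_E8 rfl hr hs (by norm_num) (by decide)
      (not_dvd_list (L := [2, 8, 12, 14, 18, 20, 24, 30]) hr.prime hr1 (by decide)) (fun h => by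
        have := Nat.le_of_dvd (by norm_num) h; omega)
  · exact elem_cyclic rfl (chevE8, [2, 8, 12, 14, 18, 20, 24, 30]) (by simp) hr
      (not_dvd_list hr.prime hr1 (by decide)) (by decide)
  · exact elem_cyclic rfl (chevE8, [2, 8, 12, 14, 18, 20, 24, 30]) (by simp) hs
      (not_dvd_list hs.prime (by omega : 31 ≤ s) (by decide)) (by decide)
  · rw [hN]
    exact lcm_gt hs.prime (by norm_num) (by norm_num; omega) hs1 (by norm_num)
  · rw [hN]
    exact lcm_gt hr.prime (by norm_num) (by norm_num; omega) hr1 (by norm_num)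

theorem wit_E7 {r : ℕ} (hr : Ppd (Fintype.card F) 18 r) {x : ↥(chevE7.group F)}
    (hx : orderOf x = r) : Wit ↥(chevE7.group F) r x := by
  have hq2 : 2 ≤ Fintype.card F := Fintype.one_lt_card
  obtain ⟨s, hs⟩ := exists_ppd (q := Fintype.card F) (e := 14) hq2 (by norm_num) (by omega)
  have hs1 : 29 ≤ s := hs.le_of (by decide)
  have hr1 : 19 ≤ r := hr.le_of (by decide)
  have hcard := Cfsg.Agent.S1064.result (F := F) rfl
  have hN : Fintype.card chevE7.Idx = 133 := card_idx _
  have hp : IsType chevE7 7 CoxeterMatrix.E₇ := by simp [IsType, typeList]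
  refine wit_cyc (k := 1) (inj chevE7 F) (by rw [pow_one]) one_ne_zero hr hs ?_ (by norm_num) ?_ ?_ ?_ ?_ ?_ hx
  · refine dvd_of_gcd hs.prime (by norm_num) (by omega) hcard ?_
    exact (((hs.dvd_iff 14).2 dvd_rfl).mul_left _).mul_right _
  · have : Finite CoxeterMatrix.E₇.Group := Nat.finite_of_card_ne_zero (by rw [card_E7]; norm_num)
    refine NonAdj.symm (Cfsg.Agent.H728.DghpNA.nonAdj_totient hp CoxeterMatrix.E₇.toCoxeterSystem (Nat.card_eq_fintype_card) hs hr
      (by norm_num) (Cfsg.Agent.H728.DghpE7.not_dvd_W hs.prime (by omega)) (Cfsg.Agent.H728.DghpE7.not_dvd_W hr.prime hr1) (by decide))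
  · exact elem_cyclic rfl (chevE7, [2, 6, 8, 10, 12, 14, 18]) (by simp) hr
      (not_dvd_list hr.prime hr1 (by decide)) (by decide)
  · exact elem_cyclic rfl (chevE7, [2, 6, 8, 10, 12, 14, 18]) (by simp) hs
      (not_dvd_list hs.prime hs1 (by decide)) (by decide)
  · rw [hN]
    exact lcm_gt hs.prime (by norm_num) (by norm_num; omega) hs1 (by norm_num)
  · rw [hN]
    exact lcm_gt hr.prime (by norm_num) (by norm_num; omega) hr1 (by norm_num)

/-- **G2(q)** -/
theorem good_G2 (h2 : Fintype.card F ≠ 2) : HasGood ↥(chevG2.group F) := by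
  have h1 : 1 < Fintype.card F := Fintype.one_lt_card
  have hsimp := Cfsg.Agent.S1055.result (F := F) (by
    classical
    obtain ⟨a, ha⟩ : ∃ a : F, a ∉ ({0, 1} : Finset F) := by
      by_contra hcon
      push Not at hcon
      have h3 : (Finset.univ : Finset F).card ≤ ({0, 1} : Finset F).card := Finset.card_le_card fun a _ => hcon a
      have h4 := Finset.card_le_two (a := (0 : F)) (b := 1)
      rw [Finset.card_univ] at h3
      omega
    exact ⟨a, by simpa using ha⟩)
  refine hasGood_of_rowE hsimp (by norm_num) (Cfsg.Agent.H585.SuG2.resultE h2) (fun r hr h7 hf => ?_)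
    (fun r a y _ hr _ _ x hx => wit_G2 (by omega) hr hx)
  obtain ⟨p, f, hp, hpc, hq, hf1, hF, hrf⟩ := not_dvd_exp (F := F) one_ne_zero (pow_one _).symm hf
  rw [one_mul] at hF
  rw [Cfsg.Agent.S2121.result p f hF (by rw [← hF]; omega)]
  split_ifs
  · exact not_dvd_mul hr (not_dvd_of_lt (by norm_num) (by omega)) hrf
  · exact hrf

/-- **F4(q)** -/
theorem good_F4 : HasGood ↥(chevF4.group F) := by
  refine hasGood_of_rowE (Cfsg.Agent.S1054.result chevF4 (by simp)) (by norm_num) Cfsg.Agent.H585.SuF4.resultE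
    (fun r hr h7 hf => ?_) (fun r a y _ hr _ _ x hx => wit_F4 hr hx)
  obtain ⟨p, f, hp, hpc, hq, hf1, hF, hrf⟩ := not_dvd_exp (F := F) one_ne_zero (pow_one _).symm hf
  rw [one_mul] at hF
  rw [Cfsg.Agent.S2122.result p f hF]
  exact not_dvd_mul hr (not_dvd_gcd (by norm_num) (by omega)) hrf

/-- **E6(q)** -/
theorem good_E6 : HasGood ↥(chevE6.group F) := by
  refine hasGood_of_rowE (Cfsg.Agent.S1054.result chevE6 (by simp)) (by norm_num) Cfsg.Agent.H585.SuE6.resultE
    (fun r hr h7 hf => ?_) (fun r a y _ hr _ _ x hx => wit_E6 hr hx)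
  obtain ⟨p, f, hp, hpc, hq, hf1, hF, hrf⟩ := not_dvd_exp (F := F) one_ne_zero (pow_one _).symm hf
  rw [one_mul] at hF
  rw [Cfsg.Agent.S2123.result p f hF]
  exact not_dvd_mul hr (not_dvd_mul hr (not_dvd_of_lt (by norm_num) (by omega)) (not_dvd_gcd (by norm_num) (by omega)))
    hrf

/-- **E7(q)** -/
theorem good_E7 : HasGood ↥(chevE7.group F) := by
  refine hasGood_of_rowE (Cfsg.Agent.S1054.result chevE7 (by simp)) (by norm_num) Cfsg.Agent.H585.SuE7.resultE
    (fun r hr h7 hf => ?_) (fun r a y _ hr _ _ x hx => wit_E7 hr hx)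
  obtain ⟨p, f, hp, hpc, hq, hf1, hF, hrf⟩ := not_dvd_exp (F := F) one_ne_zero (pow_one _).symm hf
  rw [one_mul] at hF
  rw [Cfsg.Agent.S2124.result p f hF]
  exact not_dvd_mul hr (not_dvd_gcd (by norm_num) (by omega)) hrf

/-- **E8(q)** -/
theorem good_E8 : HasGood ↥(chevE8.group F) := by
  refine hasGood_of_rowE (Cfsg.Agent.S1054.result chevE8 (by simp)) (by norm_num) Cfsg.Agent.H585.SuE8.resultE
    (fun r hr h7 hf => ?_) (fun r a y _ hr _ _ x hx => wit_E8 hr hx)
  obtain ⟨p, f, hp, hpc, hq, hf1, hF, hrf⟩ := not_dvd_exp (F := F) one_ne_zero (pow_one _).symm hf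
  rw [one_mul] at hF
  rw [Cfsg.Agent.S2125.result p f hF]
  exact hrf

end Cfsg.Agent.H583.GoodUntw
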