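import Cfsg.Agent.H583.HexCell

/-!
# Overgroups of `SL₂(q) ∘ SL₂(E)` in `G₂(q)`, `³D₄(q)`, `q ≥ 3` (helper583)

`K4 = ⟨X 4, X 10⟩` (long), `K1 = ⟨X 1, X 7⟩` (short). A subgroup containing `K1`, `K4` and a long root subgroup which is
not contained in `K4` is the whole group. Any characteristic.
-/

set_option autoImplicit false

namespace Cfsg.Agent.H583.HexA

open Cfsg.Agent.SplitTwo Cfsg.Agent.TitsThree.RankTwoZ Cfsg.Agent.Lib.SL2Mat Cfsg.Agent.Cit.HexBase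
  Cfsg.Agent.Cit.HexBase.HexGrp Cfsg.Agent.H148.Hex
open scoped commutatorElement

universe u

section trace

variable {E : Type*} [Field E] {σ : E ≃+* E}

/-- the trace form is nondegenerate, or `σ = 1` and the characteristic is three -/
theorem trc_cases (_hc : ∀ a : E, σ (σ (σ a)) = a) :
    (∀ b : E, b ≠ 0 → ∃ r, trc σ r b ≠ 0) ∨ ((∀ x, σ x = x) ∧ (3 : E) = 0) := by
  by_cases h : ∃ a, trc σ a 1 ≠ 0
  · left
    obtain ⟨a, ha⟩ := h
    intro b hb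
    refine ⟨a / b, ?_⟩
    have e : trc σ (a / b) b = trc σ a 1 := by
      unfold trc
      rw [div_mul_cancel₀ _ hb, mul_one]
    rwa [e]
  · right
    push Not at h
    have h3 : (3 : E) = 0 := by
      have := h 1
      unfold trc at this
      rw [mul_one, map_one, map_one] at this
      linear_combination this
    refine ⟨fun a => ?_, h3⟩
    have h1 := h a
    have h2 := h (a * a)
    unfold trc at h1 h2
    rw [mul_one] at h1 h2
    rw [map_mul, map_mul] at h2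
    have h4 : (a - σ a) * (a - σ a) = 0 := by
      have e : σ (σ a) = -a - σ a := by linear_combination h1
      rw [e] at h2
      linear_combination (-1 : E) * h2 + (a * a + σ a * σ a) * h3
    have h5 := mul_self_eq_zero.1 h4
    exact (sub_eq_zero.1 h5).symm

end trace

variable {E : Type*} [Field E] {σ : E ≃+* E} {L : Type u} [Group L] (c : HexGrp σ L)

section top

variable {H : Subgroup L} (h1 : c.K1 ≤ H) (h4 : c.K4 ≤ H)

include h4 in
theorem x4_mem {t : E} (ht : σ t = t) : c.x4 t ∈ H := h4 (c.X4_le_K4 (c.mem4 ht))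

include h4 in
theorem scale_mem {t : E} (ht : σ t = t) (h0 : t ≠ 0) : ∃ g ∈ H, c.Act g 1 t :=
  ⟨_, h4 ⟨_, rfl⟩, c.act_p4_dg ⟨t, ht⟩ fun h => h0 (congrArg Subtype.val h)⟩

include h1 h4 in
/-- a nontrivial element of `X 2` is enough -/
theorem top_of_x2 {t : E} (ht : σ t = t) (h0 : t ≠ 0) (hx : c.x2 t ∈ H) : H = ⊤ := by
  have hX2 : c.X 2 ≤ H := by
    intro y hy
    obtain ⟨s, hs, rfl⟩ := (c.par.mem2 _).1 hy
    by_cases hs0 : s = 0
    · rw [hs0, c.x2_zero]; exact one_mem _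
    obtain ⟨g, hg, ha⟩ := scale_mem c h4 (t := s / t) (by rw [map_div₀, hs, ht]) (div_ne_zero hs0 h0)
    have h := ha.a2 t ht
    rw [nrm_one, mul_one, div_mul_cancel₀ _ h0] at h
    rw [← h]
    exact mul_mem (mul_mem hg hx) (inv_mem hg)
  have hn1 : c.n1 ∈ H := h1 ⟨_, rfl⟩
  have hn4 : c.n4 ∈ H := h4 ⟨_, rfl⟩
  have hX6 : c.X 6 ≤ H := by
    intro y hy
    have h2 : c.n1 * y * c.n1⁻¹ ∈ c.X 2 := maps_mem c.maps_n1 hy (by decide)
    have h3 := mul_mem (mul_mem (inv_mem hn1) (hX2 h2)) hn1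
    have e : c.n1⁻¹ * (c.n1 * y * c.n1⁻¹) * c.n1 = y := by group
    rwa [e] at h3
  have hX0 : c.X 0 ≤ H := by
    intro y hy
    have h2 : c.n4 * y * c.n4⁻¹ ∈ c.X 2 := maps_mem c.maps_n4 hy (by decide)
    have h3 := mul_mem (mul_mem (inv_mem hn4) (hX2 h2)) hn4
    have e : c.n4⁻¹ * (c.n4 * y * c.n4⁻¹) * c.n4 = y := by group
    rwa [e] at h3
  apply c.closure_eq_top
  · intro x
    obtain ⟨a, b, d, e, rfl⟩ := exists_up_lo x
    have k1 : ∀ a, c.pa (up a) ∈ H := fun a => hX6 (pa_up_mem6 c a)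
    have k2 : ∀ a, c.pa (lo a) ∈ H := fun a => hX0 ((c.pa_lo _).2 ⟨a, rfl⟩)
    rw [map_mul, map_mul, map_mul]
    exact mul_mem (mul_mem (mul_mem (k1 _) (k2 _)) (k1 _)) (k2 _)
  · intro x
    exact h1 ⟨x, rfl⟩

/-- `H` contains an element with the coordinates `b2, b3, b5, b6` modulo `X 4` -/
def NFH (H : Subgroup L) (b2 b3 b5 b6 : E) : Prop := ∃ g ∈ H, c.NF g b2 b3 b5 b6

variable {c}

include h1 in
theorem NFH.kk1 {b2 b3 b5 b6 : E} (h : NFH c H b2 b3 b5 b6) (s : E) :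
    NFH c H (trc σ s b3 - trc σ (shp σ s) b5 - b6 * nrm σ s) (crs σ s b5 + b6 * shp σ s) (-(b6 * s)) 0 := by
  obtain ⟨g, hg, hn⟩ := h
  refine ⟨_, ?_, hn.kk1 s⟩
  have hx : c.x1 s ∈ H := h1 (c.X1_le_K1 (c.mem1 s))
  unfold kk
  exact mul_mem (mul_mem (mul_mem (inv_mem hx) (inv_mem hg)) hx) hg

include h4 in
theorem NFH.x2 {t : E} (h : NFH c H t 0 0 0) : σ t = t ∧ c.x2 t ∈ H := by
  obtain ⟨g, hg, f2, -, b4, f4, e⟩ := h
  rw [c.x3_zero, c.x5_zero, c.x6_zero, mul_one, mul_one, mul_one] at e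
  have h : c.x2 t = g * (c.x4 b4)⁻¹ := by rw [e]; group
  rw [h]
  exact ⟨f2, mul_mem hg (inv_mem (x4_mem c h4 f4))⟩

include h4 in
theorem NFH.x3 {t : E} (h : NFH c H 0 t 0 0) : c.x3 t ∈ H := by
  obtain ⟨g, hg, f2, -, b4, f4, e⟩ := h
  rw [c.x2_zero, c.x5_zero, c.x6_zero, mul_one, mul_one, one_mul] at e
  have h : c.x3 t = g * (c.x4 b4)⁻¹ := by rw [e]; group
  rw [h]
  exact mul_mem hg (inv_mem (x4_mem c h4 f4))

include h1 h4 in
/-- the case of a nondegenerate trace form -/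
theorem top_of_NFH_tr (hT : ∀ b : E, b ≠ 0 → ∃ r, trc σ r b ≠ 0) (hq : ∃ a : E, a ≠ 0 ∧ a ≠ 1)
    {b2 b3 b5 b6 : E} (h : NFH c H b2 b3 b5 b6) (hne : ¬ (b2 = 0 ∧ b3 = 0 ∧ b5 = 0 ∧ b6 = 0)) : H = ⊤ := by
  -- (b2, 0, 0, 0)
  have s2 : ∀ {b2 : E}, NFH c H b2 0 0 0 → b2 ≠ 0 → H = ⊤ := fun h h0 =>
    top_of_x2 c h1 h4 (h.x2 h4).1 h0 (h.x2 h4).2
  -- (b2, b3, 0, 0)
  have s3 : ∀ {b2 b3 : E}, NFH c H b2 b3 0 0 → ¬ (b2 = 0 ∧ b3 = 0) → H = ⊤ := by
    intro b2 b3 h h0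
    by_cases h3 : b3 = 0
    · subst h3
      exact s2 h fun h2 => h0 ⟨h2, rfl⟩
    · obtain ⟨r, hr⟩ := hT b3 h3
      have k := h.kk1 h1 r
      have e1 : trc σ r b3 - trc σ (shp σ r) 0 - 0 * nrm σ r = trc σ r b3 := by unfold trc; simp
      have e2 : crs σ r 0 + 0 * shp σ r = 0 := by unfold crs; simp
      rw [e1, e2, zero_mul, neg_zero] at k
      exact s2 k hr
  -- (b2, b3, b5, 0)
  have s5 : ∀ {b2 b3 b5 : E}, NFH c H b2 b3 b5 0 → ¬ (b2 = 0 ∧ b3 = 0 ∧ b5 = 0) → H = ⊤ := by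
    intro b2 b3 b5 h h0
    by_cases h5 : b5 = 0
    · subst h5
      exact s3 h fun h2 => h0 ⟨h2.1, h2.2, rfl⟩
    · by_contra hcon
      have key : ∀ r : E, trc σ r b3 - trc σ (shp σ r) b5 = 0 ∧ crs σ r b5 = 0 := by
        intro r
        by_contra hr
        apply hcon
        have k := h.kk1 h1 r
        rw [zero_mul, zero_mul, zero_mul, neg_zero, sub_zero, add_zero] at k
        exact s3 k hr
      have hσ5 : σ b5 ≠ 0 := (map_ne_zero σ).2 h5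
      have hσσ5 : σ (σ b5) ≠ 0 := (map_ne_zero σ).2 hσ5
      have h20 : (2 : E) = 0 := by
        have h2 := (key b5).2
        unfold crs at h2
        have h3 : (2 : E) * (σ b5 * σ (σ b5)) = 0 := by linear_combination h2
        exact (mul_eq_zero.1 h3).resolve_right (mul_ne_zero hσ5 hσσ5)
      have hid : ∀ x, σ x = x := by
        intro x
        have h2 := (key (x * b5)).2
        unfold crs at h2
        rw [map_mul, map_mul] at h2
        have h3 : (σ x - σ (σ x)) * (σ b5 * σ (σ b5)) = 0 := by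
          linear_combination h2 - (σ (σ x) * σ (σ b5) * σ b5) * h20
        have h4 := (mul_eq_zero.1 h3).resolve_right (mul_ne_zero hσ5 hσσ5)
        have h5 : σ x = σ (σ x) := sub_eq_zero.1 h4
        exact (σ.injective h5).symm
      have key2 : ∀ r : E, r * b3 = r ^ 2 * b5 := by
        intro r
        have h2 := (key r).1
        unfold trc shp at h2
        simp only [hid] at h2
        linear_combination h2 - (r * b3 - r ^ 2 * b5) * h20
      have e1 := key2 1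
      obtain ⟨a, ha0, ha1⟩ := hq
      have e2 := key2 a
      have e3 : a * b5 * (1 - a) = 0 := by linear_combination e2 - a * e1
      rcases mul_eq_zero.1 e3 with e3 | e3
      · exact (mul_ne_zero ha0 h5) e3
      · exact ha1 (by linear_combination -e3)
  by_cases h6 : b6 = 0
  · subst h6
    exact s5 h fun h2 => hne ⟨h2.1, h2.2.1, h2.2.2, rfl⟩
  · have k := h.kk1 h1 1
    refine s5 k fun h2 => h6 ?_
    have := h2.2.2
    rw [mul_one] at this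
    exact neg_eq_zero.1 this

include h1 h4 in
/-- the case of `G₂` in characteristic three -/
theorem top_of_NFH_three (hid : ∀ x, σ x = x) (h3 : (3 : E) = 0)
    {b2 b3 b5 b6 : E} (h : NFH c H b2 b3 b5 b6) (hne : ¬ (b2 = 0 ∧ b3 = 0 ∧ b5 = 0 ∧ b6 = 0)) : H = ⊤ := by
  have h2 : (2 : E) ≠ 0 := by
    intro h2
    exact one_ne_zero (α := E) (by linear_combination h3 - h2)
  have ht : ∀ a b : E, trc σ a b = 0 := by
    intro a b
    unfold trc
    simp only [hid]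
    linear_combination (a * b) * h3
  have hcr : ∀ a b : E, crs σ a b = 2 * a * b := by
    intro a b
    unfold crs
    simp only [hid]
    ring
  have hsh : ∀ a : E, shp σ a = a * a := by
    intro a
    unfold shp
    simp only [hid]
  have hnr : ∀ a : E, nrm σ a = a * a * a := by
    intro a
    unfold nrm
    simp only [hid]
  have s2 : ∀ {b2 : E}, NFH c H b2 0 0 0 → b2 ≠ 0 → H = ⊤ := fun h h0 =>
    top_of_x2 c h1 h4 (h.x2 h4).1 h0 (h.x2 h4).2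
  have hn1 : c.n1 ∈ H := h1 ⟨_, rfl⟩
  have hn4 : c.n4 ∈ H := h4 ⟨_, rfl⟩
  have s3 : ∀ {b3 : E}, NFH c H 0 b3 0 0 → b3 ≠ 0 → H = ⊤ := by
    intro b3 h h0
    have hX3 : c.X 3 ≤ H := by
      intro y hy
      obtain ⟨s, rfl⟩ := (c.par.mem3 _).1 hy
      by_cases hs0 : s = 0
      · rw [hs0, c.x3_zero]; exact one_mem _
      obtain ⟨g, hg, ha⟩ := scale_mem c h4 (t := s / b3) (hid _) (div_ne_zero hs0 h0)
      have hh := ha.a3 b3
      rw [hsh, mul_one, mul_one, div_mul_cancel₀ _ h0] at hh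
      rw [← hh]
      exact mul_mem (mul_mem hg (h.x3 h4)) (inv_mem hg)
    have hX11 : c.X 11 ≤ H := by
      intro y hy
      have h2 : c.n4 * y * c.n4⁻¹ ∈ c.X 3 := maps_mem c.maps_n4 hy (by decide)
      have h3 := mul_mem (mul_mem (inv_mem hn4) (hX3 h2)) hn4
      have e : c.n4⁻¹ * (c.n4 * y * c.n4⁻¹) * c.n4 = y := by group
      rwa [e] at h3
    obtain ⟨ρ, hρ⟩ : ∃ ρ : L, ρ = c.n6 * c.n1 := ⟨_, rfl⟩
    have hm : Maps c.X ρ (fun k => k - 2) := by rw [hρ]; exact c.maps_g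
    have g1 : ∀ a, ρ * c.x1 a * ρ⁻¹ ∈ H := fun a => hX11 (maps_mem hm (c.mem1 a) (by decide))
    have g6 : ∀ a, ρ * c.x6 a * ρ⁻¹ ∈ H := fun a => h4 (c.X4_le_K4 (maps_mem hm (c.mem6 (hid a)) (by decide)))
    have g3 : ∀ a, ρ * c.x3 a * ρ⁻¹ ∈ H := fun a => h1 (c.X1_le_K1 (maps_mem hm (c.mem3 a) (by decide)))
    have g5 : ∀ a, ρ * c.x5 a * ρ⁻¹ ∈ H := fun a => hX3 (maps_mem hm (c.mem5 a) (by decide))
    have gk : ∀ a t, ρ * kk (c.x1 a) (c.x6 t) * ρ⁻¹ ∈ H := by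
      intro a t
      have e : ρ * kk (c.x1 a) (c.x6 t) * ρ⁻¹ = (ρ * c.x1 a * ρ⁻¹)⁻¹ * (ρ * c.x6 t * ρ⁻¹)⁻¹ *
        (ρ * c.x1 a * ρ⁻¹) * (ρ * c.x6 t * ρ⁻¹) := by unfold kk; group
      rw [e]
      exact mul_mem (mul_mem (mul_mem (inv_mem (g1 _)) (inv_mem (g6 _))) (g1 _)) (g6 _)
    have k1 := gk 1 1
    have k2 := gk (-1) (-1)
    rw [c.par.rel.c16 _ _ (hid _), hsh, hnr] at k1 k2
    rw [show -((1 : E) * (1 * 1 * 1)) = -1 by ring, show (1 : E) * (1 * 1) = 1 by ring,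
      show (1 : E) ^ 2 * (1 * 1 * 1) = 1 by ring, show -((1 : E) * 1) = -1 by ring] at k1
    rw [show -((-1 : E) * (-1 * -1 * -1)) = -1 by ring, show (-1 : E) * (-1 * -1) = -1 by ring,
      show (-1 : E) ^ 2 * (-1 * -1 * -1) = -1 by ring, show -((-1 : E) * -1) = -1 by ring] at k2
    -- remove `x5`
    have m1 := mul_mem k1 (inv_mem (g5 (-1)))
    have m2 := mul_mem k2 (inv_mem (g5 (-1)))
    have m3 := mul_mem (inv_mem m2) m1
    have m4 := mul_mem (inv_mem (g3 2)) m3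
    have c34 : c.x3 1 * c.x4 1 = c.x4 1 * c.x3 1 := eq_of_kk (c.par.rel.c34 1 1 (hid 1))
    have e : (ρ * c.x3 2 * ρ⁻¹)⁻¹ * ((ρ * (c.x2 (-1) * c.x3 (-1) * c.x4 (-1) * c.x5 (-1)) * ρ⁻¹ *
        (ρ * c.x5 (-1) * ρ⁻¹)⁻¹)⁻¹ * (ρ * (c.x2 (-1) * c.x3 1 * c.x4 1 * c.x5 (-1)) * ρ⁻¹ *
        (ρ * c.x5 (-1) * ρ⁻¹)⁻¹)) = ρ * c.x4 2 * ρ⁻¹ := by
      have e3 : c.x3 (-1) = (c.x3 1)⁻¹ := c.x3_neg 1
      have e4 : c.x4 (-1) = (c.x4 1)⁻¹ := c.x4_neg (hid 1)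
      have e32 : c.x3 2 = c.x3 1 * c.x3 1 := by rw [← c.x3_add]; congr 1; norm_num
      have e42 : c.x4 2 = c.x4 1 * c.x4 1 := by rw [← c.x4_add (hid 1) (hid 1)]; congr 1; norm_num
      rw [e3, e4, e32, e42]
      calc _ = ρ * ((c.x3 1)⁻¹ * (c.x3 1)⁻¹ * (c.x4 1 * c.x3 1) * (c.x3 1 * c.x4 1)) * ρ⁻¹ := by group
        _ = ρ * ((c.x3 1)⁻¹ * (c.x3 1)⁻¹ * (c.x3 1 * c.x4 1) * (c.x3 1 * c.x4 1)) * ρ⁻¹ := by rw [c34]
        _ = ρ * ((c.x3 1)⁻¹ * (c.x4 1 * c.x3 1) * c.x4 1) * ρ⁻¹ := by group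
        _ = ρ * ((c.x3 1)⁻¹ * (c.x3 1 * c.x4 1) * c.x4 1) * ρ⁻¹ := by rw [c34]
        _ = _ := by group
    rw [e] at m4
    have hm2 : ρ * c.x4 2 * ρ⁻¹ ∈ c.X 2 := maps_mem hm (c.mem4 (hid 2)) (by decide)
    obtain ⟨t, htf, ht'⟩ := (c.par.mem2 _).1 hm2
    have ht0 : t ≠ 0 := by
      intro h0
      rw [h0, c.x2_zero] at ht'
      have h5 : c.x4 2 = 1 := by
        have : ρ * c.x4 2 = ρ := mul_inv_eq_one.1 ht'.symm
        exact mul_eq_left.1 this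
      rw [← c.x4_zero] at h5
      exact h2 (c.x4_inj (hid 2) (map_zero σ) h5)
    exact top_of_x2 c h1 h4 htf ht0 (by rw [ht']; exact m4)
  have s5 : ∀ {b2 b3 b5 : E}, NFH c H b2 b3 b5 0 → b5 ≠ 0 → H = ⊤ := by
    intro b2 b3 b5 h h0
    have k := h.kk1 h1 1
    rw [ht, ht, hcr, zero_mul, zero_mul, zero_mul, neg_zero, sub_zero, sub_zero, add_zero, mul_one] at k
    exact s3 k (mul_ne_zero h2 h0)
  have s6 : ∀ {b2 b3 b5 b6 : E}, NFH c H b2 b3 b5 b6 → b6 ≠ 0 → H = ⊤ := by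
    intro b2 b3 b5 b6 h h0
    exact s5 (h.kk1 h1 1) (by rw [mul_one]; exact neg_ne_zero.2 h0)
  by_cases h6 : b6 = 0
  · subst h6
    by_cases h5 : b5 = 0
    · subst h5
      by_cases h3' : b3 = 0
      · subst h3'
        exact s2 h fun h2 => hne ⟨h2, rfl, rfl, rfl⟩
      · -- conjugate by `n1`
        obtain ⟨g, hg, f2, -, b4, f4, e⟩ := h
        rw [c.x5_zero, c.x6_zero, mul_one, mul_one] at e
        have k2 : c.n1 * c.x2 b2 * c.n1⁻¹ = c.x6 b2 := c.n1_x2 b2 f2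
        have k3 : c.n1 * c.x3 b3 * c.n1⁻¹ ∈ c.X 5 := maps_mem c.maps_n1 (c.mem3 b3) (by decide)
        have k4 : c.n1 * c.x4 b4 * c.n1⁻¹ ∈ c.X 4 := maps_mem c.maps_n1 (c.mem4 f4) (by decide)
        obtain ⟨d5, e5⟩ := (c.par.mem5 _).1 k3
        obtain ⟨d4, g4, e4⟩ := (c.par.mem4 _).1 k4
        have hd5 : d5 ≠ 0 := by
          intro h0
          rw [h0, c.x5_zero] at e5
          have h5 : c.x3 b3 = 1 := by
            have : c.n1 * c.x3 b3 = c.n1 := mul_inv_eq_one.1 e5.symm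
            exact mul_eq_left.1 this
          rw [← c.x3_zero] at h5
          exact h3' (c.x3_inj h5)
        have hn : NFH c H 0 0 d5 b2 := by
          refine ⟨c.n1 * g * c.n1⁻¹, mul_mem (mul_mem hn1 hg) (inv_mem hn1), ?_⟩
          have e' : c.n1 * g * c.n1⁻¹ = c.x6 b2 * c.x5 d5 * c.x4 d4 := by
            rw [e, ← k2, e5, e4]; group
          rw [e']
          exact (((c.nf6 f2).mul (c.nf5 d5)).mul (c.nf4 g4)).congr rfl (by ring) (by ring) (by ring) (by ring)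
        by_cases hb2 : b2 = 0
        · subst hb2
          exact s5 hn hd5
        · exact s6 hn hb2
    · exact s5 h h5
  · exact s6 h h6

include h1 h4 in
theorem top_of_NFH (hq : ∃ a : E, a ≠ 0 ∧ a ≠ 1) {b2 b3 b5 b6 : E} (h : NFH c H b2 b3 b5 b6)
    (hne : ¬ (b2 = 0 ∧ b3 = 0 ∧ b5 = 0 ∧ b6 = 0)) : H = ⊤ := by
  rcases trc_cases c.cube with hT | ⟨hid, h3⟩
  · exact top_of_NFH_tr h1 h4 hT hq h hne
  · exact top_of_NFH_three h1 h4 hid h3 h hne

end top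

end Cfsg.Agent.H583.HexA
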