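import Cfsg.Agent.H148.Cell
import Cfsg.Agent.Cit.HexCent2

/-!
# Long root subgroups of a `HexGrp` (helper583)

`cellR` : every conjugate of `X 4` is `u (X k) u⁻¹` with `u` in the positive part and `k` even. Any characteristic.
-/

set_option autoImplicit false

namespace Cfsg.Agent.H583.HexA

open Cfsg.Agent.SplitTwo Cfsg.Agent.TitsThree.RankTwoZ Cfsg.Agent.Lib.SL2Mat Cfsg.Agent.Cit.HexBase
  Cfsg.Agent.Cit.HexBase.HexGrp Cfsg.Agent.H148.Hex
open scoped commutatorElement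

universe u

section cj

variable {G : Type*} [Group G]

/-- the conjugate of a subgroup -/
def cj (g : G) (K : Subgroup G) : Subgroup G := K.map (MulAut.conj g).toMonoidHom

theorem mem_cj {g x : G} {K : Subgroup G} : x ∈ cj g K ↔ g⁻¹ * x * g ∈ K := by
  constructor
  · rintro ⟨y, hy, rfl⟩
    change g⁻¹ * (g * y * g⁻¹) * g ∈ K
    have e : g⁻¹ * (g * y * g⁻¹) * g = y := by group
    rwa [e]
  · intro h
    refine ⟨_, h, ?_⟩
    change g * (g⁻¹ * x * g) * g⁻¹ = x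
    group

theorem conj_mem_cj {g x : G} {K : Subgroup G} (h : x ∈ K) : g * x * g⁻¹ ∈ cj g K := ⟨x, h, rfl⟩

theorem cj_mul (g h : G) (K : Subgroup G) : cj (g * h) K = cj g (cj h K) := by
  ext x
  rw [mem_cj, mem_cj, mem_cj]
  have e : (g * h)⁻¹ * x * (g * h) = h⁻¹ * (g⁻¹ * x * g) * h := by group
  rw [e]

theorem cj_one (K : Subgroup G) : cj 1 K = K := by
  ext x
  rw [mem_cj, inv_one, one_mul, mul_one]

theorem cj_le_iff {g : G} {K H : Subgroup G} : cj g K ≤ H ↔ ∀ x ∈ K, g * x * g⁻¹ ∈ H := by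
  constructor
  · intro h x hx
    exact h (conj_mem_cj hx)
  · intro h x hx
    rw [mem_cj] at hx
    have := h _ hx
    have e : g * (g⁻¹ * x * g) * g⁻¹ = x := by group
    rwa [e] at this

theorem cj_mono {g : G} {K H : Subgroup G} (h : K ≤ H) : cj g K ≤ cj g H :=
  cj_le_iff.2 fun _ hx => conj_mem_cj (h hx)

theorem cj_of_comm {g : G} {K : Subgroup G} (h : ∀ x ∈ K, g * x = x * g) : cj g K = K := by
  ext x
  rw [mem_cj]
  constructor
  · intro hx
    have h1 := h _ hx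
    have e : g * (g⁻¹ * x * g) = x * g := by group
    rw [e] at h1
    have h2 : x = g⁻¹ * x * g := mul_right_cancel h1
    rwa [h2]
  · intro hx
    have e : g⁻¹ * x * g = x := by rw [mul_assoc, ← h x hx, inv_mul_cancel_left]
    rwa [e]

theorem cj_of_mem {g : G} {K : Subgroup G} (h : g ∈ K) : cj g K = K := by
  ext x
  rw [mem_cj]
  constructor
  · intro hx
    have := mul_mem (mul_mem h hx) (inv_mem h)
    have e : g * (g⁻¹ * x * g) * g⁻¹ = x := by group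
    rwa [e] at this
  · intro hx
    exact mul_mem (mul_mem (inv_mem h) hx) h

theorem cj_maps {X : ZMod (2 * 6) → Subgroup G} {n : G} {f : ZMod (2 * 6) → ZMod (2 * 6)} (hn : Maps X n f)
    (k : ZMod (2 * 6)) : cj n (X k) = X (f k) := by
  ext x
  rw [mem_cj, ← hn k]
  have e : n * (n⁻¹ * x * n) * n⁻¹ = x := by group
  rw [e]

end cj

section sl

variable {K : Type*} [Field K]

theorem bru (M : SL2 K) : (∃ (a z : K) (hz : z ≠ 0), M = up a * dg z hz) ∨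
    (∃ (a z : K) (hz : z ≠ 0) (b : K), M = up a * wm z hz * up b) := by
  have hd := det_eq M
  by_cases hc : ent M 1 0 = 0
  · left
    rw [hc, mul_zero, sub_zero] at hd
    have h0 : ent M 0 0 ≠ 0 := left_ne_zero_of_mul_eq_one hd
    refine ⟨ent M 0 1 * ent M 0 0, ent M 0 0, h0, ?_⟩
    refine ext_ent ?_ ?_ ?_ ?_
    · simp [ent_mul]
    · simp [ent_mul, h0]
    · simp [ent_mul, hc]
    · simp only [ent_mul, up_10, up_11, dg_01, dg_11]
      rw [zero_mul, zero_add, one_mul]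
      exact eq_inv_of_mul_eq_one_right hd
  · right
    refine ⟨ent M 0 0 / ent M 1 0, -(ent M 1 0)⁻¹, neg_ne_zero.2 (inv_ne_zero hc), ent M 1 1 / ent M 1 0, ?_⟩
    refine ext_ent ?_ ?_ ?_ ?_
    · simp only [ent_mul, up_00, up_01, up_10, up_11, wm_00, wm_01, wm_10, wm_11]
      field_simp
      ring
    · simp only [ent_mul, up_00, up_01, up_10, up_11, wm_00, wm_01, wm_10, wm_11]
      field_simp
      linear_combination -hd
    · simp only [ent_mul, up_00, up_01, up_10, up_11, wm_00, wm_01, wm_10, wm_11]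
      field_simp
      ring
    · simp only [ent_mul, up_00, up_01, up_10, up_11, wm_00, wm_01, wm_10, wm_11]
      field_simp
      ring

end sl

variable {E : Type*} [Field E] {σ : E ≃+* E} {L : Type u} [Group L] (c : HexGrp σ L)

/-- the even (long) roots -/
abbrev EV : Finset (ZMod (2 * 6)) := {0, 2, 4, 6, 8, 10}

theorem comm_of_bt {k j : ZMod (2 * 6)} (h1 : k ≠ j) (h2 : k ≠ j + 6) (h3 : bt k j = ∅) {x y : L}
    (hx : x ∈ c.X k) (hy : y ∈ c.X j) : x * y = y * x := by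
  have h := c.comm h1 h2 hx hy
  rw [h3] at h
  have h4 : Sg c.X ∅ = ⊥ := by unfold Sg; simp
  rw [h4, Subgroup.mem_bot, commutatorElement_def] at h
  have h5 : x * y * x⁻¹ = y := mul_inv_eq_one.1 h
  rw [mul_inv_eq_iff_eq_mul] at h5
  exact h5

theorem comm46 {x y : L} (hx : x ∈ c.X 4) (hy : y ∈ c.X 6) : x * y = y * x :=
  (c.comm4 (c.sg (by decide) hy) hx).symm

theorem comm68 {x y : L} (hx : x ∈ c.X 6) (hy : y ∈ c.X 8) : x * y = y * x := by
  have h1 : (c.n1 * c.n6)⁻¹ * x * (c.n1 * c.n6) ∈ c.X 4 := maps_mem' c.maps_rot2 hx (by decide)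
  have h2 : (c.n1 * c.n6)⁻¹ * y * (c.n1 * c.n6) ∈ c.X 6 := maps_mem' c.maps_rot2 hy (by decide)
  have h3 := comm46 c h1 h2
  have e1 : x * y = (c.n1 * c.n6) * ((c.n1 * c.n6)⁻¹ * x * (c.n1 * c.n6) * ((c.n1 * c.n6)⁻¹ * y * (c.n1 * c.n6))) *
    (c.n1 * c.n6)⁻¹ := by group
  rw [e1, h3]
  group

/-- `X 6` normalises `X 4`, `X 6`, `X 8` -/
theorem cj6 {k : ZMod (2 * 6)} (hk : k = 4 ∨ k = 6 ∨ k = 8) {x : L} (hx : x ∈ c.X 6) : cj x (c.X k) = c.X k := by
  rcases hk with rfl | rfl | rfl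
  · exact cj_of_comm fun y hy => (comm46 c hy hx).symm
  · exact cj_of_mem hx
  · exact cj_of_comm fun y hy => comm68 c hx hy

/-- `X 1` normalises `X 4`, `X 10`, `X 2`, `X 0` -/
theorem cj1 {k : ZMod (2 * 6)} (hk : k = 4 ∨ k = 10 ∨ k = 2 ∨ k = 0) {x : L} (hx : x ∈ c.X 1) :
    cj x (c.X k) = c.X k := by
  rcases hk with rfl | rfl | rfl | rfl
  · exact cj_of_comm fun y hy => c.comm4 (c.sg (by decide) hx) hy
  · refine cj_of_comm fun y hy => ?_
    obtain ⟨a, rfl⟩ := (c.par.mem1 _).1 hx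
    obtain ⟨t, rfl⟩ := (c.mem_X10).1 hy
    rw [← c.pb_up]
    exact c.comm_pb_p4 _ _
  · exact cj_of_comm fun y hy => comm_of_bt c (by decide) (by decide) (by decide +kernel) hx hy
  · exact cj_of_comm fun y hy => comm_of_bt c (by decide) (by decide) (by decide +kernel) hx hy

theorem pa_up_mem6 (a : ↥(fx σ)) : c.pa (up a) ∈ c.X 6 := by rw [c.pa_up]; exact c.mem6 a.2

theorem pb_up_mem1 (a : E) : c.pb (up a) ∈ c.X 1 := by rw [c.pb_up]; exact c.mem1 a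

theorem pa_cell0 {k : ZMod (2 * 6)} (hk : k = 4 ∨ k = 6 ∨ k = 8) (M : SL2 ↥(fx σ)) :
    ∃ a : ↥(fx σ), ∃ j : ZMod (2 * 6), (j = k ∨ j = 6 - k) ∧ cj (c.pa M) (c.X k) = cj (c.pa (up a)) (c.X j) := by
  rcases bru M with ⟨a, z, hz, rfl⟩ | ⟨a, z, hz, b, rfl⟩
  · refine ⟨a, k, Or.inl rfl, ?_⟩
    rw [map_mul, cj_mul, cj_maps (c.act_a z hz).maps, id]
  · refine ⟨a, 6 - k, Or.inr rfl, ?_⟩
    rw [map_mul, map_mul, cj_mul, cj_mul, cj6 c hk (pa_up_mem6 c b), cj_maps (c.mapsA z hz)]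

theorem pa_cell {k : ZMod (2 * 6)} (hk : k ∈ EV) (M : SL2 ↥(fx σ)) :
    ∃ a : ↥(fx σ), ∃ j ∈ EV, cj (c.pa M) (c.X k) = cj (c.pa (up a)) (c.X j) := by
  by_cases h : k = 4 ∨ k = 6 ∨ k = 8
  · obtain ⟨a, j, hj, e⟩ := pa_cell0 c h M
    refine ⟨a, j, ?_, e⟩
    rcases h with rfl | rfl | rfl <;> rcases hj with rfl | rfl <;> decide
  · have h2 : k = 2 ∨ k = 0 ∨ k = 10 := by
      revert hk h
      revert k
      decide
    have h3 : 6 - k = 4 ∨ 6 - k = 6 ∨ 6 - k = 8 := by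
      rcases h2 with rfl | rfl | rfl <;> decide
    obtain ⟨a, j, hj, e⟩ := pa_cell0 c h3 (M * wm 1 one_ne_zero)
    refine ⟨a, j, ?_, ?_⟩
    · rcases h2 with rfl | rfl | rfl <;> rcases hj with rfl | rfl <;> decide
    · rw [← e, map_mul, cj_mul, cj_maps (c.mapsA 1 one_ne_zero)]
      congr 2
      ring

theorem pb_cell0 {k : ZMod (2 * 6)} (hk : k = 4 ∨ k = 10 ∨ k = 2 ∨ k = 0) (M : SL2 E) :
    ∃ a : E, ∃ j : ZMod (2 * 6), (j = k ∨ j = 8 - k) ∧ cj (c.pb M) (c.X k) = cj (c.pb (up a)) (c.X j) := by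
  rcases bru M with ⟨a, z, hz, rfl⟩ | ⟨a, z, hz, b, rfl⟩
  · refine ⟨a, k, Or.inl rfl, ?_⟩
    rw [map_mul, cj_mul, cj_maps (c.act_b z hz).maps, id]
  · refine ⟨a, 8 - k, Or.inr rfl, ?_⟩
    rw [map_mul, map_mul, cj_mul, cj_mul, cj1 c hk (pb_up_mem1 c b), cj_maps (c.mapsB z hz)]

theorem pb_cell {k : ZMod (2 * 6)} (hk : k ∈ EV) (M : SL2 E) :
    ∃ a : E, ∃ j ∈ EV, cj (c.pb M) (c.X k) = cj (c.pb (up a)) (c.X j) := by
  by_cases h : k = 4 ∨ k = 10 ∨ k = 2 ∨ k = 0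
  · obtain ⟨a, j, hj, e⟩ := pb_cell0 c h M
    refine ⟨a, j, ?_, e⟩
    rcases h with rfl | rfl | rfl | rfl <;> rcases hj with rfl | rfl <;> decide
  · have h2 : k = 6 ∨ k = 8 := by
      revert hk h
      revert k
      decide
    have h3 : 8 - k = 4 ∨ 8 - k = 10 ∨ 8 - k = 2 ∨ 8 - k = 0 := by
      rcases h2 with rfl | rfl <;> decide
    obtain ⟨a, j, hj, e⟩ := pb_cell0 c h3 (M * wm 1 one_ne_zero)
    refine ⟨a, j, ?_, ?_⟩
    · rcases h2 with rfl | rfl <;> rcases hj with rfl | rfl <;> decide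
    · rw [← e, map_mul, cj_mul, cj_maps (c.mapsB 1 one_ne_zero)]
      congr 2
      ring

/-- `R = u (X k) u⁻¹`, `u` in the positive part, `k` even -/
def CellR (R : Subgroup L) : Prop := ∃ u ∈ Sg c.X Pos, ∃ k ∈ EV, R = cj u (c.X k)

variable {c}

theorem CellR.pa {R : Subgroup L} (h : CellR c R) (m : SL2 ↥(fx σ)) : CellR c (cj (c.pa m) R) := by
  obtain ⟨u, hu, k, hk, rfl⟩ := h
  obtain ⟨q, hq, w, hw, rfl⟩ := c.exists_mul' (k := 6) (s := {1, 2, 3, 4, 5}) (by decide +kernel)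
    (Sg_mono (by decide +kernel) hu : u ∈ Sg c.X (insert 6 {1, 2, 3, 4, 5}))
  obtain ⟨d, hd, rfl⟩ := (c.par.mem6 _).1 hw
  have e6 : c.x6 d = c.pa (up ⟨d, hd⟩) := (c.pa_up ⟨d, hd⟩).symm
  have h1 : c.pa m * q * (c.pa m)⁻¹ ∈ Sg c.X {1, 2, 3, 4, 5} :=
    pa_conj c (by decide +kernel) (by decide +kernel) m q hq
  obtain ⟨a, j, hj, e⟩ := pa_cell c hk (m * up ⟨d, hd⟩)
  refine ⟨(c.pa m * q * (c.pa m)⁻¹) * c.pa (up a), mul_mem (Sg_mono (by decide +kernel) h1)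
    (pa_up_mem c (by decide) _), j, hj, ?_⟩
  rw [cj_mul (c.pa m * q * (c.pa m)⁻¹), ← e, ← cj_mul, ← cj_mul, e6, map_mul]
  congr 1
  group

theorem CellR.pb {R : Subgroup L} (h : CellR c R) (m : SL2 E) : CellR c (cj (c.pb m) R) := by
  obtain ⟨u, hu, k, hk, rfl⟩ := h
  obtain ⟨q, hq, w, hw, rfl⟩ := c.exists_mul' (k := 1) (s := {2, 3, 4, 5, 6}) (by decide +kernel)
    (Sg_mono (by decide +kernel) hu : u ∈ Sg c.X (insert 1 {2, 3, 4, 5, 6}))
  obtain ⟨d, rfl⟩ := (c.par.mem1 _).1 hw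
  have e6 : c.x1 d = c.pb (up d) := (c.pb_up d).symm
  have h1 : c.pb m * q * (c.pb m)⁻¹ ∈ Sg c.X {2, 3, 4, 5, 6} :=
    pb_conj c (by decide +kernel) (by decide +kernel) m q hq
  obtain ⟨a, j, hj, e⟩ := pb_cell c hk (m * up d)
  refine ⟨(c.pb m * q * (c.pb m)⁻¹) * c.pb (up a), mul_mem (Sg_mono (by decide +kernel) h1)
    (pb_up_mem c (by decide) _), j, hj, ?_⟩
  rw [cj_mul (c.pb m * q * (c.pb m)⁻¹), ← e, ← cj_mul, ← cj_mul, e6, map_mul]
  congr 1
  group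

/-- **every conjugate of the long root subgroup `X 4` is `u (X k) u⁻¹`** -/
theorem cellR (g : L) : CellR c (cj g (c.X 4)) := by
  let H : Subgroup L :=
    { carrier := {h | ∀ R, CellR c R → CellR c (cj h R) ∧ CellR c (cj h⁻¹ R)}
      mul_mem' := by
        intro a b ha hb R hR
        rw [cj_mul, mul_inv_rev, cj_mul]
        exact ⟨(ha _ (hb R hR).1).1, (hb _ (ha R hR).2).2⟩
      one_mem' := by
        intro R hR
        rw [inv_one, cj_one]
        exact ⟨hR, hR⟩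
      inv_mem' := by
        intro a ha R hR
        rw [inv_inv]
        exact (ha R hR).symm }
  have htop : H = ⊤ := by
    apply c.closure_eq_top
    · intro x R hR
      rw [← map_inv]
      exact ⟨hR.pa x, hR.pa x⁻¹⟩
    · intro x R hR
      rw [← map_inv]
      exact ⟨hR.pb x, hR.pb x⁻¹⟩
  have h1 : g ∈ H := by rw [htop]; exact Subgroup.mem_top g
  exact (h1 (c.X 4) ⟨1, one_mem _, 4, by decide, by rw [cj_one]⟩).1

end Cfsg.Agent.H583.HexA
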