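import Mathlib

/-! Covering argument for `L3` (piece of S4363). -/

namespace Cfsg.Agent.H583.L3

open Subgroup
open scoped Pointwise commutatorElement

/-- A map of finite order a prime `r` on a finite set of size prime to `r` has a fixed point,
and the number of fixed points is congruent to the size. -/
theorem card_modEq_fix {α : Type*} [Finite α] (f : α → α) {r : ℕ} (hr : r.Prime)
    (hf : ∀ a, f^[r] a = a) : Nat.card α ≡ Nat.card {a : α // f a = a} [MOD r] := by
  classical
  have := Fintype.ofFinite α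
  have : Fact r.Prime := ⟨hr⟩
  have h := Equiv.Perm.card_fixedPoints_modEq (α := α) (f := (f : Function.End α)) (p := r)
    (n := 1) (by
      rw [pow_one]
      funext a
      let g : Function.End α := f
      have : ∀ n : ℕ, (g ^ n) a = f^[n] a := by
        intro n
        induction n with
        | zero => rfl
        | succ n ih =>
          rw [pow_succ']
          change f ((g ^ n) a) = _
          rw [ih, Function.iterate_succ_apply']
      change (g ^ r) a = a
      rw [this, hf])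
  rw [Nat.card_eq_fintype_card, Nat.card_eq_fintype_card]
  convert h using 1
  exact Fintype.card_congr (Equiv.refl _)

theorem iterate_aut {Q : Type*} [Group Q] (σ : MulAut Q) (n : ℕ) (x : Q) :
    (fun y => σ y)^[n] x = (σ ^ n) x := by
  induction n with
  | zero => rfl
  | succ n ih => rw [Function.iterate_succ_apply', ih, pow_succ']; rfl

theorem pow_mem_of_inv {Q : Type*} [Group Q] {σ : MulAut Q} {B : Subgroup Q}
    (hB : ∀ x ∈ B, σ x ∈ B) (n : ℕ) : ∀ x ∈ B, (σ ^ n) x ∈ B := by
  induction n with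
  | zero => intro x hx; simpa using hx
  | succ n ih => intro x hx; rw [pow_succ']; exact hB _ (ih x hx)

/-- a `σ`-invariant subgroup without nontrivial `σ`-fixed cosets is everything or has index
at least `r + 1`. -/
theorem index_ge {Q : Type*} [Group Q] [Finite Q] (σ : MulAut Q) {r : ℕ} (hr : r.Prime)
    (hσ : σ ^ r = 1) (B : Subgroup Q) (hB : ∀ x ∈ B, σ x ∈ B)
    (h : ∀ x, x⁻¹ * σ x ∈ B → x ∈ B) (hne : B ≠ ⊤) : r + 1 ≤ B.index := by
  classical
  let f : Q ⧸ B → Q ⧸ B := Quotient.map' (fun x => σ x) (by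
    intro x y hxy
    rw [QuotientGroup.leftRel_apply] at hxy ⊢
    rw [← map_inv, ← map_mul]
    exact hB _ hxy)
  have hfmk : ∀ x : Q, f (x : Q ⧸ B) = ((σ x : Q) : Q ⧸ B) := fun x => rfl
  have hfn : ∀ (n : ℕ) (x : Q), f^[n] (x : Q ⧸ B) = (((σ ^ n) x : Q) : Q ⧸ B) := by
    intro n
    induction n with
    | zero => intro x; rfl
    | succ n ih =>
      intro x
      rw [Function.iterate_succ_apply', ih, hfmk, pow_succ']
      rfl
  have h1 := card_modEq_fix f hr (by
    intro a
    induction a using QuotientGroup.induction_on with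
    | H z => rw [hfn, hσ]; rfl)
  have h2 : Nat.card {a : Q ⧸ B // f a = a} = 1 := by
    rw [Nat.card_eq_one_iff_unique]
    constructor
    · constructor
      rintro ⟨a, ha⟩ ⟨b, hb⟩
      have key : ∀ a : Q ⧸ B, f a = a → a = ((1 : Q) : Q ⧸ B) := by
        intro a ha
        induction a using QuotientGroup.induction_on with
        | H z =>
          rw [hfmk] at ha
          have h3 := QuotientGroup.eq.mp ha.symm
          have h4 := h z h3
          exact (QuotientGroup.eq.mpr (by simpa using h4)).symm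
      rw [Subtype.mk.injEq, key a ha, key b hb]
    · exact ⟨⟨((1 : Q) : Q ⧸ B), by rw [hfmk, map_one]⟩⟩
  rw [h2] at h1
  have h5 : B.index ≡ 1 [MOD r] := h1
  have h6 : B.index ≠ 1 := by
    rw [Ne, Subgroup.index_eq_one]; exact hne
  have h7 : 0 < B.index := Nat.pos_of_ne_zero Subgroup.index_ne_zero_of_finite
  have h8 : r ∣ B.index - 1 := (Nat.modEq_iff_dvd' h7).mp h5.symm
  obtain ⟨k, hk⟩ := h8
  rcases Nat.eq_zero_or_pos k with rfl | hk0
  · omega
  · have : r ≤ r * k := Nat.le_mul_of_pos_right _ hk0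
    omega

/-- a finite group is not the union of `r + 1` subgroups of index at least `r + 1`. -/
theorem not_cover {Q : Type*} [Group Q] [Finite Q] {r : ℕ} (hr : 0 < r)
    (B : Fin (r + 1) → Subgroup Q) (hB : ∀ i, r + 1 ≤ (B i).index) :
    ∃ x, ∀ i, x ∉ B i := by
  classical
  by_contra hcon
  push Not at hcon
  have hc : ⋃ i ∈ (Finset.univ : Finset (Fin (r + 1))), (1 : Q) • ((B i : Subgroup Q) : Set Q)
      = Set.univ := by
    rw [Set.eq_univ_iff_forall]
    intro x
    obtain ⟨i, hi⟩ := hcon x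
    simp only [Finset.mem_univ, Set.iUnion_true, one_smul, Set.mem_iUnion, SetLike.mem_coe]
    exact ⟨i, hi⟩
  have h1 := one_le_sum_inv_index_of_leftCoset_cover (s := Finset.univ)
    (g := fun _ : Fin (r + 1) => (1 : Q)) (H := B) hc
  have h2 := pairwiseDisjoint_leftCoset_cover_of_sum_inv_index_eq_one (s := Finset.univ)
    (g := fun _ : Fin (r + 1) => (1 : Q)) (H := B) hc
  have h3 : ∑ i : Fin (r + 1), ((B i).index : ℚ)⁻¹ ≤ 1 := by
    calc ∑ i : Fin (r + 1), ((B i).index : ℚ)⁻¹ ≤ ∑ i : Fin (r + 1), ((r : ℚ) + 1)⁻¹ := by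
          apply Finset.sum_le_sum
          intro i _
          apply inv_anti₀
          · positivity
          · exact_mod_cast hB i
      _ = 1 := by
          rw [Finset.sum_const, Finset.card_univ, Fintype.card_fin, nsmul_eq_mul]
          push_cast
          field_simp
  have h4 := h2 (le_antisymm h3 h1)
  have hfi : ∀ i, (B i).FiniteIndex := fun i => inferInstance
  have h5 := h4 (x := (0 : Fin (r + 1))) (by simp [hfi]) (y := Fin.last r) (by simp [hfi])
    (by
      intro h
      have := congrArg Fin.val h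
      simp at this
      omega)
  have h6 : (1 : Q) ∈ ((1 : Q) • ((B 0 : Subgroup Q) : Set Q)) := by
    rw [one_smul]; exact (B 0).one_mem
  have h7 : (1 : Q) ∈ ((1 : Q) • ((B (Fin.last r) : Subgroup Q) : Set Q)) := by
    rw [one_smul]; exact (B _).one_mem
  exact Set.disjoint_left.mp h5 h6 h7

theorem cover {Q : Type*} [Group Q] [Finite Q] (σ δ : MulAut Q) {r : ℕ} (hr : r.Prime)
    (hσ : σ ^ r = 1) (hcomm : σ * δ = δ * σ) {m : ℕ} (hδ : δ ^ m = 1) (hm : ¬ r ∣ m)
    (K : Subgroup Q) (hab : commutator Q ≤ K) (hσK : ∀ x ∈ K, σ x ∈ K)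
    (hfpf : ∀ x, x⁻¹ * σ x ∈ K → x ∈ K)
    (hcov : ∀ t, δ t ∈ K ∨ ∃ k < r, t * ((σ ^ k) (δ t))⁻¹ ∈ K) :
    K = ⊤ ∨ ∀ t, t⁻¹ * δ t ∈ K := by
  classical
  have hKn : K.Normal := Subgroup.Normal.of_commutator_le (G := Q) hab
  have hcs : ∀ k : ℕ, ∀ x, (σ ^ k) (δ x) = δ ((σ ^ k) x) := by
    intro k x
    have : Commute (σ ^ k) δ := Commute.pow_left hcomm k
    have h1 := congrArg (fun g : MulAut Q => g x) this.eq
    exact h1
  -- commutation in the quotient
  have hcq : ∀ a b : Q ⧸ K, a * b = b * a := by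
    intro a b
    induction a using QuotientGroup.induction_on with
    | H x =>
      induction b using QuotientGroup.induction_on with
      | H y =>
        rw [← QuotientGroup.mk_mul, ← QuotientGroup.mk_mul, QuotientGroup.eq]
        apply hab
        have h1 : (x * y)⁻¹ * (y * x) = ⁅y⁻¹, x⁻¹⁆ := by
          rw [commutatorElement_def]; group
        rw [h1]
        exact Subgroup.commutator_mem_commutator (Subgroup.mem_top _) (Subgroup.mem_top _)
  -- the subgroups of the cover
  let φ : ℕ → Q →* Q ⧸ K := fun k =>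
    { toFun := fun t => ((t * ((σ ^ k) (δ t))⁻¹ : Q) : Q ⧸ K)
      map_one' := by simp
      map_mul' := by
        intro x y
        simp only [map_mul, mul_inv_rev, QuotientGroup.mk_mul]
        generalize ((x : Q) : Q ⧸ K) = a
        generalize ((y : Q) : Q ⧸ K) = b
        generalize ((((σ ^ k) (δ y))⁻¹ : Q) : Q ⧸ K) = c
        generalize ((((σ ^ k) (δ x))⁻¹ : Q) : Q ⧸ K) = d
        rw [mul_assoc, mul_assoc, ← mul_assoc b c d, hcq (b * c) d] }
  have hφ : ∀ k t, t ∈ (φ k).ker ↔ t * ((σ ^ k) (δ t))⁻¹ ∈ K := by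
    intro k t
    rw [MonoidHom.mem_ker]
    change ((t * ((σ ^ k) (δ t))⁻¹ : Q) : Q ⧸ K) = 1 ↔ _
    rw [QuotientGroup.eq_one_iff]
  have hmod : ∀ x y : Q, x * y ∈ K ↔ y * x ∈ K := fun x y => hKn.mem_comm_iff
  let B : Fin (r + 1) → Subgroup Q := fun i =>
    if (i : ℕ) < r then (φ i).ker else K.comap δ.toMonoidHom
  have hB1 : ∀ i : Fin (r + 1), (i : ℕ) < r → B i = (φ i).ker := fun i hi => by
    simp only [B, if_pos hi]
  have hB2 : ∀ i : Fin (r + 1), ¬ (i : ℕ) < r → B i = K.comap δ.toMonoidHom := fun i hi => by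
    simp only [B, if_neg hi]
  have hinv : ∀ i, ∀ x ∈ B i, σ x ∈ B i := by
    intro i x hx
    by_cases hi : (i : ℕ) < r
    · rw [hB1 i hi, hφ] at hx ⊢
      have := hσK _ hx
      rw [map_mul, map_inv] at this
      have h2 : σ ((σ ^ (i : ℕ)) (δ x)) = (σ ^ (i : ℕ)) (δ (σ x)) := by
        have e1 : σ ((σ ^ (i : ℕ)) (δ x)) = (σ ^ (i : ℕ)) (σ (δ x)) := by
          have := congrArg (fun g : MulAut Q => g (δ x)) (Commute.self_pow σ (i : ℕ)).eq
          exact this
        have e2 : σ (δ x) = δ (σ x) := congrArg (fun g : MulAut Q => g x) hcomm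
        rw [e1, e2]
      rw [h2] at this
      exact this
    · rw [hB2 i hi] at hx ⊢
      rw [Subgroup.mem_comap] at hx ⊢
      have := hσK _ hx
      have e2 : σ (δ x) = δ (σ x) := congrArg (fun g : MulAut Q => g x) hcomm
      change δ (σ x) ∈ K
      rw [← e2]; exact this
  have hfp : ∀ i, ∀ x, x⁻¹ * σ x ∈ B i → x ∈ B i := by
    intro i x hx
    by_cases hi : (i : ℕ) < r
    · rw [hB1 i hi] at hx ⊢
      rw [hφ]
      apply hfpf
      have h1 : (φ i) (x⁻¹ * σ x) = 1 := hx
      rw [map_mul, map_inv] at h1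
      have h2 : (φ i) (σ x) = (((σ (x * ((σ ^ (i : ℕ)) (δ x))⁻¹)) : Q) : Q ⧸ K) := by
        change ((σ x * ((σ ^ (i : ℕ)) (δ (σ x)))⁻¹ : Q) : Q ⧸ K) = _
        rw [map_mul, map_inv]
        have e1 : σ ((σ ^ (i : ℕ)) (δ x)) = (σ ^ (i : ℕ)) (σ (δ x)) :=
          congrArg (fun g : MulAut Q => g (δ x)) (Commute.self_pow σ (i : ℕ)).eq
        have e2 : σ (δ x) = δ (σ x) := congrArg (fun g : MulAut Q => g x) hcomm
        rw [e1, e2]
      rw [h2] at h1
      change (((x * ((σ ^ (i : ℕ)) (δ x))⁻¹ : Q) : Q ⧸ K))⁻¹ * _ = 1 at h1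
      rw [← QuotientGroup.mk_inv, ← QuotientGroup.mk_mul, QuotientGroup.eq_one_iff] at h1
      exact h1
    · rw [hB2 i hi] at hx ⊢
      rw [Subgroup.mem_comap] at hx ⊢
      change δ (x⁻¹ * σ x) ∈ K at hx
      change δ x ∈ K
      apply hfpf
      rw [map_mul, map_inv] at hx
      have e2 : σ (δ x) = δ (σ x) := congrArg (fun g : MulAut Q => g x) hcomm
      rw [e2]; exact hx
  have htop : ∃ i, B i = ⊤ := by
    by_contra hcon
    push Not at hcon
    obtain ⟨x, hx⟩ := not_cover hr.pos B (fun i => index_ge σ hr hσ (B i) (hinv i) (hfp i) (hcon i))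
    rcases hcov x with h | ⟨k, hk, h⟩
    · apply hx (Fin.last r)
      rw [hB2 _ (by simp), Subgroup.mem_comap]
      exact h
    · apply hx ⟨k, by omega⟩
      rw [hB1 _ (by simpa using hk), hφ]
      exact h
  obtain ⟨i, hi⟩ := htop
  by_cases hir : (i : ℕ) < r
  · rw [hB1 i hir] at hi
    have hall : ∀ t, t * ((σ ^ (i : ℕ)) (δ t))⁻¹ ∈ K := fun t => by
      rw [← hφ, hi]; exact Subgroup.mem_top _
    -- the automorphism τ = σ ^ i * δ acts trivially on Q / K
    set τ : MulAut Q := σ ^ (i : ℕ) * δ with hτ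
    have h1 : ∀ t, t * (τ t)⁻¹ ∈ K := hall
    have hτK : ∀ t ∈ K, τ t ∈ K := by
      intro t ht
      have h2 := K.inv_mem (h1 t)
      rw [mul_inv_rev, inv_inv] at h2
      have h3 := K.mul_mem h2 ht
      simpa using h3
    have hpow : ∀ n : ℕ, ∀ t, t * ((τ ^ n) t)⁻¹ ∈ K := by
      intro n
      induction n with
      | zero => intro t; simp
      | succ n ih =>
        intro t
        have h2 := ih t
        have h3 := h1 ((τ ^ n) t)
        have h4 := K.mul_mem h2 h3
        have h5 : t * ((τ ^ n) t)⁻¹ * ((τ ^ n) t * (τ ((τ ^ n) t))⁻¹) = t * ((τ ^ (n + 1)) t)⁻¹ := by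
          rw [pow_succ']
          change _ = t * (τ ((τ ^ n) t))⁻¹
          group
        rw [h5] at h4
        exact h4
    have hcδ : Commute (σ ^ (i : ℕ)) δ := Commute.pow_left hcomm _
    have h6 : τ ^ m = σ ^ ((i : ℕ) * m) := by
      rw [hτ, hcδ.mul_pow, hδ, mul_one, pow_mul]
    rcases Nat.eq_zero_or_pos (i : ℕ) with hi0 | hi0
    · right
      intro t
      have h7 := h1 t
      rw [hτ, hi0, pow_zero, one_mul] at h7
      have h8 := K.inv_mem h7
      rw [mul_inv_rev, inv_inv] at h8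
      exact (hmod _ _).mp h8
    · left
      rw [eq_top_iff]
      intro t _
      -- σ is a power of σ ^ (i m)
      have h9 : Nat.Coprime ((i : ℕ) * m) r := by
        apply Nat.Coprime.symm
        rw [hr.coprime_iff_not_dvd]
        intro hd
        rcases hr.dvd_mul.mp hd with hd | hd
        · exact absurd (Nat.le_of_dvd hi0 hd) (by omega)
        · exact hm hd
      obtain ⟨n, -, hn⟩ := Nat.exists_mul_mod_eq_one_of_coprime h9 hr.one_lt
      have h10 : (τ ^ m) ^ n = σ := by
        rw [h6, ← pow_mul]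
        conv_lhs => rw [← Nat.div_add_mod ((i : ℕ) * m * n) r]
        rw [hn, pow_add, pow_mul, hσ, one_pow, one_mul, pow_one]
      have h11 := hpow (m * n) t
      rw [pow_mul, h10] at h11
      apply hfpf
      have h12 := K.inv_mem h11
      rw [mul_inv_rev, inv_inv] at h12
      exact (hmod _ _).mp h12
  · left
    rw [hB2 i hir] at hi
    rw [eq_top_iff]
    intro t _
    have h1 : (δ⁻¹ : MulAut Q) t ∈ K.comap δ.toMonoidHom := by rw [hi]; exact Subgroup.mem_top _
    rw [Subgroup.mem_comap] at h1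
    change δ ((δ⁻¹ : MulAut Q) t) ∈ K at h1
    simpa using h1

end Cfsg.Agent.H583.L3
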