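import Cfsg.Agent.H583.HexA
import Cfsg.Agent.H583.L3Cover

/-!
# `N(K 4)` is a maximal subgroup of `G₂(q)`, `³D₄(q)`, `q ≥ 3` (helper583)

`K4 = ⟨X 4, X 10⟩` is the long root `SL₂(q)`. Main results (`hq : ∃ a : ↥(fx σ), a ≠ 0 ∧ a ≠ 1`):

* `top_of_long` : a subgroup containing `K1`, `K4` and a long root subgroup `g (X 4) g⁻¹` not in `K4` is `⊤`;
* `isCoatom_N` : `normalizer K4` is a coatom;
* `long_cases` : a long root subgroup in `normalizer K4` is `X 4` or `v (X 10) v⁻¹` with `v ∈ X 4`;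
* `not_conj_le` : no conjugate of `⟨X 2, X 4, X 6⟩` lies in `normalizer K4`
  (so `normalizer K4` is not conjugate to a parabolic subgroup, nor to the normalizer of `⟨X 0, X 2, …, X 10⟩`);
* `exists_norm` : an element of prime order `r ∤ q + 1` of `normalizer K4` has a conjugate normalising `X 4`.
-/

set_option autoImplicit false

namespace Cfsg.Agent.H583.HexA

open Cfsg.Agent.SplitTwo Cfsg.Agent.TitsThree.RankTwoZ Cfsg.Agent.Lib.SL2Mat Cfsg.Agent.Cit.HexBase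
  Cfsg.Agent.Cit.HexBase.HexGrp Cfsg.Agent.H148.Hex
open scoped commutatorElement

universe u

variable {E : Type*} [Field E] {σ : E ≃+* E} {L : Type u} [Group L] {c : HexGrp σ L}

theorem NF_act {g h : L} {a b2 b3 b5 b6 : E} (hn : c.NF g b2 b3 b5 b6) (ha : c.Act h 1 a) :
    c.NF (h * g * h⁻¹) (a * b2) (a * b3) (a * b5) (a * b6) := by
  obtain ⟨f2, f6, b4, f4, rfl⟩ := hn
  have e2 := ha.a2 b2 f2
  have e3 := ha.a3 b3
  have e4 := ha.a4 b4 f4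
  have e5 := ha.a5 b5
  have e6 := ha.a6 b6 f6
  have hs : shp σ (1 : E) = 1 := by unfold shp; simp
  rw [nrm_one, mul_one] at e2 e4
  rw [hs, mul_one] at e3
  rw [mul_one] at e5
  refine ⟨mul_fix ha.fix f2, mul_fix ha.fix f6, a ^ 2 * b4, mul_fix (by rw [map_pow, ha.fix]) f4, ?_⟩
  rw [← e2, ← e3, ← e4, ← e5, ← e6]
  group

theorem kk_two (v x y : L) (h : v * x = x * v) : kk x (v * y * v⁻¹) = v * kk x y * v⁻¹ := by
  have h1 : x⁻¹ * v = v * x⁻¹ := by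
    rw [inv_mul_eq_iff_eq_mul, ← mul_assoc, ← h]; group
  unfold kk
  calc x⁻¹ * (v * y * v⁻¹)⁻¹ * x * (v * y * v⁻¹) = (x⁻¹ * v) * y⁻¹ * v⁻¹ * (x * v) * y * v⁻¹ := by group
    _ = (v * x⁻¹) * y⁻¹ * v⁻¹ * (v * x) * y * v⁻¹ := by rw [h1, h]
    _ = _ := by group

theorem kk_two' (v x y : L) (h : v * y = y * v) : kk (v * x * v⁻¹) y = v * kk x y * v⁻¹ := by
  rw [kk_inv, kk_two v y x h, kk_inv x y]
  group

/-- there is `x ∈ X 4`, `y ∈ X 8` with `kk x y = x6 t`, `t ≠ 0` -/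
theorem exists_48 (c : HexGrp σ L) : ∃ x ∈ c.X 4, ∃ y ∈ c.X 8, ∃ t, σ t = t ∧ t ≠ 0 ∧ kk x y = c.x6 t := by
  obtain ⟨ρ, hρ⟩ : ∃ ρ : L, ρ = c.n1 * c.n6 := ⟨_, rfl⟩
  have hm : Maps c.X ρ (fun k => k + 2) := by rw [hρ]; exact c.maps_rot2
  have h1 : σ (1 : E) = 1 := map_one σ
  have hk : kk (ρ * c.x2 1 * ρ⁻¹) (ρ * c.x6 1 * ρ⁻¹) = ρ * c.x4 1 * ρ⁻¹ := by
    rw [← conj_kk, c.par.rel.c26 1 1 h1 h1, mul_one]
  obtain ⟨t, ht, e⟩ := (c.par.mem6 _).1 (maps_mem hm (c.mem4 h1) (by decide) : ρ * c.x4 1 * ρ⁻¹ ∈ c.X 6)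
  refine ⟨_, maps_mem hm (c.mem2 h1) (by decide), _, maps_mem hm (c.mem6 h1) (by decide), t, ht, ?_, hk.trans e.symm⟩
  intro h0
  rw [h0, c.x6_zero] at e
  have h2 : c.x4 1 = 1 := by
    have : ρ * c.x4 1 = ρ := mul_inv_eq_one.1 e.symm
    exact mul_eq_left.1 this
  rw [← c.x4_zero] at h2
  exact one_ne_zero (c.x4_inj h1 (map_zero σ) h2)

/-- there is `x ∈ X 0`, `y ∈ X 4` with `kk x y = x2 t`, `t ≠ 0` -/
theorem exists_04 (c : HexGrp σ L) : ∃ x ∈ c.X 0, ∃ y ∈ c.X 4, ∃ t, σ t = t ∧ t ≠ 0 ∧ kk x y = c.x2 t := by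
  obtain ⟨ρ, hρ⟩ : ∃ ρ : L, ρ = c.n6 * c.n1 := ⟨_, rfl⟩
  have hm : Maps c.X ρ (fun k => k - 2) := by rw [hρ]; exact c.maps_g
  have h1 : σ (1 : E) = 1 := map_one σ
  have hk : kk (ρ * c.x2 1 * ρ⁻¹) (ρ * c.x6 1 * ρ⁻¹) = ρ * c.x4 1 * ρ⁻¹ := by
    rw [← conj_kk, c.par.rel.c26 1 1 h1 h1, mul_one]
  obtain ⟨t, ht, e⟩ := (c.par.mem2 _).1 (maps_mem hm (c.mem4 h1) (by decide) : ρ * c.x4 1 * ρ⁻¹ ∈ c.X 2)
  refine ⟨_, maps_mem hm (c.mem2 h1) (by decide), _, maps_mem hm (c.mem6 h1) (by decide), t, ht, ?_, hk.trans e.symm⟩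
  intro h0
  rw [h0, c.x2_zero] at e
  have h2 : c.x4 1 = 1 := by
    have : ρ * c.x4 1 = ρ := mul_inv_eq_one.1 e.symm
    exact mul_eq_left.1 this
  rw [← c.x4_zero] at h2
  exact one_ne_zero (c.x4_inj h1 (map_zero σ) h2)

theorem cj_K4 {x : L} (hx : x ∈ c.K1) : cj x c.K4 = c.K4 := by
  refine cj_of_comm fun y hy => ?_
  obtain ⟨m, rfl⟩ := hx
  obtain ⟨n, rfl⟩ := hy
  exact c.comm_pb_p4 m n

theorem K4_le {H : Subgroup L} (h4 : c.X 4 ≤ H) (h10 : c.X 10 ≤ H) : c.K4 ≤ H := by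
  rintro _ ⟨x, rfl⟩
  obtain ⟨a, b, d, e, rfl⟩ := exists_up_lo x
  rw [map_mul, map_mul, map_mul]
  exact mul_mem (mul_mem (mul_mem (h4 (c.p4_up_mem _)) (h10 (c.p4_lo_mem _))) (h4 (c.p4_up_mem _)))
    (h10 (c.p4_lo_mem _))

theorem cj_K4_le {g : L} {H : Subgroup L} (h4 : cj g (c.X 4) ≤ H) (h10 : cj g (c.X 10) ≤ H) : cj g c.K4 ≤ H := by
  have h : c.K4 ≤ cj g⁻¹ H := K4_le (fun x hx => by
    rw [mem_cj, inv_inv]; exact h4 (conj_mem_cj hx)) (fun x hx => by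
    rw [mem_cj, inv_inv]; exact h10 (conj_mem_cj hx))
  rw [cj_le_iff]
  intro x hx
  have := h hx
  rwa [mem_cj, inv_inv] at this

theorem hqE (hq : ∃ a : ↥(fx σ), a ≠ 0 ∧ a ≠ 1) : ∃ a : E, a ≠ 0 ∧ a ≠ 1 := by
  obtain ⟨a, h0, h1⟩ := hq
  exact ⟨a, fun h => h0 (Subtype.ext h), fun h => h1 (Subtype.ext h)⟩

/-- the long root subgroups contained in a proper overgroup of `K1`, `K4` -/
theorem cell_cases (hq : ∃ a : ↥(fx σ), a ≠ 0 ∧ a ≠ 1) {H : Subgroup L} (h1 : c.K1 ≤ H) (h4 : c.K4 ≤ H)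
    (hne : H ≠ ⊤) {g : L} (hg : cj g (c.X 4) ≤ H) :
    cj g (c.X 4) = c.X 4 ∨ ∃ v ∈ c.X 4, cj g (c.X 4) = cj v (c.X 10) := by
  have hqE' := hqE hq
  obtain ⟨u, hu, k, hk, e⟩ := cellR (c := c) g
  obtain ⟨x, hx, v, hv, rfl⟩ := c.Pos_eq hu
  have hxH : x ∈ H := h1 (c.X1_le_K1 hx)
  obtain ⟨b2, b3, b5, b6, hn⟩ := c.exists_NF hv
  rw [e, cj_mul] at hg
  have hvH : cj v (c.X k) ≤ H := by
    intro y hy
    have h2 := hg (conj_mem_cj (g := x) hy)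
    have h3 := mul_mem (mul_mem (inv_mem hxH) h2) hxH
    have e' : x⁻¹ * (x * y * x⁻¹) * x = y := by group
    rwa [e'] at h3
  have hbad : ∀ {b2 b3 b5 b6 : E}, NFH c H b2 b3 b5 b6 → ¬ (b2 = 0 ∧ b3 = 0 ∧ b5 = 0 ∧ b6 = 0) → False :=
    fun h h' => hne (top_of_NFH h1 h4 hqE' h h')
  have n2 : ∀ t : E, σ t = t → t ≠ 0 → v * c.x2 t * v⁻¹ ∈ H → False := by
    intro t ht h0 hm
    exact hbad ⟨_, hm, ((hn.mul (c.nf2 ht)).mul hn.inv).congr rfl (by ring) (by ring) (by ring) (by ring)⟩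
      (b2 := t) (b3 := 0) (b5 := 0) (b6 := 0) fun h => h0 h.1
  have n6 : ∀ t : E, σ t = t → t ≠ 0 → v * c.x6 t * v⁻¹ ∈ H → False := by
    intro t ht h0 hm
    exact hbad ⟨_, hm, ((hn.mul (c.nf6 ht)).mul hn.inv).congr rfl (by ring) (by ring) (by ring) (by ring)⟩
      (b2 := 0) (b3 := 0) (b5 := 0) (b6 := t) fun h => h0 h.2.2.2
  have hk' : k = 4 ∨ k = 10 ∨ k = 2 ∨ k = 6 ∨ k = 8 ∨ k = 0 := by
    revert hk
    clear hvH hg e
    revert k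
    decide
  rcases hk' with rfl | rfl | rfl | rfl | rfl | rfl
  · left
    rw [e, cj_mul, cj_of_comm (g := v) fun y hy => c.Q4_le_cent hv hy, cj1 c (Or.inl rfl) hx]
  · right
    have hK : cj v c.K4 ≤ H := by
      refine cj_K4_le ?_ hvH
      rw [cj_of_comm (g := v) fun y hy => c.Q4_le_cent hv hy]
      exact c.X4_le_K4.trans h4
    obtain ⟨a, ha0, ha1⟩ := hq
    have hact := c.act_p4_dg a ha0
    have hw : v * (c.p4 (dg a ha0) * v⁻¹ * (c.p4 (dg a ha0))⁻¹) ∈ H := by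
      have h2 : v * c.p4 (dg a ha0) * v⁻¹ ∈ H := hK (conj_mem_cj ⟨_, rfl⟩)
      have h3 : c.p4 (dg a ha0) ∈ H := h4 ⟨_, rfl⟩
      have := mul_mem h2 (inv_mem h3)
      have e' : v * c.p4 (dg a ha0) * v⁻¹ * (c.p4 (dg a ha0))⁻¹ =
        v * (c.p4 (dg a ha0) * v⁻¹ * (c.p4 (dg a ha0))⁻¹) := by group
      rwa [e'] at this
    have hnw := hn.mul (NF_act hn.inv hact)
    have h1a : (1 : E) - a ≠ 0 := fun h => ha1 (Subtype.ext (by
      change (a : E) = 1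
      linear_combination -h))
    have hb : b2 = 0 ∧ b3 = 0 ∧ b5 = 0 ∧ b6 = 0 := by
      by_contra hcon
      refine hbad ⟨_, hw, hnw⟩ fun h => hcon ?_
      have key : ∀ b : E, b + a * -b = 0 → b = 0 := by
        intro b hb
        have h2 : (1 - (a : E)) * b = 0 := by linear_combination hb
        exact (mul_eq_zero.1 h2).resolve_left h1a
      exact ⟨key _ h.1, key _ h.2.1, key _ h.2.2.1, key _ h.2.2.2⟩
    obtain ⟨rfl, rfl, rfl, rfl⟩ := hb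
    obtain ⟨-, -, b4, f4, ev⟩ := hn
    rw [c.x2_zero, c.x3_zero, c.x5_zero, c.x6_zero, one_mul, one_mul, mul_one, mul_one] at ev
    refine ⟨c.x4 b4, c.mem4 f4, ?_⟩
    rw [e, ev]
    have h3 : x * c.x4 b4 = c.x4 b4 * x := c.comm4 (c.sg (by decide) hx) (c.mem4 f4)
    rw [h3, cj_mul, cj1 c (Or.inr (Or.inl rfl)) hx]
  · exact (n2 1 (map_one σ) one_ne_zero (hvH (conj_mem_cj (c.mem2 (map_one σ))))).elim
  · exact (n6 1 (map_one σ) one_ne_zero (hvH (conj_mem_cj (c.mem6 (map_one σ))))).elim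
  · obtain ⟨y4, hy4, y8, hy8, t, ht, ht0, hk⟩ := exists_48 c
    refine (n6 t ht ht0 ?_).elim
    rw [← hk, ← kk_two v y4 y8 (c.Q4_le_cent hv hy4)]
    have m4 : y4 ∈ H := h4 (c.X4_le_K4 hy4)
    have m8 : v * y8 * v⁻¹ ∈ H := hvH (conj_mem_cj hy8)
    unfold kk
    exact mul_mem (mul_mem (mul_mem (inv_mem m4) (inv_mem m8)) m4) m8
  · obtain ⟨y0, hy0, y4, hy4, t, ht, ht0, hk⟩ := exists_04 c
    refine (n2 t ht ht0 ?_).elim
    rw [← hk, ← kk_two' v y0 y4 (c.Q4_le_cent hv hy4)]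
    have m4 : y4 ∈ H := h4 (c.X4_le_K4 hy4)
    have m0 : v * y0 * v⁻¹ ∈ H := hvH (conj_mem_cj hy0)
    unfold kk
    exact mul_mem (mul_mem (mul_mem (inv_mem m0) (inv_mem m4)) m0) m4

/-- **overgroups of `K1`, `K4`** -/
theorem top_of_long (hq : ∃ a : ↥(fx σ), a ≠ 0 ∧ a ≠ 1) {H : Subgroup L} (h1 : c.K1 ≤ H) (h4 : c.K4 ≤ H)
    {g : L} (hg : cj g (c.X 4) ≤ H) (hn : ¬ cj g (c.X 4) ≤ c.K4) : H = ⊤ := by
  by_contra hne
  rcases cell_cases hq h1 h4 hne hg with h | ⟨v, hv, h⟩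
  · exact hn (by rw [h]; exact c.X4_le_K4)
  · apply hn
    rw [h, cj_le_iff]
    intro x hx
    exact mul_mem (mul_mem (c.X4_le_K4 hv) (c.X10_le_K4 hx)) (inv_mem (c.X4_le_K4 hv))

theorem K4_le_N : c.K4 ≤ Subgroup.normalizer (c.K4 : Set L) := Subgroup.le_normalizer

theorem mem_N_iff {x : L} : x ∈ Subgroup.normalizer (c.K4 : Set L) ↔ cj x c.K4 = c.K4 := by
  rw [Subgroup.mem_normalizer_iff]
  constructor
  · intro h
    ext y
    rw [mem_cj]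
    have h1 := h (x⁻¹ * y * x)
    have e : x * (x⁻¹ * y * x) * x⁻¹ = y := by group
    rw [e] at h1
    exact h1
  · intro h y
    constructor
    · intro hy
      have := conj_mem_cj (g := x) hy
      rwa [h] at this
    · intro hy
      rw [← h, mem_cj] at hy
      have e : x⁻¹ * (x * y * x⁻¹) * x = y := by group
      rwa [e] at hy

theorem K1_le_N : c.K1 ≤ Subgroup.normalizer (c.K4 : Set L) := fun _ hx => mem_N_iff.2 (cj_K4 hx)

variable (c)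

theorem x2_not_mem_K4 : c.x2 1 ∉ c.K4 := by
  intro h
  have h1 : c.n1 * c.x2 1 * c.n1⁻¹ = c.x6 1 := c.n1_x2 1 (map_one σ)
  obtain ⟨m, hm⟩ := h
  have h2 : c.n1 * c.x2 1 = c.x2 1 * c.n1 := by
    rw [← hm]
    exact c.comm_pb_p4 _ _
  rw [h2, mul_inv_cancel_right] at h1
  have h3 := c.eq_one_of_ne (j := 2) (k := 6) (by decide) (c.mem2 (map_one σ))
    (by rw [h1]; exact c.mem6 (map_one σ))
  rw [← c.x2_zero] at h3
  exact one_ne_zero (c.x2_inj (map_one σ) (map_zero σ) h3)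

theorem N_ne_top : Subgroup.normalizer (c.K4 : Set L) ≠ ⊤ := by
  intro h
  have h1 : c.n6 ∈ Subgroup.normalizer (c.K4 : Set L) := by rw [h]; exact Subgroup.mem_top _
  rw [mem_N_iff] at h1
  apply x2_not_mem_K4 c
  have h2 : c.n6⁻¹ * c.x2 1 * c.n6 ∈ c.X 4 := maps_mem' c.maps_n6 (c.mem2 (map_one σ)) (by decide)
  rw [← h1, mem_cj]
  exact c.X4_le_K4 h2

/-- **`N(K 4)` is a maximal subgroup** -/
theorem isCoatom_N (hq : ∃ a : ↥(fx σ), a ≠ 0 ∧ a ≠ 1) : IsCoatom (Subgroup.normalizer (c.K4 : Set L)) := by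
  refine ⟨N_ne_top c, fun H hH => ?_⟩
  have h1 : c.K1 ≤ H := K1_le_N.trans hH.le
  have h4 : c.K4 ≤ H := K4_le_N.trans hH.le
  obtain ⟨h, hh, hn⟩ := SetLike.exists_of_lt hH
  -- an element moving `K4` out of itself
  have key : ∀ h ∈ H, ¬ cj h c.K4 ≤ c.K4 → H = ⊤ := by
    intro h hh hn
    have hle : ∀ K : Subgroup L, K ≤ H → cj h K ≤ H := fun K hK => by
      rw [cj_le_iff]
      intro x hx
      exact mul_mem (mul_mem hh (hK hx)) (inv_mem hh)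
    by_cases h4' : cj h (c.X 4) ≤ c.K4
    · have h10 : ¬ cj h (c.X 10) ≤ c.K4 := fun h10 => hn (cj_K4_le h4' h10)
      have e : cj h (c.X 10) = cj (h * c.n4) (c.X 4) := by
        rw [cj_mul, cj_maps c.maps_n4]
        congr 1
      rw [e] at h10
      refine top_of_long hq h1 h4 ?_ h10
      rw [← e]
      exact hle _ (c.X10_le_K4.trans h4)
    · exact top_of_long hq h1 h4 (hle _ (c.X4_le_K4.trans h4)) h4'
  by_cases h2 : cj h c.K4 ≤ c.K4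
  · refine key h⁻¹ (inv_mem hh) fun h3 => hn ?_
    rw [mem_N_iff]
    refine le_antisymm h2 ?_
    have := cj_mono (g := h) h3
    rwa [← cj_mul, mul_inv_cancel, cj_one] at this
  · exact key h hh h2

variable {c}

/-- the long root subgroups in `N(K 4)` -/
theorem long_cases (hq : ∃ a : ↥(fx σ), a ≠ 0 ∧ a ≠ 1) {g : L}
    (hg : cj g (c.X 4) ≤ Subgroup.normalizer (c.K4 : Set L)) :
    cj g (c.X 4) = c.X 4 ∨ ∃ v ∈ c.X 4, cj g (c.X 4) = cj v (c.X 10) :=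
  cell_cases hq K1_le_N K4_le_N (N_ne_top c) hg

/-- every long root subgroup in `N(K 4)` is conjugate to `X 4` in `K 4` -/
theorem long_conj (hq : ∃ a : ↥(fx σ), a ≠ 0 ∧ a ≠ 1) {g : L}
    (hg : cj g (c.X 4) ≤ Subgroup.normalizer (c.K4 : Set L)) : ∃ y ∈ c.K4, cj g (c.X 4) = cj y (c.X 4) := by
  rcases long_cases hq hg with h | ⟨v, hv, h⟩
  · exact ⟨1, one_mem _, by rw [h, cj_one]⟩
  · refine ⟨v * c.n4, mul_mem (c.X4_le_K4 hv) c.n4_mem_K4, ?_⟩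
    rw [h, cj_mul, cj_maps c.maps_n4]
    congr 1

theorem not_comm410 : ¬ ∀ x ∈ c.X 4, ∀ y ∈ c.X 10, x * y = y * x := by
  intro h
  have h1 := h _ (c.p4_up_mem 1) _ (c.p4_lo_mem 1)
  rw [← map_mul, ← map_mul] at h1
  have h2 := c.p4_inj h1
  have h3 := congrArg (fun m => ent m 0 0) h2
  simp only [ent_mul, up_00, up_01, lo_00, lo_10, lo_01, up_10] at h3
  have : (1 : ↥(fx σ)) = 0 := by linear_combination h3
  exact one_ne_zero this

/-- no conjugate of `⟨X 2, X 4⟩` lies in `N(K 4)` -/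
theorem not_conj_le24 (hq : ∃ a : ↥(fx σ), a ≠ 0 ∧ a ≠ 1) (g : L)
    (h2 : cj g (c.X 2) ≤ Subgroup.normalizer (c.K4 : Set L))
    (h4 : cj g (c.X 4) ≤ Subgroup.normalizer (c.K4 : Set L)) : False := by
  obtain ⟨y, hy, e⟩ := long_conj hq h4
  have hyN : y ∈ Subgroup.normalizer (c.K4 : Set L) := K4_le_N hy
  -- replace `g` by `y⁻¹ * g`
  have e4 : cj (y⁻¹ * g) (c.X 4) = c.X 4 := by
    rw [cj_mul, e, ← cj_mul, inv_mul_cancel, cj_one]
  have h2' : cj (y⁻¹ * g) (c.X 2) ≤ Subgroup.normalizer (c.K4 : Set L) := by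
    rw [cj_mul, cj_le_iff]
    intro x hx
    exact mul_mem (mul_mem (inv_mem hyN) (h2 hx)) (inv_mem (inv_mem hyN))
  obtain ⟨g', hg'⟩ : ∃ g', g' = y⁻¹ * g := ⟨_, rfl⟩
  rw [← hg'] at e4 h2'
  have e24 : c.X 2 = cj c.n6 (c.X 4) := by
    rw [cj_maps c.maps_n6]
    congr 1
  have hc : ∀ x ∈ cj g' (c.X 2), ∀ z ∈ c.X 4, x * z = z * x := by
    intro x hx z hz
    rw [← e4] at hz
    rw [mem_cj] at hx hz
    have h := c.comm4 (c.sg (by decide) hx) hz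
    have e1 : x * z = g' * ((g'⁻¹ * x * g') * (g'⁻¹ * z * g')) * g'⁻¹ := by group
    rw [e1, h]
    group
  rw [e24, ← cj_mul] at h2' hc
  rcases long_cases hq h2' with h | ⟨v, hv, h⟩
  · rw [cj_mul, ← e24] at h
    have h3 : c.X 2 = c.X 4 := by
      have h5 : cj g'⁻¹ (cj g' (c.X 2)) = cj g'⁻¹ (cj g' (c.X 4)) := by rw [h, e4]
      rwa [← cj_mul, ← cj_mul, inv_mul_cancel, cj_one, cj_one] at h5
    have h5 : c.x2 1 ∈ c.X 4 := by rw [← h3]; exact c.mem2 (map_one σ)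
    exact x2_not_mem_K4 c (c.X4_le_K4 h5)
  · rw [h] at hc
    apply not_comm410 (c := c)
    intro z hz x hx
    have h5 := hc _ (conj_mem_cj (g := v) hx) (v * z * v⁻¹) (mul_mem (mul_mem hv hz) (inv_mem hv))
    have h6 : v * (x * z) * v⁻¹ = v * (z * x) * v⁻¹ := by
      calc v * (x * z) * v⁻¹ = v * x * v⁻¹ * (v * z * v⁻¹) := by group
        _ = v * z * v⁻¹ * (v * x * v⁻¹) := h5
        _ = _ := by group
    exact (mul_left_cancel (mul_right_cancel h6)).symm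

/-! ### Elements of prime order of `N(K 4)` -/

/-- the long root subgroups in `N(K 4)` -/
def lr (c : HexGrp σ L) : Option ↥(c.X 4) → Subgroup L
  | none => c.X 4
  | some v => cj (v : L) (c.X 10)

theorem X4_ne_X10 : c.X 4 ≠ c.X 10 := by
  intro h
  have h1 : c.x4 1 ∈ c.X 10 := by rw [← h]; exact c.mem4 (map_one σ)
  have h3 := c.eq_one_of_ne (j := 4) (k := 10) (by decide) (c.mem4 (map_one σ)) h1
  rw [← c.x4_zero] at h3
  exact one_ne_zero (c.x4_inj (map_one σ) (map_zero σ) h3)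

theorem lr_inj : Function.Injective (lr c) := by
  have k1 : ∀ v : ↥(c.X 4), c.X 4 ≠ cj (v : L) (c.X 10) := by
    intro v h
    apply X4_ne_X10 (c := c)
    have h1 : cj (v : L)⁻¹ (c.X 4) = cj (v : L)⁻¹ (cj (v : L) (c.X 10)) := by rw [← h]
    rwa [← cj_mul, inv_mul_cancel, cj_one, cj_of_mem (inv_mem v.2)] at h1
  rintro (_ | v) (_ | w) h
  · rfl
  · exact (k1 w h).elim
  · exact (k1 v h.symm).elim
  · congr 1
    change cj (v : L) (c.X 10) = cj (w : L) (c.X 10) at h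
    have h1 : cj ((w : L)⁻¹ * v) (c.X 10) = c.X 10 := by
      rw [cj_mul, h, ← cj_mul, inv_mul_cancel, cj_one]
    have h2 : (w : L)⁻¹ * v ∈ c.X 4 := mul_mem (inv_mem w.2) v.2
    obtain ⟨t, ht⟩ := c.mem_X4.1 h2
    have h3 : (w : L)⁻¹ * v * c.p4 (lo 1) * ((w : L)⁻¹ * v)⁻¹ ∈ c.X 10 := by
      rw [← h1]
      exact conj_mem_cj (c.p4_lo_mem 1)
    obtain ⟨s, hs⟩ := c.mem_X10.1 h3
    rw [← ht, ← map_inv, ← map_mul, ← map_mul] at hs
    have h4 := c.p4_inj hs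
    have h5 := congrArg (fun m => ent m 0 0) h4
    rw [up_inv] at h5
    simp only [ent_mul, up_00, up_01, lo_00, lo_10, lo_01, up_10] at h5
    have h6 : t = 0 := by linear_combination -h5
    rw [h6, up_zero, map_one] at ht
    exact Subtype.ext (inv_mul_eq_one.1 ht.symm).symm

theorem mem_lr_iff (hq : ∃ a : ↥(fx σ), a ≠ 0 ∧ a ≠ 1) {g : L}
    (hg : cj g (c.X 4) ≤ Subgroup.normalizer (c.K4 : Set L)) : ∃ a, lr c a = cj g (c.X 4) := by
  rcases long_cases hq hg with h | ⟨v, hv, h⟩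
  · exact ⟨none, h.symm⟩
  · exact ⟨some ⟨v, hv⟩, h.symm⟩

theorem lr_eq (a : Option ↥(c.X 4)) : ∃ y ∈ c.K4, lr c a = cj y (c.X 4) := by
  rcases a with _ | v
  · exact ⟨1, one_mem _, (cj_one _).symm⟩
  · refine ⟨v * c.n4, mul_mem (c.X4_le_K4 v.2) c.n4_mem_K4, ?_⟩
    change cj (v : L) (c.X 10) = _
    rw [cj_mul, cj_maps c.maps_n4]
    congr 1

theorem card_X4 : Nat.card ↥(c.X 4) = Nat.card ↥(fx σ) := by
  symm
  refine Nat.card_congr (Equiv.ofBijective (fun t : ↥(fx σ) => (⟨c.p4 (up t), c.p4_up_mem t⟩ : ↥(c.X 4))) ⟨?_, ?_⟩)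
  · intro a b h
    exact up_inj (c.p4_inj (congrArg Subtype.val h))
  · rintro ⟨g, hg⟩
    obtain ⟨t, ht⟩ := c.mem_X4.1 hg
    exact ⟨t, Subtype.ext ht⟩

/-- an element of prime order `r ∤ q + 1` of `N(K 4)` normalises a long root subgroup in `K 4` -/
theorem exists_norm [Finite E] (hq : ∃ a : ↥(fx σ), a ≠ 0 ∧ a ≠ 1) {x : L}
    (hx : x ∈ Subgroup.normalizer (c.K4 : Set L)) {r : ℕ} (hr : r.Prime) (hxr : x ^ r = 1)
    (hrq : ¬ r ∣ Nat.card ↥(fx σ) + 1) : ∃ y ∈ c.K4, y⁻¹ * x * y ∈ Subgroup.normalizer (c.X 4 : Set L) := by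
  classical
  have hfin : Finite ↥(c.X 4) := by
    apply Nat.finite_of_card_ne_zero
    rw [card_X4]
    exact Nat.card_pos.ne'
  have hstep : ∀ a, ∃ b, lr c b = cj x (lr c a) := by
    intro a
    obtain ⟨y, hy, e⟩ := lr_eq a
    rw [e, ← cj_mul]
    apply mem_lr_iff hq
    rw [cj_le_iff]
    intro z hz
    exact mul_mem (mul_mem (mul_mem hx (K4_le_N hy)) (K4_le_N (c.X4_le_K4 hz)))
      (inv_mem (mul_mem hx (K4_le_N hy)))
  choose f hf using hstep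
  have hfn : ∀ (n : ℕ) a, lr c (f^[n] a) = cj (x ^ n) (lr c a) := by
    intro n
    induction n with
    | zero => intro a; rw [Function.iterate_zero, id, pow_zero, cj_one]
    | succ n ih => intro a; rw [Function.iterate_succ_apply', hf, ih, ← cj_mul, pow_succ']
  have h1 := Cfsg.Agent.H583.L3.card_modEq_fix f hr (fun a => lr_inj (by rw [hfn, hxr, cj_one]))
  have h2 : Nat.card (Option ↥(c.X 4)) = Nat.card ↥(fx σ) + 1 := by
    rw [Finite.card_option, card_X4]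
  have h3 : Nat.card {a // f a = a} ≠ 0 := by
    intro h0
    rw [h0, h2] at h1
    exact hrq ((Nat.modEq_zero_iff_dvd).1 h1)
  obtain ⟨⟨a, ha⟩⟩ := (Nat.card_ne_zero.1 h3).1
  obtain ⟨y, hy, e⟩ := lr_eq a
  refine ⟨y, hy, ?_⟩
  have h4 : cj (y⁻¹ * x * y) (c.X 4) = c.X 4 := by
    rw [cj_mul, ← e, cj_mul, ← hf, ha, e, ← cj_mul, inv_mul_cancel, cj_one]
  rw [Subgroup.mem_normalizer_iff]
  intro z
  constructor
  · intro hz
    have := conj_mem_cj (g := y⁻¹ * x * y) hz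
    rwa [h4] at this
  · intro hz
    rw [← h4, mem_cj] at hz
    have e' : (y⁻¹ * x * y)⁻¹ * (y⁻¹ * x * y * z * (y⁻¹ * x * y)⁻¹) * (y⁻¹ * x * y) = z := by group
    rwa [e'] at hz

/-- a prime divisor of `|N(K 4)|` divides `q + 1` or `|N(X 4)|` -/
theorem dvd_of_dvd_card [Finite E] [Finite L] (hq : ∃ a : ↥(fx σ), a ≠ 0 ∧ a ≠ 1) {r : ℕ} (hr : r.Prime)
    (h : r ∣ Nat.card ↥(Subgroup.normalizer (c.K4 : Set L))) :
    r ∣ Nat.card ↥(fx σ) + 1 ∨ r ∣ Nat.card ↥(Subgroup.normalizer (c.X 4 : Set L)) := by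
  by_cases hrq : r ∣ Nat.card ↥(fx σ) + 1
  · exact Or.inl hrq
  right
  have : Fact r.Prime := ⟨hr⟩
  obtain ⟨x, hx⟩ := exists_prime_orderOf_dvd_card' r h
  have hxr : ((x : ↥(Subgroup.normalizer (c.K4 : Set L))) : L) ^ r = 1 := by
    have := pow_orderOf_eq_one x
    rw [hx] at this
    exact congrArg Subtype.val this
  obtain ⟨y, -, hy⟩ := exists_norm hq x.2 hr hxr hrq
  have h1 : orderOf (⟨_, hy⟩ : ↥(Subgroup.normalizer (c.X 4 : Set L))) = r := by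
    rw [Subgroup.orderOf_mk]
    have e : y⁻¹ * (x : L) * y = MulAut.conj y⁻¹ (x : L) := by rw [MulAut.conj_apply, inv_inv]
    rw [e, MulEquiv.orderOf_eq, Subgroup.orderOf_coe, hx]
  rw [← h1]
  exact orderOf_dvd_natCard _

end Cfsg.Agent.H583.HexA
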