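import Cfsg.Agent.H583.ImcNoCent
import Cfsg.Agent.SevenCases.SporTh
import Cfsg.Agent.H661.SC.Base
import Cfsg.Agent.H227.IMTh

/-!
# `IMC p` for the Thompson group, `p = 2` (from a second 2-block) and `p = 7, 13, 19, 31` (helper583)
-/

set_option autoImplicit false

open Cfsg

namespace Cfsg.Agent.H583.ImcTh

open Cfsg.Agent.H625.SylConst

universe u

theorem ct_th {K : Type u} [Group K] [Finite K] (h : Spor.IsoTh K) : Cfsg.Agent.H633.CentTwo.CT K :=
  Cfsg.Agent.H633.CentTwo.CT.of_charTwo (Cfsg.Agent.SevenCases.SporTh.charTwo h)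

theorem imc_th_two_of_NB {S : Type u} [Group S] [Finite S] [Fact (Nat.Prime 2)] (h : Spor.IsoTh S)
    (hNB : Cfsg.Agent.H526.OB.NB S) : IMC 2 S :=
  Cfsg.Agent.H583.ImcNoCent.imc_two_of_NB hNB (ct_th h)

theorem card_th {S : Type u} [Group S] (h : Spor.IsoTh S) : Nat.card S = 90745943887872000 := by
  obtain ⟨e⟩ := h
  rw [Nat.card_congr e.toEquiv]
  exact Cfsg.Agent.S1700.result.2

/-- the primes with `p ^ 3 ∤ |G|` -/
theorem imc_th_exact {S : Type u} [Group S] [Finite S] (h : Spor.IsoTh S) {p : ℕ} [Fact p.Prime]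
    (hd : p ∣ Nat.card S) (h3 : ¬ p ^ 3 ∣ Nat.card S) : IMC p S :=
  Cfsg.Agent.H661.SC.imc_of_IM h3 (Cfsg.Agent.H227.IMTh.im_th h hd)

theorem imc_th_seven {S : Type u} [Group S] [Finite S] [Fact (Nat.Prime 7)] (h : Spor.IsoTh S) : IMC 7 S := by
  refine imc_th_exact h ?_ ?_ <;> rw [card_th h] <;> norm_num

end Cfsg.Agent.H583.ImcTh
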