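import Cfsg.Agent.H583.L3Cover

/-! The group-theoretic half of `L3` (piece of S4363). -/

namespace Cfsg.Agent.H583.L3

open Subgroup
open scoped Pointwise commutatorElement

/-- a finite nilpotent group generated by a subgroup and the commutator subgroup. -/
theorem eq_top_of_sup_commutator {Q : Type*} [Group Q] [Finite Q] [hn : Group.IsNilpotent Q]
    (N : Subgroup Q) (h : N ⊔ _root_.commutator Q = ⊤) : N = ⊤ := by
  by_contra hne
  obtain ⟨M, hM, hNM⟩ := (eq_top_or_exists_le_coatom N).resolve_left hne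
  have hMn : M.Normal := NormalizerCondition.normal_of_coatom M
    (Group.normalizerCondition_of_isNilpotent) hM
  have hnt : Nontrivial (Q ⧸ M) := by
    rw [QuotientGroup.nontrivial_iff]; exact hM.1
  have hlt := Group.IsSolvable.commutator_lt_top_of_nontrivial (Q ⧸ M)
  apply hlt.ne
  have h1 : (N ⊔ _root_.commutator Q).map (QuotientGroup.mk' M) = ⊤ := by
    rw [h, Subgroup.map_top_of_surjective _ (QuotientGroup.mk'_surjective M)]
  rw [Subgroup.map_sup] at h1
  have h2 : N.map (QuotientGroup.mk' M) = ⊥ := by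
    rw [Subgroup.map_eq_bot_iff, QuotientGroup.ker_mk']; exact hNM
  rw [h2, bot_sup_eq, _root_.commutator_def, Subgroup.map_commutator,
    Subgroup.map_top_of_surjective _ (QuotientGroup.mk'_surjective M)] at h1
  rw [_root_.commutator_def]
  exact h1

/-- coprime action: a `σ`-fixed coset contains a `σ`-fixed element. -/
theorem fixed_coset {Q : Type*} [Group Q] [Finite Q] (σ : MulAut Q) {r : ℕ} (hr : r.Prime)
    (hσ : σ ^ r = 1) (hrQ : ¬ r ∣ Nat.card Q) (K : Subgroup Q) (hK : ∀ x ∈ K, σ x ∈ K) (x : Q)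
    (hx : x⁻¹ * σ x ∈ K) : ∃ k ∈ K, σ (x * k) = x * k := by
  classical
  let f : K → K := fun k => ⟨(x⁻¹ * σ x) * σ k, K.mul_mem hx (hK _ k.2)⟩
  have hf : ∀ (n : ℕ) (k : K), x * ((f^[n] k : K) : Q) = (σ ^ n) (x * k) := by
    intro n
    induction n with
    | zero => intro k; rfl
    | succ n ih =>
      intro k
      rw [Function.iterate_succ_apply', pow_succ']
      change x * ((x⁻¹ * σ x) * σ ((f^[n] k : K) : Q)) = σ ((σ ^ n) (x * k))
      rw [← ih, map_mul]; group
  have h1 := card_modEq_fix f hr (by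
    intro k
    have := hf r k
    rw [hσ] at this
    change x * ((f^[r] k : K) : Q) = x * k at this
    exact Subtype.ext (mul_left_cancel this))
  have h2 : Nat.card {k : K // f k = k} ≠ 0 := by
    intro h0
    rw [h0] at h1
    have h3 : r ∣ Nat.card K := (Nat.modEq_zero_iff_dvd).mp h1
    exact hrQ (h3.trans (Subgroup.card_subgroup_dvd_card K))
  obtain ⟨⟨k, hk⟩⟩ := (Nat.card_ne_zero.mp h2).1
  refine ⟨k, k.2, ?_⟩
  have h4 := congrArg (fun z : K => (z : Q)) hk
  change (x⁻¹ * σ x) * σ k = k at h4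
  rw [map_mul, ← h4]
  rw [h4]
  have : σ x * σ k = x * ((x⁻¹ * σ x) * σ k) := by group
  rw [this, h4]

/-- conjugation by an element of the normalizer, as an automorphism. -/
theorem conj_pow_coe {G : Type*} [Group G] (Q : Subgroup G) (g : normalizer (Q : Set G)) (n : ℕ)
    (x : Q) : (((Q.normalizerMonoidHom g) ^ n) x : G) = (g : G) ^ n * x * ((g : G) ^ n)⁻¹ := by
  rw [← map_pow]
  rfl

theorem eq_of_cover {G : Type*} [Group G] [Finite G] (Q T N : Subgroup G) (σ : G) {r : ℕ}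
    (hr : r.Prime) (hσ : σ ^ r = 1) (hrQ : ¬ r ∣ Nat.card Q) (hrT : ¬ r ∣ Nat.card T)
    (hQn : Group.IsNilpotent Q) (hσQ : σ ∈ normalizer (Q : Set G))
    (hTQ : T ≤ normalizer (Q : Set G)) (hTσ : ∀ t ∈ T, t * σ = σ * t) (hQT : ⁅Q, T⁆ = Q)
    (hNQ : N ≤ Q) (hσN : ∀ x ∈ N, σ * x * σ⁻¹ ∈ N) (hCN : ∀ c ∈ Q, c * σ = σ * c → c ∈ N)
    (hcov : ∀ d ∈ T, ∀ t ∈ Q, d * t * d⁻¹ ∈ N ∨
      ∃ k < r, t * (σ ^ k * (d * t * d⁻¹) * (σ ^ k)⁻¹)⁻¹ ∈ N) : N = Q := by
  classical
  set s : MulAut Q := Q.normalizerMonoidHom ⟨σ, hσQ⟩ with hs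
  have hsc : ∀ x : Q, ((s x : Q) : G) = σ * x * σ⁻¹ := fun x => rfl
  have hsn : ∀ (n : ℕ) (x : Q), (((s ^ n) x : Q) : G) = σ ^ n * x * (σ ^ n)⁻¹ := fun n x =>
    conj_pow_coe Q ⟨σ, hσQ⟩ n x
  have hsr : s ^ r = 1 := by
    ext x
    rw [hsn, hσ]; simp
  set N' : Subgroup Q := N.subgroupOf Q with hN'
  set K : Subgroup Q := N' ⊔ _root_.commutator Q with hK
  have hsK : ∀ x ∈ K, s x ∈ K := by
    have h1 : K.map s.toMonoidHom ≤ K := by
      rw [hK, Subgroup.map_sup]
      apply sup_le_sup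
      · rintro _ ⟨x, hx, rfl⟩
        rw [hN', SetLike.mem_coe, Subgroup.mem_subgroupOf] at hx
        rw [hN', Subgroup.mem_subgroupOf]
        exact hσN _ hx
      · rw [_root_.commutator_def, Subgroup.map_commutator]
        exact Subgroup.commutator_mono le_top le_top
    intro x hx
    exact h1 (Subgroup.mem_map_of_mem s.toMonoidHom hx)
  have hfpf : ∀ x, x⁻¹ * s x ∈ K → x ∈ K := by
    intro x hx
    obtain ⟨k, hk, hk2⟩ := fixed_coset s hr hsr hrQ K hsK x hx
    have h1 : x * k ∈ K := by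
      apply (le_sup_left : N' ≤ K)
      rw [hN', Subgroup.mem_subgroupOf]
      apply hCN _ (x * k).2
      have h2 := congrArg (fun z : Q => (z : G)) hk2
      simp only [hsc] at h2
      rw [mul_inv_eq_iff_eq_mul] at h2
      exact h2.symm
    have h3 := K.mul_mem h1 (K.inv_mem hk)
    simpa using h3
  have hQ0 : Group.IsNilpotent Q := hQn
  -- it suffices to show K = ⊤
  have hfin : K = ⊤ → N = Q := by
    intro hKt
    have h1 : N' = ⊤ := eq_top_of_sup_commutator N' hKt
    apply le_antisymm hNQ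
    intro x hx
    have h2 : (⟨x, hx⟩ : Q) ∈ N' := by rw [h1]; exact Subgroup.mem_top _
    rw [hN', Subgroup.mem_subgroupOf] at h2
    exact h2
  by_contra hne
  have hKt : K ≠ ⊤ := fun h => hne (hfin h)
  apply hKt
  have hall : ∀ (d : G) (hd : d ∈ T), ∀ t : Q,
      t * (Q.normalizerMonoidHom ⟨d, hTQ hd⟩) t⁻¹ ∈ K := by
    intro d hd t
    set δ : MulAut Q := Q.normalizerMonoidHom ⟨d, hTQ hd⟩ with hδd
    have hδc : ∀ x : Q, ((δ x : Q) : G) = d * x * d⁻¹ := fun x => rfl
    have hδn : δ ^ (orderOf d) = 1 := by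
      ext x
      rw [hδd, conj_pow_coe, pow_orderOf_eq_one]; simp
    have hsd : s * δ = δ * s := by
      ext x
      change σ * (d * x * d⁻¹) * σ⁻¹ = d * (σ * x * σ⁻¹) * d⁻¹
      have h := hTσ d hd
      calc σ * (d * x * d⁻¹) * σ⁻¹ = (σ * d) * x * (σ * d)⁻¹ := by group
        _ = (d * σ) * x * (d * σ)⁻¹ := by rw [h]
        _ = _ := by group
    have hdo : ¬ r ∣ orderOf d := by
      intro h
      apply hrT
      have h1 : orderOf d = orderOf (⟨d, hd⟩ : T) := by
        rw [Subgroup.orderOf_mk]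
      rw [h1] at h
      exact h.trans (orderOf_dvd_natCard _)
    have hcm := cover s δ hr hsr hsd hδn hdo K le_sup_right hsK hfpf (by
      intro t
      rcases hcov d hd t t.2 with h | ⟨k, hk, h⟩
      · left
        apply (le_sup_left : N' ≤ K)
        rw [hN', Subgroup.mem_subgroupOf]
        exact h
      · right
        refine ⟨k, hk, ?_⟩
        apply (le_sup_left : N' ≤ K)
        rw [hN', Subgroup.mem_subgroupOf]
        push_cast
        rw [hsn]
        exact h)
    have h2 := (hcm.resolve_left hKt) t⁻¹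
    rw [inv_inv] at h2
    exact h2
  rw [eq_top_iff]
  intro x _
  have h3 : ⁅Q, T⁆ ≤ K.map Q.subtype := by
    rw [Subgroup.commutator_le]
    intro a ha d hd
    have h4 := hall d hd ⟨a, ha⟩
    refine ⟨_, h4, ?_⟩
    rw [commutatorElement_def]
    change a * (d * a⁻¹ * d⁻¹) = _
    group
  rw [hQT] at h3
  obtain ⟨y, hy, hyx⟩ := h3 x.2
  have h5 : y = x := Subtype.ext hyx
  rw [← h5]; exact hy

end Cfsg.Agent.H583.L3
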