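/-
Automorphisms `σ` of a finite `p`-group `P` of prime order `q ≠ p` which fix pointwise every proper `σ`-invariant
subgroup (the action in a minimal non-nilpotent group).
-/
import Mathlib
import Cfsg.Agent.Lib.FrattiniPGroup

set_option autoImplicit false

namespace Cfsg.Agent.H583.MinAction

open Subgroup
open scoped commutatorElement

/-- `σ` is a nontrivial automorphism of `P` fixing pointwise every proper `σ`-invariant subgroup. -/
structure MinAct {P : Type*} [Group P] (σ : MulAut P) : Prop where
  ne_one : σ ≠ 1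
  fix : ∀ H : Subgroup P, H ≠ ⊤ → (∀ x ∈ H, σ x ∈ H) → ∀ x ∈ H, σ x = x

section

variable {P : Type*} [Group P] {σ : MulAut P}

theorem exists_ne (h : MinAct σ) : ∃ x : P, σ x ≠ x := by
  by_contra hcon
  push Not at hcon
  exact h.ne_one (MulEquiv.ext hcon)

theorem nontrivial_of (h : MinAct σ) : Nontrivial P := by
  obtain ⟨x, hx⟩ := exists_ne h
  exact ⟨⟨_, _, hx⟩⟩

theorem pow_apply_of_fix {x d : P} (hx : σ x = x * d) (hd : σ d = d) (n : ℕ) : (σ ^ n) x = x * d ^ n := by
  induction n with
  | zero => simp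
  | succ n ih =>
    rw [pow_succ', MulAut.mul_apply, ih, map_mul, map_pow, hx, hd, pow_succ', mul_assoc]

/-- `[P, σ] = P`. -/
theorem closure_eq_top [Finite P] {p q : ℕ} [hp : Fact p.Prime] [hq : Fact q.Prime] (hpq : p ≠ q)
    (hP : IsPGroup p P) (h : MinAct σ) (hσ : σ ^ q = 1) :
    closure (Set.range fun x : P => x⁻¹ * σ x) = ⊤ := by
  by_contra hD
  have hinv : ∀ x ∈ closure (Set.range fun x : P => x⁻¹ * σ x), σ x ∈ closure (Set.range fun x : P => x⁻¹ * σ x) := by
    have h1 : closure (Set.range fun x : P => x⁻¹ * σ x) ≤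
        (closure (Set.range fun x : P => x⁻¹ * σ x)).comap (σ : P →* P) := by
      rw [closure_le]
      rintro _ ⟨x, rfl⟩
      apply Subgroup.subset_closure
      exact ⟨σ x, by simp⟩
    intro x hx
    exact h1 hx
  have hfix := h.fix _ hD hinv
  obtain ⟨x, hx⟩ := exists_ne h
  set d : P := x⁻¹ * σ x with hd
  have hdD : d ∈ closure (Set.range fun x : P => x⁻¹ * σ x) := Subgroup.subset_closure ⟨x, rfl⟩
  have hxd : σ x = x * d := by rw [hd, mul_inv_cancel_left]
  have h1 := pow_apply_of_fix hxd (hfix d hdD) q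
  rw [hσ, MulAut.one_apply] at h1
  have h2 : d ^ q = 1 := by
    have := h1.symm
    rwa [mul_eq_left] at this
  obtain ⟨k, hk⟩ := hP d
  have h3 : d = 1 := by
    have h4 : orderOf d ∣ 1 := by
      have hcop : (p ^ k).Coprime q := Nat.Coprime.pow_left k ((Nat.coprime_primes hp.out hq.out).2 hpq)
      rw [← hcop]
      exact Nat.dvd_gcd (orderOf_dvd_of_pow_eq_one hk) (orderOf_dvd_of_pow_eq_one h2)
    rwa [Nat.dvd_one, orderOf_eq_one_iff] at h4
  apply hx
  rw [hxd, h3, mul_one]

end

section

variable {P : Type*} [Group P] [Finite P] {σ : MulAut P} {p q : ℕ} [hp : Fact p.Prime] [hq : Fact q.Prime]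
  (hpq : p ≠ q) (hP : IsPGroup p P) (h : MinAct σ) (hσ : σ ^ q = 1)

include hpq hP h hσ

theorem eq_top_of_mem (H : Subgroup P) (hH : ∀ x : P, x⁻¹ * σ x ∈ H) : H = ⊤ := by
  rw [eq_top_iff, ← closure_eq_top hpq hP h hσ, closure_le]
  rintro _ ⟨x, rfl⟩
  exact hH x

/-- Normal proper `σ`-invariant subgroups are central. -/
theorem le_center_of (H : Subgroup P) (hn : H.Normal) (hH : H ≠ ⊤) (hinv : ∀ x ∈ H, σ x ∈ H) : H ≤ center P := by
  intro z hz
  have hfix := h.fix H hH hinv
  have h1 : centralizer ({z} : Set P) = ⊤ := by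
    apply eq_top_of_mem hpq hP h hσ
    intro x
    rw [mem_centralizer_iff]
    rintro y rfl
    have h2 : x * y * x⁻¹ ∈ H := hn.conj_mem y hz x
    have h3 := hfix _ h2
    rw [map_mul, map_mul, hfix y hz, map_inv] at h3
    calc y * (x⁻¹ * σ x) = x⁻¹ * (x * y * x⁻¹) * σ x := by group
      _ = x⁻¹ * (σ x * y * (σ x)⁻¹) * σ x := by rw [h3]
      _ = x⁻¹ * σ x * y := by group
  rw [mem_center_iff]
  intro g
  have h2 : g ∈ centralizer ({z} : Set P) := by rw [h1]; trivial
  exact ((mem_centralizer_iff.1 h2) z rfl).symm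

theorem frattini_ne_top : frattini P ≠ ⊤ := by
  have := nontrivial_of h
  intro h1
  obtain h2 | ⟨M, hM, -⟩ := eq_top_or_exists_le_coatom (⊥ : Subgroup P)
  · exact bot_ne_top h2
  · apply hM.1
    rw [eq_top_iff, ← h1]
    exact frattini_le_coatom hM

theorem frattini_le_center : frattini P ≤ center P := by
  have hchar : (frattini P).Characteristic := inferInstance
  apply le_center_of hpq hP h hσ _ inferInstance (frattini_ne_top hpq hP h hσ)
  intro x hx
  have := (characteristic_iff_comap_eq.1 hchar) σ
  rw [← this] at hx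
  exact hx

theorem commutator_mem_center (x y : P) : ⁅x, y⁆ ∈ center P :=
  frattini_le_center hpq hP h hσ (Lib.FrattiniPGroup.commutator_mem_frattini hP x y)

theorem pow_mem_center (x : P) : x ^ p ∈ center P :=
  frattini_le_center hpq hP h hσ (Lib.FrattiniPGroup.pow_mem_frattini hP x)

/-- A `σ`-invariant subgroup containing the centre and not central is everything. -/
theorem eq_top_of_inv (H : Subgroup P) (hZ : center P ≤ H) (hH : ¬ H ≤ center P) (hinv : ∀ x ∈ H, σ x ∈ H) :
    H = ⊤ := by
  by_contra hcon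
  apply hH
  apply le_center_of hpq hP h hσ H ?_ hcon hinv
  constructor
  intro n hn g
  have h1 : g * n * g⁻¹ = ⁅g, n⁆ * n := by rw [commutatorElement_def]; group
  rw [h1]
  exact mul_mem (hZ (commutator_mem_center hpq hP h hσ g n)) hn

/-- Fixed points are central. -/
theorem mem_center_of_fix {x : P} (hx : σ x = x) : x ∈ center P := by
  let C : Subgroup P :=
    { carrier := {y | σ y = y}
      one_mem' := map_one σ
      mul_mem' := by
        intro a b ha hb
        change σ (a * b) = a * b
        rw [map_mul, ha, hb]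
      inv_mem' := by
        intro a ha
        change σ a⁻¹ = a⁻¹
        rw [map_inv, ha] }
  have hchar : (frattini P).Characteristic := inferInstance
  have hinvF : ∀ y ∈ frattini P, σ y ∈ frattini P := by
    intro y hy
    have := (characteristic_iff_comap_eq.1 hchar) σ
    rw [← this] at hy
    exact hy
  have hle : C ⊔ frattini P ≤ center P := by
    apply le_center_of hpq hP h hσ
    · constructor
      intro n hn g
      have h1 : g * n * g⁻¹ = ⁅g, n⁆ * n := by rw [commutatorElement_def]; group
      rw [h1]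
      exact mul_mem (mem_sup_right (Lib.FrattiniPGroup.commutator_mem_frattini hP g n)) hn
    · intro htop
      have h2 : C = ⊤ := frattini_nongenerating htop
      apply h.ne_one
      ext y
      have : y ∈ C := by rw [h2]; trivial
      exact this
    · have h1 : C ⊔ frattini P ≤ (C ⊔ frattini P).comap (σ : P →* P) := by
        apply sup_le
        · intro y hy
          have : σ y = y := hy
          rw [mem_comap]
          change σ y ∈ _
          rw [this]
          exact mem_sup_left hy
        · intro y hy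
          exact mem_sup_right (hinvF y hy)
      intro y hy
      exact h1 hy
  exact hle (mem_sup_left hx)

/-- If `P` is not abelian, then `σ` fixes the centre. -/
theorem fix_of_mem_center (hna : ¬ ∀ x y : P, x * y = y * x) {x : P} (hx : x ∈ center P) : σ x = x := by
  apply h.fix (center P) ?_ ?_ x hx
  · intro h1
    apply hna
    intro x y
    have h2 : y ∈ center P := by rw [h1]; trivial
    exact mem_center_iff.1 h2 x
  · intro y hy
    have hchar : (center P).Characteristic := inferInstance
    have := (characteristic_iff_comap_eq.1 hchar) σ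
    rw [← this] at hy
    exact hy

/-- The fixed points of `σ` lie in any normal `σ`-invariant `N` modulo which `P` is abelian. -/
theorem mem_of_inv_mul_mem (N : Subgroup P) (hcomm : ∀ x y : P, ⁅x, y⁆ ∈ N) (hinv : ∀ x ∈ N, σ x ∈ N) {x : P}
    (hx : x⁻¹ * σ x ∈ N) : x ∈ N := by
  have hn : N.Normal := by
    constructor
    intro n hn g
    have h1 : g * n * g⁻¹ = ⁅g, n⁆ * n := by rw [commutatorElement_def]; group
    rw [h1]
    exact mul_mem (hcomm g n) hn
  have hab : ∀ a b : P ⧸ N, a * b = b * a := by
    intro a b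
    obtain ⟨a, rfl⟩ := QuotientGroup.mk'_surjective N a
    obtain ⟨b, rfl⟩ := QuotientGroup.mk'_surjective N b
    rw [← commutatorElement_eq_one_iff_mul_comm, ← map_commutatorElement]
    exact (QuotientGroup.eq_one_iff _).2 (hcomm a b)
  let δ : P →* P ⧸ N :=
    { toFun := fun y => QuotientGroup.mk' N (y⁻¹ * σ y)
      map_one' := by simp
      map_mul' := by
        intro a b
        rw [map_mul σ, ← map_mul (QuotientGroup.mk' N)]
        have h1 : (a * b)⁻¹ * (σ a * σ b) = b⁻¹ * (a⁻¹ * σ a) * b * (b⁻¹ * σ b) := by group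
        rw [h1]
        simp only [map_mul, map_inv]
        rw [hab ((QuotientGroup.mk' N b)⁻¹ * _) (QuotientGroup.mk' N b)]
        group }
  have hle : N ≤ δ.ker := by
    intro y hy
    exact (QuotientGroup.eq_one_iff _).2 (mul_mem (inv_mem hy) (hinv y hy))
  let δ' : P ⧸ N →* P ⧸ N := QuotientGroup.lift N δ hle
  have hsurj : Function.Surjective δ' := by
    rw [← MonoidHom.range_eq_top]
    have h1 : (δ'.range).comap (QuotientGroup.mk' N) = ⊤ := by
      apply eq_top_of_mem hpq hP h hσ
      intro y
      exact ⟨QuotientGroup.mk' N y, rfl⟩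
    have h2 := congrArg (map (QuotientGroup.mk' N)) h1
    rw [map_comap_eq_self_of_surjective (QuotientGroup.mk'_surjective N),
      map_top_of_surjective _ (QuotientGroup.mk'_surjective N)] at h2
    exact h2
  have hinj : Function.Injective δ' := Finite.injective_iff_surjective.2 hsurj
  have h1 : δ' (QuotientGroup.mk' N x) = δ' 1 := by
    rw [map_one]
    exact (QuotientGroup.eq_one_iff _).2 hx
  exact (QuotientGroup.eq_one_iff x).1 (hinj h1)

/-- If `P` is not abelian, the centre is the derived subgroup. -/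
theorem center_eq_commutator (hna : ¬ ∀ x y : P, x * y = y * x) : center P = commutator P := by
  apply le_antisymm
  · intro x hx
    apply mem_of_inv_mul_mem hpq hP h hσ (commutator P)
    · intro x y
      exact commutator_mem_commutator (mem_top x) (mem_top y)
    · intro y hy
      have hchar : (commutator P).Characteristic := inferInstance
      have := (characteristic_iff_comap_eq.1 hchar) σ
      rw [← this] at hy
      exact hy
    · rw [fix_of_mem_center hpq hP h hσ hna hx, inv_mul_cancel]
      exact one_mem _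
  · rw [commutator_def, commutator_le]
    intro x _ y _
    exact commutator_mem_center hpq hP h hσ x y

/-- If `P` is abelian, no nontrivial element is fixed by `σ`. -/
theorem eq_one_of_fix (hab : ∀ x y : P, x * y = y * x) {x : P} (hx : σ x = x) : x = 1 := by
  have := mem_of_inv_mul_mem hpq hP h hσ (⊥ : Subgroup P) (x := x)
    (by
      intro a b
      rw [mem_bot, commutatorElement_eq_one_iff_mul_comm]
      exact hab a b)
    (by
      intro y hy
      rw [mem_bot] at hy ⊢
      rw [hy, map_one])
    (by rw [hx, inv_mul_cancel]; exact one_mem _)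
  exact mem_bot.1 this

/-- If `P` is abelian, it is elementary abelian. -/
theorem pow_eq_one_of_comm (hab : ∀ x y : P, x * y = y * x) (x : P) : x ^ p = 1 := by
  have hF : frattini P = ⊥ := by
    rw [eq_bot_iff]
    intro y hy
    rw [mem_bot]
    apply eq_one_of_fix hpq hP h hσ hab
    apply h.fix (frattini P) (frattini_ne_top hpq hP h hσ) ?_ y hy
    intro z hz
    have hchar : (frattini P).Characteristic := inferInstance
    have := (characteristic_iff_comap_eq.1 hchar) σ
    rw [← this] at hz
    exact hz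
  have := Lib.FrattiniPGroup.pow_mem_frattini hP x
  rwa [hF, mem_bot] at this

/-- `y ↦ [x, y]` is a homomorphism. -/
noncomputable def commHom (x : P) : P →* P where
  toFun y := ⁅x, y⁆
  map_one' := by simp
  map_mul' := by
    intro y y'
    have h6 := mem_center_iff.1 (commutator_mem_center hpq hP h hσ x y') y
    calc ⁅x, y * y'⁆ = ⁅x, y⁆ * (y * ⁅x, y'⁆) * y⁻¹ := by
          simp only [commutatorElement_def]; group
      _ = ⁅x, y⁆ * ⁅x, y'⁆ := by rw [h6]; group

theorem comm_mul_right (x y y' : P) : ⁅x, y * y'⁆ = ⁅x, y⁆ * ⁅x, y'⁆ :=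
  map_mul (commHom hpq hP h hσ x) y y'

theorem comm_mul_left (x x' y : P) : ⁅x * x', y⁆ = ⁅x, y⁆ * ⁅x', y⁆ := by
  have h1 := comm_mul_right hpq hP h hσ y x x'
  have h2 : ⁅x * x', y⁆ = ⁅y, x * x'⁆⁻¹ := (commutatorElement_inv y (x * x')).symm
  rw [h2, h1, mul_inv_rev, commutatorElement_inv, commutatorElement_inv]
  exact (mem_center_iff.1 (commutator_mem_center hpq hP h hσ x' y) _).symm

theorem comm_inv_right (x y : P) : ⁅x, y⁻¹⁆ = ⁅x, y⁆⁻¹ :=
  map_inv (commHom hpq hP h hσ x) y

theorem comm_inv_left (x y : P) : ⁅x⁻¹, y⁆ = ⁅x, y⁆⁻¹ := by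
  rw [← commutatorElement_inv y x⁻¹, comm_inv_right hpq hP h hσ, commutatorElement_inv]

theorem comm_pow_right (x y : P) (n : ℕ) : ⁅x, y ^ n⁆ = ⁅x, y⁆ ^ n :=
  map_pow (commHom hpq hP h hσ x) y n

theorem comm_pow_eq_one (x y : P) : ⁅x, y⁆ ^ p = 1 := by
  rw [← comm_pow_right hpq hP h hσ, commutatorElement_eq_one_iff_mul_comm]
  exact mem_center_iff.1 (pow_mem_center hpq hP h hσ y) x

/-- If `P` is not abelian, the centre has exponent `p`. -/
theorem center_pow_eq_one (hna : ¬ ∀ x y : P, x * y = y * x) {z : P} (hz : z ∈ center P) : z ^ p = 1 := by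
  rw [center_eq_commutator hpq hP h hσ hna, commutator_eq_closure] at hz
  have hle : closure (commutatorSet P) ≤ center P := by
    rw [closure_le]
    rintro _ ⟨x, y, rfl⟩
    exact commutator_mem_center hpq hP h hσ x y
  induction hz using closure_induction with
  | mem x hx =>
    obtain ⟨a, b, rfl⟩ := hx
    exact comm_pow_eq_one hpq hP h hσ a b
  | one => exact one_pow p
  | mul x y hx hy ihx ihy =>
    have hc : Commute x y := mem_center_iff.1 (hle hy) x
    rw [hc.mul_pow, ihx, ihy, one_mul]
  | inv x hx ihx => rw [inv_pow, ihx, inv_one]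

/-- `[x, P] = Z(P)` for `x` not central. -/
theorem exists_comm_eq {x : P} (hx : x ∉ center P) {z : P} (hz : z ∈ center P) : ∃ y : P, ⁅x, y⁆ = z := by
  have hna : ¬ ∀ x y : P, x * y = y * x := by
    intro hab
    apply hx
    rw [mem_center_iff]
    intro g
    exact hab g x
  set K : Subgroup P := (commHom hpq hP h hσ x).range with hK
  let C₀ : Subgroup P :=
    { carrier := {c | ∀ y, ⁅c, y⁆ ∈ K}
      one_mem' := by
        intro y
        rw [commutatorElement_one_left]
        exact one_mem _
      mul_mem' := by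
        intro a b ha hb y
        rw [comm_mul_left hpq hP h hσ]
        exact mul_mem (ha y) (hb y)
      inv_mem' := by
        intro a ha y
        rw [comm_inv_left hpq hP h hσ]
        exact inv_mem (ha y) }
  have hKfix : ∀ c : P, ∀ y : P, σ ⁅c, y⁆ = ⁅c, y⁆ := fun c y =>
    fix_of_mem_center hpq hP h hσ hna (commutator_mem_center hpq hP h hσ c y)
  have htop : C₀ = ⊤ := by
    apply eq_top_of_inv hpq hP h hσ
    · intro c hc y
      rw [commutatorElement_eq_one_iff_mul_comm.2 ((mem_center_iff.1 hc) y).symm]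
      exact one_mem _
    · intro hle
      apply hx
      apply hle
      intro y
      exact ⟨y, rfl⟩
    · intro c hc y
      obtain ⟨y, rfl⟩ := σ.surjective y
      rw [← map_commutatorElement, hKfix]
      exact hc y
  have hle : commutator P ≤ K := by
    rw [commutator_def, commutator_le]
    intro a _ b _
    have : a ∈ C₀ := by rw [htop]; trivial
    exact this b
  rw [center_eq_commutator hpq hP h hσ hna] at hz
  obtain ⟨y, hy⟩ := hle hz
  exact ⟨y, hy⟩

/-- No element generates a `σ`-invariant subgroup modulo the centre, if `P` is not abelian. -/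
theorem not_mem_sup_zpowers (hna : ¬ ∀ x y : P, x * y = y * x) {x : P} (hx : x ∉ center P) :
    σ x ∉ center P ⊔ zpowers x := by
  intro hσx
  have htop : center P ⊔ zpowers x = ⊤ := by
    apply eq_top_of_inv hpq hP h hσ _ le_sup_left
    · intro hle
      exact hx (hle (mem_sup_right (mem_zpowers x)))
    · have h1 : center P ⊔ zpowers x ≤ (center P ⊔ zpowers x).comap (σ : P →* P) := by
        apply sup_le
        · intro y hy
          rw [mem_comap]
          change σ y ∈ _
          rw [fix_of_mem_center hpq hP h hσ hna hy]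
          exact mem_sup_left hy
        · rw [zpowers_le]
          exact hσx
      intro y hy
      exact h1 hy
  apply hna
  have key : ∀ y : P, ∃ z ∈ center P, ∃ k : ℤ, y = z * x ^ k := by
    intro y
    have hy : y ∈ center P ⊔ zpowers x := by rw [htop]; trivial
    rw [mem_sup_of_normal_left] at hy
    obtain ⟨z, hz, w, ⟨k, rfl⟩, rfl⟩ := hy
    exact ⟨z, hz, k, rfl⟩
  intro a b
  obtain ⟨z, hz, k, rfl⟩ := key a
  obtain ⟨w, hw, l, rfl⟩ := key b
  have h1 : Commute z (w * x ^ l) := ((mem_center_iff.1 hz) _).symm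
  have h2 : Commute (x ^ k) w := (mem_center_iff.1 hw) _
  have h3 : Commute (x ^ k) (x ^ l) := Commute.zpow_zpow_self x k l
  exact h1.mul_left (h2.mul_right h3)

/-- `|P| ≡ |Z(P)|` modulo `q`, if `P` is not abelian. -/
theorem card_modEq_center (hna : ¬ ∀ x y : P, x * y = y * x) : Nat.card P ≡ Nat.card (center P) [MOD q] := by
  classical
  let f : Function.End P := fun x => σ x
  have hf : ∀ n : ℕ, f ^ n = (fun x => (σ ^ n) x : Function.End P) := by
    intro n
    induction n with
    | zero => rfl
    | succ n ih =>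
      rw [pow_succ', ih, pow_succ']
      rfl
  have h1 : f ^ q ^ 1 = 1 := by
    rw [pow_one, hf, hσ]
    rfl
  have := Fintype.ofFinite P
  have h2 := Equiv.Perm.card_fixedPoints_modEq h1
  rw [Nat.card_eq_fintype_card]
  refine h2.trans ?_
  rw [← Nat.card_eq_fintype_card]
  have h3 : Function.fixedPoints f = (center P : Set P) := by
    ext x
    exact ⟨fun hx => mem_center_of_fix hpq hP h hσ hx, fun hx => fix_of_mem_center hpq hP h hσ hna hx⟩
  rw [h3]
  rfl

/-- For `p = 3` the centre does not have index nine. -/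
theorem index_ne_nine (hp3 : p = 3) (hna : ¬ ∀ x y : P, x * y = y * x) : (center P).index ≠ 9 := by
  intro hidx
  subst hp3
  have h1 := card_modEq_center hpq hP h hσ hna
  rw [← (center P).card_mul_index, hidx] at h1
  obtain ⟨n, hn⟩ := IsPGroup.iff_card.1 (hP.to_subgroup (center P))
  have hcop : (Nat.card (center P)).Coprime q := by
    rw [hn]
    exact Nat.Coprime.pow_left n ((Nat.coprime_primes hp.out hq.out).2 hpq)
  have h2 : 9 ≡ 1 [MOD q] := by
    apply Nat.ModEq.cancel_left_of_coprime (c := Nat.card (center P))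
    · rw [Nat.gcd_comm]; exact hcop
    · rw [mul_one]; exact h1
  have h3 : q ∣ 8 := (Nat.modEq_iff_dvd' (by norm_num)).1 h2.symm
  have h4 : q = 2 := by
    have h5 : q ∣ 2 ^ 3 := h3
    exact (Nat.prime_dvd_prime_iff_eq hq.out Nat.prime_two).1 (hq.out.dvd_of_dvd_pow h5)
  subst h4
  obtain ⟨x, hx⟩ : ∃ x : P, x ∉ center P := by
    by_contra hcon
    push Not at hcon
    apply hna
    intro x y
    exact mem_center_iff.1 (hcon y) x
  have hσσ : σ (σ x) = x := by
    have h5 : (σ ^ 2) x = x := by rw [hσ]; rfl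
    rw [pow_two] at h5
    exact h5
  have hw : x * σ x ∈ center P := by
    apply mem_of_inv_mul_mem hpq hP h hσ (center P)
    · intro a b; exact commutator_mem_center hpq hP h hσ a b
    · intro y hy; rw [fix_of_mem_center hpq hP h hσ hna hy]; exact hy
    · rw [map_mul, hσσ]
      have h5 : (x * σ x)⁻¹ * (σ x * x) = ⁅(σ x)⁻¹, x⁻¹⁆ := by
        rw [commutatorElement_def]; group
      rw [h5]
      exact commutator_mem_center hpq hP h hσ _ _
  apply not_mem_sup_zpowers hpq hP h hσ hna hx
  have h5 : σ x = (x * σ x) * x⁻¹ := by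
    rw [← (mem_center_iff.1 hw) x⁻¹, inv_mul_cancel_left]
  rw [h5]
  exact mul_mem (mem_sup_left hw) (mem_sup_right (inv_mem (mem_zpowers x)))

/-- For `p = 2` and `|P : Z(P)| = 4` no involution is noncentral. -/
theorem sq_ne_one (hp2 : p = 2) (hna : ¬ ∀ x y : P, x * y = y * x) (hidx : (center P).index = 4) (x : P)
    (hx : x ∉ center P) : x ^ 2 ≠ 1 := by
  intro hx2
  subst hp2
  set H : Subgroup P := center P ⊔ zpowers x with hH
  have hZH : center P ≤ H := le_sup_left
  have hxH : x ∈ H := mem_sup_right (mem_zpowers x)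
  have hyH : σ x ∉ H := not_mem_sup_zpowers hpq hP h hσ hna hx
  have hfixZ : ∀ z ∈ center P, σ z = z := fun z hz => fix_of_mem_center hpq hP h hσ hna hz
  have hZmem : ∀ w : P, w⁻¹ * σ w ∈ center P → w ∈ center P := fun w hw =>
    mem_of_inv_mul_mem hpq hP h hσ (center P) (fun a b => commutator_mem_center hpq hP h hσ a b)
      (fun y hy => by rw [hfixZ y hy]; exact hy) hw
  have hHidx : H.index = 2 := by
    have h1 : (center P).relIndex H * H.index = 4 := by rw [relIndex_mul_index hZH, hidx]
    have h2 : H.index ≠ 1 := by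
      intro h2
      apply hyH
      rw [index_eq_one.1 h2]; trivial
    have h3 : (center P).relIndex H ≠ 1 := by
      intro h3
      exact hx (relIndex_eq_one.1 h3 hxH)
    have h4 : H.index ∣ 4 := ⟨_, by rw [mul_comm]; exact h1.symm⟩
    have h5 : H.index ≤ 4 := Nat.le_of_dvd (by norm_num) h4
    interval_cases hi : H.index
    · omega
    · omega
    · rfl
    · omega
    · omega
  have hHel : ∀ a ∈ H, a ∈ center P ∨ x⁻¹ * a ∈ center P := by
    intro a ha
    rw [hH, mem_sup_of_normal_left] at ha
    obtain ⟨z, hz, w, ⟨k, rfl⟩, rfl⟩ := ha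
    obtain ⟨m, hm | hm⟩ := Int.even_or_odd' k
    · left
      have h1 : x ^ k = 1 := by
        rw [hm, zpow_mul]
        have : x ^ (2 : ℤ) = 1 := by exact_mod_cast hx2
        rw [this, one_zpow]
      change z * x ^ k ∈ _
      rw [h1, mul_one]; exact hz
    · right
      have h1 : x ^ k = x := by
        rw [hm, zpow_add, zpow_mul]
        have : x ^ (2 : ℤ) = 1 := by exact_mod_cast hx2
        rw [this, one_zpow, one_mul, zpow_one]
      change x⁻¹ * (z * x ^ k) ∈ _
      rw [h1, ← (mem_center_iff.1 hz) x, inv_mul_cancel_left]; exact hz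
  have hHc : ∀ a ∈ H, Commute x a := by
    intro a ha
    rcases hHel a ha with h1 | h1
    · exact mem_center_iff.1 h1 x
    · have h2 : Commute x (x⁻¹ * a) := mem_center_iff.1 h1 x
      have h3 : a = x * (x⁻¹ * a) := by group
      rw [h3]
      exact (Commute.refl x).mul_right h2
  have hσxZ : σ x ∉ center P := fun h1 => hyH (hZH h1)
  have hσσxZ : σ (σ x) ∉ center P := by
    intro h1
    apply hσxZ
    have h2 := σ.injective (hfixZ _ h1)
    rw [h2] at h1
    exact h1
  have hyy : ¬ x⁻¹ * σ (σ x) ∈ center P := by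
    intro h1
    apply hyH
    have h2 : x * σ x ∈ center P := by
      apply hZmem
      rw [map_mul]
      have h3 : (x * σ x)⁻¹ * (σ x * σ (σ x)) = ⁅(σ x)⁻¹, x⁻¹⁆ * (x⁻¹ * σ (σ x)) := by
        rw [commutatorElement_def]; group
      rw [h3]
      exact mul_mem (commutator_mem_center hpq hP h hσ _ _) h1
    have h3 : σ x = x⁻¹ * (x * σ x) := by group
    rw [h3]
    exact mul_mem (inv_mem hxH) (hZH h2)
  have hσσH : σ (σ x) ∉ H := by
    intro h1
    rcases hHel _ h1 with h2 | h2
    · exact hσσxZ h2
    · exact hyy h2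
  have hmem : (σ x)⁻¹ * σ (σ x) ∈ H := by
    rw [mul_mem_iff_of_index_two hHidx, inv_mem_iff]
    exact iff_of_false hyH hσσH
  have hz : x⁻¹ * ((σ x)⁻¹ * σ (σ x)) ∈ center P := by
    rcases hHel _ hmem with h1 | h1
    · exact absurd (hZmem _ h1) hσxZ
    · exact h1
  set z := x⁻¹ * ((σ x)⁻¹ * σ (σ x)) with hzdef
  have hσσ : σ (σ x) = σ x * x * z := by rw [hzdef]; group
  have hz2 : z ^ 2 = 1 := center_pow_eq_one hpq hP h hσ hna hz
  have hy2 : σ x ^ 2 = 1 := by rw [← map_pow, hx2, map_one]
  have hyy2 : (σ x * x) ^ 2 = 1 := by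
    have h1 : σ (σ x) ^ 2 = 1 := by rw [← map_pow, hy2, map_one]
    have hc : Commute (σ x * x) z := mem_center_iff.1 hz _
    rw [hσσ, hc.mul_pow, hz2, mul_one] at h1
    exact h1
  have hcomm : Commute x (σ x) := by
    have hxi : x⁻¹ = x := by
      rw [inv_eq_iff_mul_eq_one, ← pow_two]; exact hx2
    have hyi : (σ x)⁻¹ = σ x := by
      rw [inv_eq_iff_mul_eq_one, ← pow_two]; exact hy2
    have hxyi : (σ x * x)⁻¹ = σ x * x := by
      rw [inv_eq_iff_mul_eq_one, ← pow_two]; exact hyy2
    rw [mul_inv_rev, hxi, hyi] at hxyi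
    exact hxyi
  apply hx
  rw [mem_center_iff]
  intro g
  by_cases hg : g ∈ H
  · exact (hHc g hg).symm
  · have h1 : (σ x)⁻¹ * g ∈ H := by
      rw [mul_mem_iff_of_index_two hHidx, inv_mem_iff]
      exact iff_of_false hyH hg
    have h2 := hHc _ h1
    have h3 : g = σ x * ((σ x)⁻¹ * g) := by group
    have h4 : Commute x g := by
      rw [h3]
      exact hcomm.mul_right h2
    exact h4.symm

end

end Cfsg.Agent.H583.MinAction
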