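import Cfsg.Agent.H583.OdmM23Three
import Cfsg.Agent.H447.KRowM23
import Cfsg.Agent.H269.LQ.M23
import Cfsg.Agent.H453.OddM.Tools

/-!
# TEAM ODDM (S4785): orbits of a subgroup `R` of `M23` with `RO` on the 23 points (helper583)

* `odd_orbits` : the number of orbits of `R` on the 23 points is odd;
* `odd_unique` : at most one orbit has odd length (a Sylow 2-subgroup of `M23` fixes only one point);
* `exists_even_sets` : if `23 ∤ |R|` there are two disjoint nonempty invariant sets of even cardinality;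
* `not_five_seven` : if `23 ∤ |R|`, then `35 ∤ |R|`;
* `not_fifteen` : if `23 ∤ |R|`, then `R` has no element of order 15.
-/

set_option autoImplicit false

namespace Cfsg.Agent.H583.OdmM23

open Subgroup Cfsg MulAction
open Cfsg.Agent.H453.OddM Cfsg.Agent.H269.LQ.M23

theorem card_M23 : Nat.card Spor.M23 = 10200960 := Cfsg.Agent.SporadicA.MathieuRecog.card_M23

instance finite_M23 : Finite Spor.M23 := Nat.finite_of_card_ne_zero (by rw [card_M23]; norm_num)

/-! ### the number of orbits -/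

theorem odd_orbits {R : Subgroup Spor.M23} (hR : RO Spor.M23 R) :
    Odd (Nat.card (orbitRel.Quotient R Om)) := by
  obtain ⟨ω⟩ : Nonempty Om := (Nat.card_pos_iff.1 (by rw [card_Om]; norm_num)).1
  have h1 := hR.orb (stabilizer Spor.M23 ω)
  let e : (Spor.M23 ⧸ stabilizer Spor.M23 ω) ≃ Om := Equiv.ofBijective (ofQuotientStabilizer Spor.M23 ω)
    ⟨injective_ofQuotientStabilizer Spor.M23 ω, fun a => by
      obtain ⟨g, hg⟩ := trans_one ω a
      exact ⟨QuotientGroup.mk g, by rw [ofQuotientStabilizer_mk, hg]⟩⟩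
  have he : ∀ (g : Spor.M23) (a : Spor.M23 ⧸ stabilizer Spor.M23 ω), e (g • a) = g • e a :=
    fun g a => ofQuotientStabilizer_smul Spor.M23 ω g a
  have h2 : Nat.card (orbitRel.Quotient R (Spor.M23 ⧸ stabilizer Spor.M23 ω)) =
      Nat.card (orbitRel.Quotient R Om) := by
    refine Nat.card_congr (Quotient.congr e fun a b => ?_)
    rw [orbitRel_apply, orbitRel_apply]
    constructor
    · rintro ⟨r, rfl⟩
      exact ⟨r, (he r b).symm⟩
    · rintro ⟨r, hr⟩
      refine ⟨r, e.injective ?_⟩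
      exact (he r b).trans hr
  rw [← h2]
  exact h1

/-! ### two-point stabilizers -/

theorem card_fix_tri {s : Finset GolayPt} (hs : s.card = 3) :
    Nat.card (fixingSubgroup M24 (s : Set GolayPt)) = 20160 := by
  have hs' : (s : Set GolayPt).ncard = 3 := by rw [Set.ncard_coe_finset, hs]
  have h5 := S0366.result
  have h3 : IsMultiplyPretransitive M24 GolayPt 3 :=
    isMultiplyPretransitive_of_le (m := 3) (n := 5) (by norm_num) (by rw [H447.KRowM23.card_pt]; norm_num)
  have h1 := h3.index_of_fixingSubgroup_mul hs'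
  rw [H447.KRowM23.card_pt] at h1
  have h2 : (fixingSubgroup M24 (s : Set GolayPt)).index = 24 * 23 * 22 := by
    apply Nat.eq_of_mul_eq_mul_right (Nat.factorial_pos (24 - 3))
    rw [h1]
    decide +kernel
  have h4 := (fixingSubgroup M24 (s : Set GolayPt)).card_mul_index
  rw [h2, S0364.result] at h4
  omega

theorem card_two {x y : GolayPt} (hx : x ≠ none) (hy : y ≠ none) (hxy : x ≠ y) {Q : Subgroup Spor.M23}
    (hQ : ∀ q ∈ Q, (q : Equiv.Perm GolayPt) x = x ∧ (q : Equiv.Perm GolayPt) y = y) : Nat.card Q ∣ 20160 := by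
  classical
  have hs : ({none, x, y} : Finset GolayPt).card = 3 := by
    rw [Finset.card_insert_of_notMem, Finset.card_pair hxy]
    rw [Finset.mem_insert, Finset.mem_singleton, not_or]
    exact ⟨hx.symm, hy.symm⟩
  rw [← card_fix_tri hs]
  let f : Q →* fixingSubgroup M24 ((({none, x, y} : Finset GolayPt)) : Set GolayPt) :=
    (H729.PairMathieu.inc23.comp Q.subtype).codRestrict _ (fun q => by
      rw [mem_fixingSubgroup_iff]
      intro z hz
      rw [Finset.mem_coe, Finset.mem_insert, Finset.mem_insert, Finset.mem_singleton] at hz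
      rcases hz with rfl | rfl | rfl
      · exact (q : Spor.M23).2.2
      · exact (hQ q q.2).1
      · exact (hQ q q.2).2)
  refine Subgroup.card_dvd_of_injective f fun a b hab => ?_
  have h1 : H729.PairMathieu.inc23 (a : Spor.M23) = H729.PairMathieu.inc23 (b : Spor.M23) := congrArg Subtype.val hab
  exact Subtype.ext (H729.PairMathieu.inc23_injective h1)

/-! ### orbits of odd length -/

theorem odd_unique {R : Subgroup Spor.M23} (hR : RO Spor.M23 R) {x y : Om} (hx : Odd (Nat.card (orbit R x)))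
    (hy : Odd (Nat.card (orbit R y))) : orbit R x = orbit R y := by
  classical
  have h2 : Fact (Nat.Prime 2) := ⟨Nat.prime_two⟩
  have h7 : 2 ^ 7 ∣ Nat.card R := (hR.cov.two_part (k := 7)).1 (by rw [card_M23]; norm_num)
  obtain ⟨S⟩ : Nonempty (Sylow 2 R) := inferInstance
  have hS : 2 ^ 7 ∣ Nat.card S := by
    rw [S.card_eq_multiplicity]
    exact pow_dvd_pow 2 ((Nat.prime_two.pow_dvd_iff_le_factorization Nat.card_pos.ne').1 h7)
  have key : ∀ z : Om, Odd (Nat.card (orbit R z)) → ∃ w : Om, w ∈ orbit R z ∧ ∀ s ∈ S, s • w = w := by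
    intro z hz
    have h1 := S.isPGroup'.card_modEq_card_fixedPoints (orbit R z)
    have h3 : Nat.card (fixedPoints S (orbit R z)) ≠ 0 := by
      intro h0
      rw [h0] at h1
      exact (Nat.not_even_iff_odd.2 hz) (even_iff_two_dvd.2 (Nat.modEq_zero_iff_dvd.1 h1))
    obtain ⟨⟨w, hw⟩⟩ := (Nat.card_ne_zero.1 h3).1
    refine ⟨w.1, w.2, fun s hs => ?_⟩
    exact congrArg Subtype.val (hw ⟨s, hs⟩)
  obtain ⟨a, ha, hSa⟩ := key x hx
  obtain ⟨b, hb, hSb⟩ := key y hy
  have hab : a = b := by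
    by_contra hne
    have h1 : Nat.card ((S : Subgroup R).map R.subtype) ∣ 20160 := by
      refine card_two (x := a.1) (y := b.1) a.2 b.2 (fun h => hne (Subtype.ext h)) ?_
      rintro _ ⟨s, hs, rfl⟩
      exact ⟨congrArg Subtype.val (hSa s hs), congrArg Subtype.val (hSb s hs)⟩
    rw [Subgroup.card_map_of_injective R.subtype_injective] at h1
    have h3 := hS.trans h1
    norm_num at h3
  rw [← orbit_eq_iff.2 ha, ← orbit_eq_iff.2 hb, hab]

theorem exists_two_even {R : Subgroup Spor.M23} (hR : RO Spor.M23 R) (h23 : ¬ 23 ∣ Nat.card R) :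
    ∃ x y : Om, orbit R x ≠ orbit R y ∧ Even (Nat.card (orbit R x)) ∧ Even (Nat.card (orbit R y)) := by
  classical
  have hodd := odd_orbits hR
  have hfin : Fintype (orbitRel.Quotient R Om) := Fintype.ofFinite _
  rw [Nat.card_eq_fintype_card] at hodd
  have hne : ∀ a b : Om, (Quotient.mk'' a : orbitRel.Quotient R Om) ≠ Quotient.mk'' b → orbit R a ≠ orbit R b := by
    intro a b h1 h2
    apply h1
    rw [Quotient.eq'', orbitRel_apply]
    exact orbit_eq_iff.1 h2
  have h1 : Fintype.card (orbitRel.Quotient R Om) ≠ 1 := by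
    intro h1
    apply h23
    obtain ⟨ω⟩ : Nonempty Om := (Nat.card_pos_iff.1 (by rw [card_Om]; norm_num)).1
    have h2 : orbit R ω = Set.univ := by
      rw [Set.eq_univ_iff_forall]
      intro a
      have h3 := Fintype.card_le_one_iff.1 h1.le (Quotient.mk'' a) (Quotient.mk'' ω)
      rw [Quotient.eq'', orbitRel_apply] at h3
      exact h3
    have h3 : (stabilizer R ω).index = 23 := by
      rw [index_stabilizer, h2, Set.ncard_univ, card_Om]
    rw [← h3]
    exact Subgroup.index_dvd_card _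
  have h3 : 2 < Fintype.card (orbitRel.Quotient R Om) := by
    obtain ⟨k, hk⟩ := hodd
    omega
  obtain ⟨a, b, c, hab, hac, hbc⟩ := Fintype.two_lt_card_iff.1 h3
  induction a using Quotient.inductionOn' with | _ a =>
  induction b using Quotient.inductionOn' with | _ b =>
  induction c using Quotient.inductionOn' with | _ c =>
  have kab := hne a b hab
  have kac := hne a c hac
  have kbc := hne b c hbc
  by_cases ha : Odd (Nat.card (orbit R a))
  · refine ⟨b, c, kbc, ?_, ?_⟩
    · rw [← Nat.not_odd_iff_even]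
      exact fun h => kab (odd_unique hR ha h)
    · rw [← Nat.not_odd_iff_even]
      exact fun h => kac (odd_unique hR ha h)
  · rw [Nat.not_odd_iff_even] at ha
    by_cases hb : Odd (Nat.card (orbit R b))
    · refine ⟨a, c, kac, ha, ?_⟩
      rw [← Nat.not_odd_iff_even]
      exact fun h => kbc (odd_unique hR hb h)
    · exact ⟨a, b, kab, ha, Nat.not_odd_iff_even.1 hb⟩

/-- two disjoint nonempty invariant sets of even cardinality -/
structure Two (R : Subgroup Spor.M23) (A B : Finset GolayPt) : Prop where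
  disj : Disjoint A B
  noneA : none ∉ A
  noneB : none ∉ B
  neA : A.card ≠ 0
  neB : B.card ≠ 0
  evA : A.card % 2 = 0
  evB : B.card % 2 = 0
  invA : ∀ r ∈ R, ∀ a ∈ A, (r : Equiv.Perm GolayPt) a ∈ A
  invB : ∀ r ∈ R, ∀ b ∈ B, (r : Equiv.Perm GolayPt) b ∈ B

theorem exists_even_sets {R : Subgroup Spor.M23} (hR : RO Spor.M23 R) (h23 : ¬ 23 ∣ Nat.card R) :
    ∃ A B : Finset GolayPt, Two R A B := by
  classical
  obtain ⟨x, y, hxy, hx, hy⟩ := exists_two_even hR h23
  have hfinO : ∀ z : Om, (Subtype.val '' (orbit R z) : Set GolayPt).Finite := fun z => Set.toFinite _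
  let ob : Om → Finset GolayPt := fun z => (hfinO z).toFinset
  have hmem : ∀ (z : Om) (p : GolayPt), p ∈ ob z ↔ ∃ w ∈ orbit R z, w.1 = p := by
    intro z p
    rw [Set.Finite.mem_toFinset]
    rfl
  have hcard : ∀ z : Om, (ob z).card = Nat.card (orbit R z) := by
    intro z
    rw [← Set.ncard_eq_toFinset_card, Set.ncard_image_of_injective _ Subtype.val_injective, Nat.card_coe_set_eq]
  have hnone : ∀ z : Om, none ∉ ob z := by
    intro z h
    obtain ⟨w, -, hw⟩ := (hmem z none).1 h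
    exact w.2 hw
  have hne : ∀ z : Om, (ob z).card ≠ 0 := by
    intro z h
    rw [Finset.card_eq_zero] at h
    have h1 : z.1 ∈ ob z := (hmem z z.1).2 ⟨z, mem_orbit_self z, rfl⟩
    rw [h] at h1
    exact absurd h1 (Finset.notMem_empty _)
  have hinv : ∀ z : Om, ∀ r ∈ R, ∀ a ∈ ob z, (r : Equiv.Perm GolayPt) a ∈ ob z := by
    intro z r hr a ha
    obtain ⟨w, hw, rfl⟩ := (hmem z a).1 ha
    exact (hmem z _).2 ⟨r • w, mem_orbit_of_mem_orbit (⟨r, hr⟩ : R) hw, rfl⟩
  refine ⟨ob x, ob y, ⟨?_, hnone x, hnone y, hne x, hne y, ?_, ?_, hinv x, hinv y⟩⟩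
  · rw [Finset.disjoint_left]
    intro p hp hq
    obtain ⟨w, hw, rfl⟩ := (hmem x p).1 hp
    obtain ⟨w', hw', h⟩ := (hmem y _).1 hq
    have h1 : w' = w := Subtype.ext h
    rw [h1] at hw'
    exact hxy ((orbit_eq_iff.2 hw).symm.trans (orbit_eq_iff.2 hw'))
  · rw [hcard]; exact Nat.even_iff.1 hx
  · rw [hcard]; exact Nat.even_iff.1 hy

/-! ### counting fixed points -/

/-- the fixed points in a set -/
def fx (g : Equiv.Perm GolayPt) (A : Finset GolayPt) : Finset GolayPt := A.filter fun x => g x = x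

theorem mem_fx {g : Equiv.Perm GolayPt} {A : Finset GolayPt} {x : GolayPt} : x ∈ fx g A ↔ x ∈ A ∧ g x = x :=
  Finset.mem_filter

theorem Two.fx_le {R : Subgroup Spor.M23} {A B : Finset GolayPt} (h : Two R A B) {g : Equiv.Perm GolayPt}
    (hg : g none = none) : (fx g A).card + (fx g B).card + 1 ≤ (fx g Finset.univ).card := by
  have h1 : Disjoint (fx g A) (fx g B) :=
    Finset.disjoint_of_subset_left (Finset.filter_subset _ _)
      (Finset.disjoint_of_subset_right (Finset.filter_subset _ _) h.disj)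
  have h2 : none ∉ fx g A ∪ fx g B := by
    rw [Finset.mem_union, not_or]
    exact ⟨fun k => h.noneA (mem_fx.1 k).1, fun k => h.noneB (mem_fx.1 k).1⟩
  have h3 : insert none (fx g A ∪ fx g B) ⊆ fx g Finset.univ := by
    intro x hx
    rw [Finset.mem_insert, Finset.mem_union] at hx
    rw [mem_fx]
    rcases hx with rfl | hx | hx
    · exact ⟨Finset.mem_univ _, hg⟩
    · exact ⟨Finset.mem_univ _, (mem_fx.1 hx).2⟩
    · exact ⟨Finset.mem_univ _, (mem_fx.1 hx).2⟩
  have h4 := Finset.card_le_card h3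
  rwa [Finset.card_insert_of_notMem h2, Finset.card_union_of_disjoint h1] at h4

theorem Two.card_le {R : Subgroup Spor.M23} {A B : Finset GolayPt} (h : Two R A B) : A.card + B.card ≤ 23 := by
  have h1 := h.fx_le (g := 1) rfl
  have h2 : ∀ A : Finset GolayPt, fx 1 A = A := fun A => Finset.filter_true_of_mem fun _ _ => rfl
  rw [h2, h2, h2, Finset.card_univ] at h1
  have h3 : Fintype.card GolayPt = 24 := by rw [← Nat.card_eq_fintype_card, H447.KRowM23.card_pt]
  omega

theorem modEq_fx {g : Equiv.Perm GolayPt} {p : ℕ} (hp : p.Prime) (hg : orderOf g = p) {S : Finset GolayPt}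
    (hS : ∀ x ∈ S, g x ∈ S) : S.card % p = (fx g S).card % p := H447.KRowM23.card_modEq hp hg S hS

theorem fx_five {f : Spor.M23} (hf : orderOf f = 5) : (fx (f : Equiv.Perm GolayPt) Finset.univ).card = 4 := by
  have h1 : orderOf (f : Equiv.Perm GolayPt) = 5 := by rw [Subgroup.orderOf_coe, hf]
  have h2 := modEq_fx (p := 5) (by norm_num) h1 (S := Finset.univ) (fun _ _ => Finset.mem_univ _)
  have h3 := H447.KRowM23.fix_lt_five (g := (f : Equiv.Perm GolayPt)) f.2.1 (p := 5) (by norm_num) h1 (by norm_num)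
  have h4 : Fintype.card GolayPt = 24 := by rw [← Nat.card_eq_fintype_card, H447.KRowM23.card_pt]
  rw [Finset.card_univ, h4] at h2
  change (fx (f : Equiv.Perm GolayPt) Finset.univ).card < 5 at h3
  omega

theorem fx_seven {f : Spor.M23} (hf : orderOf f = 7) : (fx (f : Equiv.Perm GolayPt) Finset.univ).card = 3 := by
  have h1 : orderOf (f : Equiv.Perm GolayPt) = 7 := by rw [Subgroup.orderOf_coe, hf]
  have h2 := modEq_fx (p := 7) (by norm_num) h1 (S := Finset.univ) (fun _ _ => Finset.mem_univ _)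
  have h3 := H447.KRowM23.fix_lt_five (g := (f : Equiv.Perm GolayPt)) f.2.1 (p := 7) (by norm_num) h1 (by norm_num)
  have h4 : Fintype.card GolayPt = 24 := by rw [← Nat.card_eq_fintype_card, H447.KRowM23.card_pt]
  rw [Finset.card_univ, h4] at h2
  change (fx (f : Equiv.Perm GolayPt) Finset.univ).card < 5 at h3
  omega

/-- the combined lengths -/
theorem arith57 {s a b : ℕ} (h0 : s ≠ 0) (h2 : s % 2 = 0) (hs : s ≤ 23) (h5 : s % 5 = a % 5) (h7 : s % 7 = b % 7) :
    3 ≤ a + b := by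
  by_contra hlt
  have h1 : a = 0 ∧ b = 0 ∨ a = 0 ∧ b = 1 ∨ a = 0 ∧ b = 2 ∨ a = 1 ∧ b = 0 ∨ a = 1 ∧ b = 1 ∨ a = 2 ∧ b = 0 := by omega
  rcases h1 with ⟨rfl, rfl⟩ | ⟨rfl, rfl⟩ | ⟨rfl, rfl⟩ | ⟨rfl, rfl⟩ | ⟨rfl, rfl⟩ | ⟨rfl, rfl⟩ <;> omega

theorem not_five_seven {R : Subgroup Spor.M23} (hR : RO Spor.M23 R) (h23 : ¬ 23 ∣ Nat.card R)
    (h5 : 5 ∣ Nat.card R) (h7 : 7 ∣ Nat.card R) : False := by
  have h5' : Fact (Nat.Prime 5) := ⟨by norm_num⟩
  have h7' : Fact (Nat.Prime 7) := ⟨by norm_num⟩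
  obtain ⟨A, B, h⟩ := exists_even_sets hR h23
  obtain ⟨f, hf⟩ := exists_prime_orderOf_dvd_card' (G := R) 5 h5
  obtain ⟨s, hs⟩ := exists_prime_orderOf_dvd_card' (G := R) 7 h7
  rw [← Subgroup.orderOf_coe] at hf hs
  have hfp : orderOf ((f : Spor.M23) : Equiv.Perm GolayPt) = 5 := by rw [Subgroup.orderOf_coe, hf]
  have hsp : orderOf ((s : Spor.M23) : Equiv.Perm GolayPt) = 7 := by rw [Subgroup.orderOf_coe, hs]
  have e1 := h.fx_le (g := ((f : Spor.M23) : Equiv.Perm GolayPt)) (f : Spor.M23).2.2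
  have e2 := h.fx_le (g := ((s : Spor.M23) : Equiv.Perm GolayPt)) (s : Spor.M23).2.2
  rw [fx_five hf] at e1
  rw [fx_seven hs] at e2
  have hle := h.card_le
  have a1 := arith57 h.neA h.evA (by omega) (modEq_fx (by norm_num) hfp (h.invA f f.2))
    (modEq_fx (by norm_num) hsp (h.invA s s.2))
  have a2 := arith57 h.neB h.evB (by omega) (modEq_fx (by norm_num) hfp (h.invB f f.2))
    (modEq_fx (by norm_num) hsp (h.invB s s.2))
  omega

/-! ### elements of order 15 -/

theorem fx_comm {g h : Equiv.Perm GolayPt} (hgh : g * h = h * g) {S : Finset GolayPt} (hS : ∀ x ∈ S, g x ∈ S) :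
    ∀ x ∈ fx h S, g x ∈ fx h S := by
  intro x hx
  obtain ⟨h1, h2⟩ := mem_fx.1 hx
  refine mem_fx.2 ⟨hS x h1, ?_⟩
  have h3 := congrArg (fun k : Equiv.Perm GolayPt => k x) hgh
  change g (h x) = h (g x) at h3
  rw [← h3, h2]

/-- no common fixed points except `none` -/
theorem fx_common {f z : Spor.M23} (hf : orderOf f = 5) (hz : orderOf z = 3) (hfz : f * z = z * f) {x : GolayPt}
    (h1 : (f : Equiv.Perm GolayPt) x = x) (h2 : (z : Equiv.Perm GolayPt) x = x) : x = none := by
  have hfp : orderOf (f : Equiv.Perm GolayPt) = 5 := by rw [Subgroup.orderOf_coe, hf]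
  have hzp : orderOf (z : Equiv.Perm GolayPt) = 3 := by rw [Subgroup.orderOf_coe, hz]
  have hc : (f : Equiv.Perm GolayPt) * (z : Equiv.Perm GolayPt) = (z : Equiv.Perm GolayPt) * (f : Equiv.Perm GolayPt) :=
    congrArg Subtype.val hfz
  have e1 := modEq_fx (by norm_num) hzp (fx_comm (h := (f : Equiv.Perm GolayPt)) hc.symm (S := Finset.univ)
    (fun _ _ => Finset.mem_univ _))
  have e2 := modEq_fx (by norm_num) hfp (fx_comm (h := (z : Equiv.Perm GolayPt)) hc (S := Finset.univ)
    (fun _ _ => Finset.mem_univ _))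
  have e3 : fx (z : Equiv.Perm GolayPt) (fx (f : Equiv.Perm GolayPt) Finset.univ) =
      fx (f : Equiv.Perm GolayPt) (fx (z : Equiv.Perm GolayPt) Finset.univ) := by
    ext p
    rw [mem_fx, mem_fx, mem_fx, mem_fx]
    tauto
  have e4 : (fx (z : Equiv.Perm GolayPt) Finset.univ).card = 6 := card_fix_three hz
  have e5 := Finset.card_filter_le (fx (f : Equiv.Perm GolayPt) Finset.univ) (fun x => (z : Equiv.Perm GolayPt) x = x)
  change (fx (z : Equiv.Perm GolayPt) (fx (f : Equiv.Perm GolayPt) Finset.univ)).card ≤ _ at e5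
  rw [fx_five hf] at e1 e5
  rw [← e3, e4] at e2
  have e6 : (fx (z : Equiv.Perm GolayPt) (fx (f : Equiv.Perm GolayPt) Finset.univ)).card = 1 := by omega
  obtain ⟨w, hw⟩ := Finset.card_eq_one.1 e6
  have k1 : x ∈ fx (z : Equiv.Perm GolayPt) (fx (f : Equiv.Perm GolayPt) Finset.univ) :=
    mem_fx.2 ⟨mem_fx.2 ⟨Finset.mem_univ _, h1⟩, h2⟩
  have k2 : none ∈ fx (z : Equiv.Perm GolayPt) (fx (f : Equiv.Perm GolayPt) Finset.univ) :=
    mem_fx.2 ⟨mem_fx.2 ⟨Finset.mem_univ _, f.2.2⟩, z.2.2⟩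
  rw [hw, Finset.mem_singleton] at k1 k2
  rw [k1, k2]

/-- the lengths for an element of order 15 -/
theorem arith15 {s a b : ℕ} (h0 : s ≠ 0) (h2 : s % 2 = 0) (hs : s ≤ 23) (h5 : s % 5 = a % 5) (h3 : s % 3 = b % 3)
    (ha : a % 3 = 0) (hb : b % 5 = 0) (ha' : a ≤ 3) (hb' : b ≤ 5) : 20 ≤ s + 5 * a := by
  have h1 : (a = 0 ∨ a = 3) ∧ (b = 0 ∨ b = 5) := by omega
  obtain ⟨rfl | rfl, rfl | rfl⟩ := h1 <;> omega

theorem not_fifteen {R : Subgroup Spor.M23} (hR : RO Spor.M23 R) (h23 : ¬ 23 ∣ Nat.card R) {f z : Spor.M23}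
    (hfR : f ∈ R) (hzR : z ∈ R) (hf : orderOf f = 5) (hz : orderOf z = 3) (hfz : f * z = z * f) : False := by
  obtain ⟨A, B, h⟩ := exists_even_sets hR h23
  have hfp : orderOf (f : Equiv.Perm GolayPt) = 5 := by rw [Subgroup.orderOf_coe, hf]
  have hzp : orderOf (z : Equiv.Perm GolayPt) = 3 := by rw [Subgroup.orderOf_coe, hz]
  have hc : (f : Equiv.Perm GolayPt) * (z : Equiv.Perm GolayPt) = (z : Equiv.Perm GolayPt) * (f : Equiv.Perm GolayPt) :=
    congrArg Subtype.val hfz
  have e1 := h.fx_le (g := (f : Equiv.Perm GolayPt)) f.2.2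
  have e2 := h.fx_le (g := (z : Equiv.Perm GolayPt)) z.2.2
  have e4 : (fx (z : Equiv.Perm GolayPt) Finset.univ).card = 6 := card_fix_three hz
  rw [fx_five hf] at e1
  rw [e4] at e2
  have hle := h.card_le
  have key : ∀ S : Finset GolayPt, none ∉ S → (∀ r ∈ R, ∀ a ∈ S, (r : Equiv.Perm GolayPt) a ∈ S) →
      S.card % 5 = (fx (f : Equiv.Perm GolayPt) S).card % 5 ∧ S.card % 3 = (fx (z : Equiv.Perm GolayPt) S).card % 3 ∧
      (fx (f : Equiv.Perm GolayPt) S).card % 3 = 0 ∧ (fx (z : Equiv.Perm GolayPt) S).card % 5 = 0 := by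
    intro S hn hS
    refine ⟨modEq_fx (by norm_num) hfp (hS f hfR), modEq_fx (by norm_num) hzp (hS z hzR), ?_, ?_⟩
    · rw [modEq_fx (by norm_num) hzp (fx_comm (h := (f : Equiv.Perm GolayPt)) hc.symm (hS z hzR))]
      have h1 : fx (z : Equiv.Perm GolayPt) (fx (f : Equiv.Perm GolayPt) S) = ∅ := by
        rw [Finset.eq_empty_iff_forall_notMem]
        intro x hx
        obtain ⟨k1, k2⟩ := mem_fx.1 hx
        obtain ⟨k3, k4⟩ := mem_fx.1 k1
        exact hn (fx_common hf hz hfz k4 k2 ▸ k3)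
      rw [h1, Finset.card_empty]
    · rw [modEq_fx (by norm_num) hfp (fx_comm (h := (z : Equiv.Perm GolayPt)) hc (hS f hfR))]
      have h1 : fx (f : Equiv.Perm GolayPt) (fx (z : Equiv.Perm GolayPt) S) = ∅ := by
        rw [Finset.eq_empty_iff_forall_notMem]
        intro x hx
        obtain ⟨k1, k2⟩ := mem_fx.1 hx
        obtain ⟨k3, k4⟩ := mem_fx.1 k1
        exact hn (fx_common hf hz hfz k2 k4 ▸ k3)
      rw [h1, Finset.card_empty]
  obtain ⟨a1, a2, a3, a4⟩ := key A h.noneA h.invA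
  obtain ⟨b1, b2, b3, b4⟩ := key B h.noneB h.invB
  have c1 := arith15 h.neA h.evA (by omega) a1 a2 a3 a4 (by omega) (by omega)
  have c2 := arith15 h.neB h.evB (by omega) b1 b2 b3 b4 (by omega) (by omega)
  omega

end Cfsg.Agent.H583.OdmM23
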