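/-
`p`-groups whose proper quotient-commutator structure forces `p`-length one: if `G` is `p`-solvable and its Sylow
`p`-subgroup is abelian, or has class two with `x ^ p` central, `[x, P] = Z(P)` for every noncentral `x`, and (for
`p = 3`) `|P : Z(P)| ≠ 9`, (for `p = 2`) is not of index four over its centre with a noncentral involution, then `G` has
`p`-length at most one.
-/
import Mathlib
import Cfsg.Prelude.Def_Local
import Cfsg.Prelude.Def_Transfer
import Cfsg.Prelude.Def_PLocal
import Cfsg.Agent.Lib.Cores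
import Cfsg.Agent.Lib.PSolvable
import Cfsg.Agent.Lib.FrattiniPGroup
import Cfsg.Agent.PLocal.SectionFrattini
import Cfsg.Agent.OddOrderLocal.Thm36Aux
import Cfsg.Agent.S0625
import Cfsg.Agent.H583.PLenCore

set_option autoImplicit false

namespace Cfsg.Agent.H583.PLenGood

open Subgroup Cfsg
open scoped commutatorElement

/-- The condition on the Sylow `p`-subgroup. -/
def Good (p : ℕ) (P : Type*) [Group P] : Prop :=
  (∀ x y : P, x * y = y * x) ∨
  ((∀ x y : P, ⁅x, y⁆ ∈ center P) ∧ (∀ x : P, x ^ p ∈ center P) ∧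
   (∀ x : P, x ∉ center P → ∀ z ∈ center P, ∃ y : P, ⁅x, y⁆ = z) ∧
   (p = 3 → (center P).index ≠ 9) ∧
   (p = 2 → (center P).index = 4 → ∀ x : P, x ∉ center P → x ^ 2 ≠ 1))

theorem mem_center_map {P P' : Type*} [Group P] [Group P'] (e : P ≃* P') (x : P) :
    e x ∈ center P' ↔ x ∈ center P := by
  rw [mem_center_iff, mem_center_iff]
  constructor
  · intro h y
    apply e.injective
    rw [map_mul, map_mul]
    exact h (e y)
  · intro h y
    obtain ⟨y, rfl⟩ := e.surjective y
    rw [← map_mul, ← map_mul, h y]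

theorem index_center_congr {P P' : Type*} [Group P] [Group P'] (e : P ≃* P') :
    (center P').index = (center P).index := by
  have h : (center P').comap e.toMonoidHom = center P := by
    ext x
    exact mem_center_map e x
  rw [← h]
  exact (index_comap_of_surjective (center P') e.surjective).symm

theorem good_congr {p : ℕ} {P P' : Type*} [Group P] [Group P'] (e : P ≃* P') (h : Good p P) : Good p P' := by
  rcases h with h | ⟨h1, h2, h3, h4, h5⟩
  · left
    intro x y
    obtain ⟨x, rfl⟩ := e.surjective x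
    obtain ⟨y, rfl⟩ := e.surjective y
    rw [← map_mul, ← map_mul, h]
  · right
    refine ⟨?_, ?_, ?_, ?_, ?_⟩
    · intro x y
      obtain ⟨x, rfl⟩ := e.surjective x
      obtain ⟨y, rfl⟩ := e.surjective y
      rw [← map_commutatorElement, mem_center_map]
      exact h1 x y
    · intro x
      obtain ⟨x, rfl⟩ := e.surjective x
      rw [← map_pow, mem_center_map]
      exact h2 x
    · intro x hx z hz
      obtain ⟨x, rfl⟩ := e.surjective x
      obtain ⟨z, rfl⟩ := e.surjective z
      rw [mem_center_map] at hx hz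
      obtain ⟨y, hy⟩ := h3 x hx z hz
      exact ⟨e y, by rw [← map_commutatorElement, hy]⟩
    · intro hp
      rw [index_center_congr e]
      exact h4 hp
    · intro hp hi x hx
      rw [index_center_congr e] at hi
      obtain ⟨x, rfl⟩ := e.surjective x
      rw [mem_center_map] at hx
      rw [← map_pow]
      intro h
      apply h5 hp hi x hx
      apply e.injective
      rw [h, map_one]

/-- If `O_{p'}(G) = 1` and the Sylow `p`-subgroup is good, it is contained in `O_p(G)`. -/
theorem le_pCore {G : Type*} [Group G] [Finite G] {p : ℕ} [hpf : Fact p.Prime] (hG : IsPSolvable p G)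
    (h0 : pPrimeCore p G = ⊥) (Q : Sylow p G) (hQ : Good p Q) : (Q : Subgroup G) ≤ pCore p G := by
  have hp := hpf.out
  set N : Subgroup G := pCore p G with hN
  have hNn : N.Normal := Lib.Cores.pCore_normal p
  have hNp : IsPGroup p N := Lib.Cores.pCore_isPGroup p
  have hNQ : N ≤ (Q : Subgroup G) := Lib.Cores.pCore_le_sylow Q
  have hC : centralizer (N : Set G) ≤ N := Lib.PSolvable.centralizer_pCore_le_of_pSolvable p hG h0
  rcases hQ with hab | ⟨h1, h2, h3, h4, h5⟩
  · refine le_trans ?_ hC
    intro x hx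
    rw [mem_centralizer_iff]
    intro y hy
    exact congrArg Subtype.val (hab ⟨y, hNQ hy⟩ ⟨x, hx⟩)
  by_contra hQN
  set Z : Subgroup G := (center (Q : Subgroup G)).map (Q : Subgroup G).subtype with hZ
  have hZmem : ∀ x (hx : x ∈ (Q : Subgroup G)), x ∈ Z ↔ (⟨x, hx⟩ : (Q : Subgroup G)) ∈ center (Q : Subgroup G) := by
    intro x hx
    constructor
    · rintro ⟨y, hy, hyx⟩
      have : y = ⟨x, hx⟩ := Subtype.ext hyx
      rw [← this]; exact hy
    · intro h
      exact ⟨_, h, rfl⟩
  have hZQ : Z ≤ (Q : Subgroup G) := map_subtype_le _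
  have hZc : ∀ z ∈ Z, ∀ x ∈ (Q : Subgroup G), z * x = x * z := by
    intro z hz x hx
    have h := (hZmem z (hZQ hz)).1 hz
    exact (congrArg Subtype.val (mem_center_iff.1 h ⟨x, hx⟩)).symm
  have hZN : Z ≤ N := by
    refine le_trans ?_ hC
    intro z hz
    rw [mem_centralizer_iff]
    intro y hy
    exact (hZc z hz y (hNQ hy)).symm
  have h1' : ∀ x ∈ (Q : Subgroup G), ∀ y ∈ (Q : Subgroup G), ⁅x, y⁆ ∈ Z := by
    intro x hx y hy
    exact ⟨_, h1 ⟨x, hx⟩ ⟨y, hy⟩, rfl⟩
  have h2' : ∀ x ∈ (Q : Subgroup G), x ^ p ∈ Z := by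
    intro x hx
    exact ⟨_, h2 ⟨x, hx⟩, rfl⟩
  have h3' : ∀ x ∈ (Q : Subgroup G), x ∉ Z → ∀ z ∈ Z, ∃ y ∈ (Q : Subgroup G), ⁅x, y⁆ = z := by
    intro x hx hxZ z hz
    obtain ⟨y, hy⟩ := h3 ⟨x, hx⟩ (fun h => hxZ ((hZmem x hx).2 h)) ⟨z, hZQ hz⟩ ((hZmem z (hZQ hz)).1 hz)
    exact ⟨y, y.2, congrArg Subtype.val hy⟩
  set F : Subgroup G := (frattini N).map N.subtype with hF
  have hFn : F.Normal := by rw [hF]; infer_instance
  have hFN : F ≤ N := map_subtype_le _
  have hkerp : IsPGroup p (sectionKernel N F) :=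
    PLocal.SectionFrattini.isPGroup_sectionKernel_frattini N hNp hC
  have hkern : (sectionKernel N F).Normal := by
    have : (N.map (QuotientGroup.mk' F)).Normal := hNn.map _ (QuotientGroup.mk'_surjective F)
    have h6 : (centralizer ((N.map (QuotientGroup.mk' F) : Subgroup (G ⧸ F)) : Set (G ⧸ F))).Normal :=
      inferInstance
    exact h6.comap _
  have hkerN : sectionKernel N F ≤ N := Lib.Cores.le_pCore hkern hkerp
  have hZF : ¬ Z ≤ F := by
    intro h
    apply hQN
    refine le_trans ?_ hkerN
    intro x hx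
    rw [PLocal.SectionFrattini.mem_sectionKernel]
    intro k hk
    exact h (h1' k (hNQ hk) x hx)
  have hFZ : F ≤ Z := by
    have hZn : (Z.subgroupOf N).Normal := by
      constructor
      intro z hz g
      rw [mem_subgroupOf] at hz ⊢
      have := hZc z hz g (hNQ g.2)
      have h6 : ((g * z * g⁻¹ : N) : G) = z := by
        change (g : G) * z * (g : G)⁻¹ = z
        rw [← this, mul_inv_cancel_right]
      rw [h6]; exact hz
    have h6 : frattini N ≤ Z.subgroupOf N := by
      apply Lib.FrattiniPGroup.frattini_le (p := p)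
      · intro x y
        exact h1' x (hNQ x.2) y (hNQ y.2)
      · intro x
        exact h2' x (hNQ x.2)
    rw [hF, map_le_iff_le_comap]
    exact h6
  -- pass to `G / F`
  let π : G →* G ⧸ F := QuotientGroup.mk' F
  have hπ : Function.Surjective π := QuotientGroup.mk'_surjective F
  have hπ1 : ∀ x, π x = 1 ↔ x ∈ F := fun x => QuotientGroup.eq_one_iff x
  have hker : π.ker = F := QuotientGroup.ker_mk' F
  have hFp : IsPGroup p F := hNp.to_le hFN
  set N' : Subgroup (G ⧸ F) := pCore p (G ⧸ F) with hN'
  have hN'n : N'.Normal := Lib.Cores.pCore_normal p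
  have hcomapN : N'.comap π = N := Lib.Cores.comap_mk_pCore p hFp
  have hN'map : N' = N.map π := by
    rw [← hcomapN, map_comap_eq_self_of_surjective hπ]
  have hmemN' : ∀ x, π x ∈ N' ↔ x ∈ N := by
    intro x
    rw [← mem_comap, hcomapN]
  have hmemZ' : ∀ x, π x ∈ Z.map π ↔ x ∈ Z := by
    intro x
    have h6 : (Z.map π).comap π = Z := by
      rw [comap_map_eq, hker, sup_eq_left]; exact hFZ
    rw [← mem_comap, h6]
  have hcore := PLenCore.core (G := G ⧸ F) (p := p) N' ?_ ?_ ((Q : Subgroup G).map π)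
    (Q.isPGroup'.map π) ?_ (Z.map π) ?_ ?_ ?_ ?_ ?_ ?_ (Lib.PSolvable.IsPSolvable_of_surjective p hG π hπ)
    (Lib.Cores.pCore_quotient_pCore p) ?_
  rotate_left
  · -- N' abelian
    rintro x hx y hy
    rw [hN'map] at hx hy
    obtain ⟨x, hx, rfl⟩ := hx
    obtain ⟨y, hy, rfl⟩ := hy
    rw [← commutatorElement_eq_one_iff_mul_comm, ← map_commutatorElement, hπ1]
    exact ⟨⁅⟨x, hx⟩, ⟨y, hy⟩⁆, Lib.FrattiniPGroup.commutator_mem_frattini hNp _ _, rfl⟩
  · -- centralizer
    intro x hx
    obtain ⟨x, rfl⟩ := hπ x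
    rw [hmemN']
    apply hkerN
    change π x ∈ centralizer ((N.map π : Subgroup (G ⧸ F)) : Set (G ⧸ F))
    rw [← hN'map]
    exact hx
  · rw [hN'map]; exact map_mono hNQ
  · rw [hN'map]; exact map_mono hZN
  · rintro _ ⟨z, hz, rfl⟩ _ ⟨x, hx, rfl⟩
    rw [← map_mul, ← map_mul, hZc z hz x hx]
  · rintro _ ⟨x, hx, rfl⟩ _ ⟨y, hy, rfl⟩
    rw [← map_commutatorElement]
    exact ⟨_, h1' x hx y hy, rfl⟩
  · rintro _ ⟨x, hx, rfl⟩
    rw [← map_pow, hmemN']
    exact hZN (h2' x hx)
  · intro x hx hxZ z hz
    obtain ⟨x, rfl⟩ := hπ x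
    rw [hmemN'] at hx
    rw [hmemZ'] at hxZ
    obtain ⟨z, hz, rfl⟩ := hz
    obtain ⟨y, hy, hyz⟩ := h3' x (hNQ hx) hxZ z hz
    exact ⟨π y, ⟨y, hy, rfl⟩, by rw [← map_commutatorElement, hyz]⟩
  · intro h
    apply hZF
    intro z hz
    rw [← hπ1, ← mem_bot, ← h]
    exact ⟨z, hz, rfl⟩
  · intro h
    apply hQN
    intro x hx
    rw [← hmemN']
    exact h ⟨x, hx, rfl⟩
  obtain ⟨hc1, hc2, hc3⟩ := hcore
  have hrel1 : N.relIndex Q = p := by
    rw [← hcomapN, relIndex_comap]
    exact hc2
  have hrel2 : Z.relIndex N ∣ p := by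
    have h6 : (Z.map π).comap π = Z := by
      rw [comap_map_eq, hker, sup_eq_left]; exact hFZ
    rw [← h6, relIndex_comap, ← hN'map]
    exact hc3
  have hidx : Z.relIndex Q = Z.relIndex N * p := by
    have h6 := (relIndex_mul_relIndex Z N Q hZN hNQ).symm
    rwa [hrel1] at h6
  have hZidx : Z.relIndex Q = (center (Q : Subgroup G)).index := by
    have : Z.subgroupOf Q = center (Q : Subgroup G) := by
      ext x
      rw [mem_subgroupOf]
      exact hZmem x x.2
    rw [relIndex, this]
  have hnab : (center (Q : Subgroup G)).index ≠ p := by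
    intro h
    have hcyc : IsCyclic ((Q : Subgroup G) ⧸ center (Q : Subgroup G)) := by
      apply isCyclic_of_prime_card (p := p)
      rw [← index_eq_card]; exact h
    apply hQN
    refine le_trans ?_ hC
    intro x hx
    rw [mem_centralizer_iff]
    intro y hy
    have := commutative_of_cyclic_center_quotient (QuotientGroup.mk' (center (Q : Subgroup G)))
      (by rw [QuotientGroup.ker_mk']) ⟨y, hNQ hy⟩ ⟨x, hx⟩
    exact congrArg Subtype.val this
  have hrel3 : Z.relIndex N = p := by
    rcases (Nat.dvd_prime hp).1 hrel2 with h | h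
    · exfalso
      apply hnab
      rw [← hZidx, hidx, h, one_mul]
    · exact h
  have hidx2 : (center (Q : Subgroup G)).index = p * p := by
    rw [← hZidx, hidx, hrel3]
  -- the cases `p ≥ 5`, `p = 3`, `p = 2`
  by_cases hp5 : 5 ≤ p
  · apply hQN
    intro a ha
    have hst := (S0625.result hp5 hG).2.1
    refine PLocal.SectionFrattini.mem_pCore_of_quadratic N hNp hC hst ?_
    have h6 : ⁅N, zpowers a⁆ ≤ Z := by
      rw [commutator_le]
      intro x hx y hy
      exact h1' x (hNQ hx) y ((zpowers_le.2 ha) hy)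
    refine (commutator_mono h6 (zpowers_le.2 ha)).trans ?_
    rw [commutator_le]
    intro x hx y hy
    rw [commutatorElement_eq_one_iff_mul_comm.2 (hZc x hx y hy)]
    exact one_mem _
  · have h23 : p = 2 ∨ p = 3 := by
      have h6 := hp.two_le
      have h7 : p ≠ 4 := by rintro rfl; exact absurd hp (by decide)
      omega
    rcases h23 with rfl | rfl
    · obtain ⟨x, hxN, hxZ⟩ : ∃ x ∈ N, x ∉ Z := by
        by_contra hcon
        push Not at hcon
        have : Z.relIndex N = 1 := relIndex_eq_one.2 hcon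
        omega
      have hxQ := hNQ hxN
      set x' : (Q : Subgroup G) := ⟨x, hxQ⟩ with hx'
      let φ : (Q : Subgroup G) →* (Q : Subgroup G) :=
        { toFun := fun y => ⁅x', y⁆
          map_one' := by simp
          map_mul' := by
            intro y y'
            have h6 := mem_center_iff.1 (h1 x' y') y
            calc ⁅x', y * y'⁆ = ⁅x', y⁆ * (y * ⁅x', y'⁆) * y⁻¹ := by
                  simp only [commutatorElement_def]; group
              _ = ⁅x', y⁆ * ⁅x', y'⁆ := by rw [h6]; group }
      have hrange : φ.range = center (Q : Subgroup G) := by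
        apply le_antisymm
        · rintro _ ⟨y, rfl⟩
          exact h1 x' y
        · intro z hz
          obtain ⟨y, hyz⟩ := h3 x' (fun h => hxZ ((hZmem x hxQ).2 h)) z hz
          exact ⟨y, hyz⟩
      have hcl : center (Q : Subgroup G) ≤ φ.ker := by
        intro z hz
        exact commutatorElement_eq_one_iff_mul_comm.2 (mem_center_iff.1 hz x')
      have hxker : x' ∈ φ.ker := commutatorElement_self x'
      have hcard := index_ker φ
      rw [hrange] at hcard
      have h7 : (center (Q : Subgroup G)).relIndex φ.ker * φ.ker.index = 2 * 2 := by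
        rw [relIndex_mul_index hcl, hidx2]
      have h8 : (center (Q : Subgroup G)).relIndex φ.ker ≠ 1 := by
        intro h
        apply hxZ
        exact (hZmem x hxQ).2 (relIndex_eq_one.1 h hxker)
      have h9 : Nat.card (center (Q : Subgroup G)) ≤ 2 := by
        rw [← hcard]
        by_contra hcon
        push Not at hcon
        have h10 : (center (Q : Subgroup G)).relIndex φ.ker ≠ 0 := by
          intro h; rw [h] at h7; omega
        have h11 : 2 ≤ (center (Q : Subgroup G)).relIndex φ.ker := by omega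
        have h12 : 2 * 3 ≤ (center (Q : Subgroup G)).relIndex φ.ker * φ.ker.index :=
          Nat.mul_le_mul h11 hcon
        omega
      have hcardZ : Nat.card Z = Nat.card (center (Q : Subgroup G)) :=
        (Nat.card_congr ((center (Q : Subgroup G)).equivMapOfInjective _
          (Q : Subgroup G).subtype_injective).toEquiv).symm
      have hFbot : F = ⊥ := by
        have h10 : Nat.card (Z.map π) * Nat.card F = Nat.card Z := by
          have h11 := relIndex_ker Z π
          rw [hker] at h11
          have h12 : F.relIndex Z * Nat.card F = Nat.card Z := by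
            rw [mul_comm, ← Nat.card_congr (subgroupOfEquivOfLe hFZ).toEquiv]
            exact (F.subgroupOf Z).card_mul_index
          rw [← h11]; exact h12
        rw [hc1, hcardZ] at h10
        have h13 : 0 < Nat.card F := Nat.card_pos
        apply Subgroup.card_eq_one.1
        omega
      apply h5 rfl (by rw [hidx2]) x' (fun h => hxZ ((hZmem x hxQ).2 h))
      have h14 : (⟨x, hxN⟩ : N) ^ 2 ∈ frattini N := Lib.FrattiniPGroup.pow_mem_frattini hNp _
      have h15 : x ^ 2 ∈ F := ⟨_, h14, rfl⟩
      rw [hFbot, mem_bot] at h15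
      exact Subtype.ext h15
    · exact h4 rfl (by rw [hidx2])

theorem pLengthLE_one {G : Type*} [Group G] [Finite G] {p : ℕ} [hpf : Fact p.Prime] (hG : IsPSolvable p G)
    (Q : Sylow p G) (hQ : Good p Q) : PLengthLE p 1 G := by
  have hKn : (pPrimeCore p G).Normal := Lib.Cores.pPrimeCore_normal p
  have hKc := Lib.Cores.pPrimeCore_coprime (G := G) p
  set π := QuotientGroup.mk' (pPrimeCore p G) with hπdef
  have hπ : Function.Surjective π := QuotientGroup.mk'_surjective _
  have hker : π.ker = pPrimeCore p G := QuotientGroup.ker_mk' _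
  apply OddOrderLocal.Thm36Aux.pLength_of_surjective π hπ (by rw [hker]; exact hKc)
  have hinj : Function.Injective (π.domRestrict (Q : Subgroup G)) := by
    rw [injective_iff_map_eq_one]
    intro x hx
    have h1 : (x : G) ∈ pPrimeCore p G := by
      rw [← hker]; exact hx
    have h2 : (Q : Subgroup G) ⊓ pPrimeCore p G = ⊥ := by
      apply Disjoint.eq_bot
      apply Subgroup.disjoint_of_coprime_natCard
      obtain ⟨n, hn⟩ := IsPGroup.iff_card.1 Q.isPGroup'
      rw [hn]
      exact Nat.Coprime.pow_left n hKc.symm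
    have h3 : (x : G) ∈ (Q : Subgroup G) ⊓ pPrimeCore p G := ⟨x.2, h1⟩
    rw [h2, mem_bot] at h3
    exact Subtype.ext h3
  let Q' : Sylow p (G ⧸ pPrimeCore p G) := Q.mapSurjective hπ
  have hQ'c : (Q' : Subgroup (G ⧸ pPrimeCore p G)) = (Q : Subgroup G).map π := Sylow.coe_mapSurjective hπ Q
  have e : (Q : Subgroup G) ≃* (Q' : Subgroup (G ⧸ pPrimeCore p G)) := by
    rw [hQ'c]
    have hr : (π.domRestrict (Q : Subgroup G)).range = (Q : Subgroup G).map π := MonoidHom.domRestrict_range _ _
    exact (MonoidHom.ofInjective hinj).trans (MulEquiv.subgroupCongr hr)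
  have hle := le_pCore (Lib.PSolvable.IsPSolvable_of_surjective p hG π hπ)
    (Lib.Cores.pPrimeCore_quotient_pPrimeCore p) Q' (good_congr e hQ)
  have hQ'n := Q'.not_dvd_index
  apply OddOrderLocal.Thm36Aux.pLength_of_normal_pgroup (pCore p (G ⧸ pPrimeCore p G))
    (Lib.Cores.pCore_normal p) (Lib.Cores.pCore_isPGroup p)
  rw [Nat.coprime_comm, Nat.Prime.coprime_iff_not_dvd hpf.out]
  intro h
  exact hQ'n (h.trans (index_dvd_of_le hle))

end Cfsg.Agent.H583.PLenGood
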