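/-
The action of a cyclic Sylow subgroup on the normal Sylow `p`-subgroup of a minimal non-nilpotent group.
-/
import Mathlib
import Cfsg.Prelude.Def_SolvableStructure
import Cfsg.Agent.S0536
import Cfsg.Agent.S0577
import Cfsg.Agent.H583.MinAction

set_option autoImplicit false

namespace Cfsg.Agent.H583.SchmidtAct

open Subgroup
open scoped commutatorElement
open Cfsg.Agent.H583.MinAction

theorem commute_of_le {X : Type*} [Group X] {K : Subgroup X} (hK : Group.IsNilpotent K) {a b : X} (ha : a ∈ K)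
    (hb : b ∈ K) (hab : (orderOf a).Coprime (orderOf b)) : Commute a b := by
  have h1 := S0577.commute_of_coprime_orderOf (⟨a, ha⟩ : K) ⟨b, hb⟩ (by
    rw [Subgroup.orderOf_mk, Subgroup.orderOf_mk]; exact hab)
  exact congrArg Subtype.val h1

/-- A finite group with a normal `p`-subgroup `P` centralized by a nilpotent subgroup `K` with `P ⊔ K = G` is
nilpotent. -/
theorem isNilpotent_of_sup {X : Type*} [Group X] {P K : Subgroup X} (hP : Group.IsNilpotent P)
    (hK : Group.IsNilpotent K) (hc : ∀ x ∈ P, ∀ y ∈ K, Commute x y) (hsup : P ⊔ K = ⊤) : Group.IsNilpotent X := by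
  let f : P × K →* X := MonoidHom.noncommCoprod P.subtype K.subtype (fun x y => hc x x.2 y y.2)
  refine Group.nilpotent_of_surjective f ?_
  rw [← MonoidHom.range_eq_top, eq_top_iff, ← hsup]
  apply sup_le
  · intro x hx
    refine ⟨(⟨x, hx⟩, 1), ?_⟩
    change x * 1 = x
    rw [mul_one]
  · intro x hx
    refine ⟨(1, ⟨x, hx⟩), ?_⟩
    change 1 * x = x
    rw [one_mul]

theorem exists_minAct {X : Type*} [Group X] [Finite X] (hX : Cfsg.IsMinimalNonNilpotent X) {p : ℕ}
    [hp : Fact p.Prime] (P : Sylow p X) (hPn : (P : Subgroup X).Normal) (hP1 : (P : Subgroup X) ≠ ⊥) :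
    ∃ (q : ℕ) (_ : Fact q.Prime) (g : X) (σ : MulAut (P : Subgroup X)), p ≠ q ∧ (∃ r, orderOf g = q ^ r) ∧
      (P : Subgroup X) ⊔ zpowers g = ⊤ ∧ MinAct σ ∧ σ ^ q = 1 ∧
      ∀ x : (P : Subgroup X), ((σ x : (P : Subgroup X)) : X) = g * x * g⁻¹ := by
  obtain ⟨q, p', hq, hp', hqp', Q, P', hQc, hP'n, hsup⟩ := S0536.result hX
  obtain ⟨hnn, hprop⟩ := hX
  have : Fact q.Prime := ⟨hq⟩
  have : Fact p'.Prime := ⟨hp'⟩
  have hPnil : Group.IsNilpotent (P : Subgroup X) := P.2.isNilpotent
  have hP'nil : Group.IsNilpotent (P' : Subgroup X) := P'.2.isNilpotent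
  have hQnil : Group.IsNilpotent (Q : Subgroup X) := Q.2.isNilpotent
  -- `p = p'`
  have hpp' : p = p' := by
    by_contra hne
    have hcopPP' : (Nat.card (P : Subgroup X)).Coprime (Nat.card (P' : Subgroup X)) :=
      IsPGroup.coprime_card_of_ne p p' hne (P : Subgroup X) (P' : Subgroup X) P.2 P'.2
    -- `p = q`
    have hpq : p = q := by
      by_contra hne2
      have hcopPQ : (Nat.card (P : Subgroup X)).Coprime (Nat.card (Q : Subgroup X)) :=
        IsPGroup.coprime_card_of_ne p q hne2 (P : Subgroup X) (Q : Subgroup X) P.2 Q.2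
      have hcard : Nat.card X ∣ Nat.card (Q : Subgroup X) * Nat.card (P' : Subgroup X) := by
        have h1 : (P' : Subgroup X).index ∣ Nat.card (Q : Subgroup X) := by
          have e : (P' : Subgroup X).index = (P' : Subgroup X).relIndex Q := by
            rw [← Subgroup.relIndex_sup_left, sup_comm, hsup, Subgroup.relIndex_top_right]
          rw [e]; exact Subgroup.relIndex_dvd_card _ _
        rw [← (P' : Subgroup X).card_mul_index, mul_comm]
        exact Nat.mul_dvd_mul_right h1 _
      have h2 : Nat.card (P : Subgroup X) ∣ 1 := by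
        have h3 := (card_subgroup_dvd_card (P : Subgroup X)).trans hcard
        have h4 : (Nat.card (P : Subgroup X)).Coprime (Nat.card (Q : Subgroup X) * Nat.card (P' : Subgroup X)) :=
          Nat.Coprime.mul_right hcopPQ hcopPP'
        rw [← h4]
        exact Nat.dvd_gcd dvd_rfl h3
      exact hP1 (Subgroup.card_eq_one.1 (Nat.dvd_one.1 h2))
    subst hpq
    have hPQ : P = Q := by
      have := Sylow.unique_of_normal P hPn
      exact Subsingleton.elim _ _
    subst hPQ
    apply hnn
    refine isNilpotent_of_sup hPnil hP'nil ?_ hsup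
    intro x hx y hy
    have h1 : x * y * x⁻¹ * y⁻¹ ∈ (P : Subgroup X) ⊓ P' := by
      constructor
      · have : x * y * x⁻¹ * y⁻¹ = x * (y * x⁻¹ * y⁻¹) := by group
        rw [this]
        exact (P : Subgroup X).mul_mem hx (hPn.conj_mem _ ((P : Subgroup X).inv_mem hx) y)
      · exact (P' : Subgroup X).mul_mem (hP'n.conj_mem _ hy x) ((P' : Subgroup X).inv_mem hy)
    rw [(Subgroup.disjoint_of_coprime_natCard hcopPP').eq_bot, mem_bot] at h1
    exact mul_inv_eq_iff_eq_mul.1 (mul_inv_eq_one.1 h1)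
  subst hpp'
  have hPP' : P = P' := by
    have := Sylow.unique_of_normal P hPn
    exact Subsingleton.elim _ _
  subst hPP'
  obtain ⟨g', hg'⟩ := hQc.exists_generator
  set g : X := (g' : X) with hg
  have hQg : (Q : Subgroup X) = zpowers g := by
    apply le_antisymm
    · intro x hx
      obtain ⟨k, hk⟩ := hg' ⟨x, hx⟩
      exact ⟨k, congrArg Subtype.val hk⟩
    · rw [zpowers_le]; exact g'.2
  have hsup' : (P : Subgroup X) ⊔ zpowers g = ⊤ := by rw [← hQg, sup_comm]; exact hsup
  obtain ⟨r, hr⟩ : ∃ r, orderOf g = q ^ r := by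
    obtain ⟨n, hn⟩ := IsPGroup.iff_card.1 Q.2
    refine ⟨n, ?_⟩
    rw [← hn, hQg, Nat.card_zpowers]
  have hdisj : (P : Subgroup X) ⊓ zpowers g = ⊥ := by
    rw [← hQg]
    exact (Subgroup.disjoint_of_coprime_natCard
      (IsPGroup.coprime_card_of_ne p q (Ne.symm hqp') (P : Subgroup X) (Q : Subgroup X) P.2 Q.2)).eq_bot
  have hcopx : ∀ x ∈ (P : Subgroup X), ∀ k : ℤ, (orderOf x).Coprime (orderOf (g ^ k)) := by
    intro x hx k
    obtain ⟨n, hn⟩ := IsPGroup.iff_card.1 P.2
    have h1 : orderOf x ∣ p ^ n := by rw [← hn]; exact Subgroup.orderOf_dvd_natCard _ hx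
    have h2 : orderOf (g ^ k) ∣ q ^ r := by rw [← hr]; exact orderOf_dvd_of_mem_zpowers ⟨k, rfl⟩
    exact Nat.Coprime.coprime_dvd_left h1 (Nat.Coprime.coprime_dvd_right h2
      (Nat.Coprime.pow n r ((Nat.coprime_primes hp.out hq).2 (Ne.symm hqp'))))
  -- the automorphism
  have key : ∀ H : Subgroup X, H ≤ (P : Subgroup X) → (∀ x ∈ H, g * x * g⁻¹ ∈ H) → ∀ n : ℤ,
      ∀ x ∈ H ⊔ zpowers (g ^ n), ∃ h ∈ H, ∃ k : ℤ, x = h * (g ^ n) ^ k := by
    intro H hHP hH n x hx
    have hHn : zpowers (g ^ n) ≤ normalizer (H : Set X) := by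
      have h1 : g ∈ normalizer (H : Set X) := by
        have hfin : (H.map (MulAut.conj g).toMonoidHom) = H := by
          apply eq_of_le_of_card_ge
          · rintro _ ⟨y, hy, rfl⟩
            exact hH y hy
          · exact (Nat.card_congr (H.equivMapOfInjective (MulAut.conj g).toMonoidHom
              (MulAut.conj g).injective).toEquiv).le
        rw [mem_normalizer_iff]
        intro y
        constructor
        · intro hy; exact hH y hy
        · intro hy
          have h2 : (MulAut.conj g).toMonoidHom y ∈ H.map (MulAut.conj g).toMonoidHom := by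
            rw [hfin]; exact hy
          obtain ⟨w, hw, hwy⟩ := h2
          rw [← (MulAut.conj g).injective hwy]; exact hw
      rw [zpowers_le]
      exact zpow_mem h1 n
    have hx' : x ∈ ((H ⊔ zpowers (g ^ n) : Subgroup X) : Set X) := hx
    rw [coe_mul_of_right_le_normalizer_left _ _ hHn] at hx'
    obtain ⟨h, hh, _, ⟨k, rfl⟩, rfl⟩ := hx'
    exact ⟨h, hh, k, rfl⟩
  let σ : MulAut (P : Subgroup X) := MulAut.conjNormal g
  have hσ : ∀ x : (P : Subgroup X), ((σ x : (P : Subgroup X)) : X) = g * x * g⁻¹ := fun x =>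
    MulAut.conjNormal_apply g x
  have hσn : ∀ n : ℕ, ∀ x : (P : Subgroup X), (((σ ^ n) x : (P : Subgroup X)) : X) = g ^ n * x * (g ^ n)⁻¹ := by
    intro n x
    have h1 : σ ^ n = MulAut.conjNormal (g ^ n) := (map_pow MulAut.conjNormal g n).symm
    rw [h1]
    exact MulAut.conjNormal_apply (g ^ n) x
  have hcommP : ∀ n : ℕ, σ ^ n = 1 → ∀ x ∈ (P : Subgroup X), Commute (g ^ n) x := by
    intro n hn x hx
    have h1 := hσn n ⟨x, hx⟩
    rw [hn, MulAut.one_apply] at h1
    change x = g ^ n * x * (g ^ n)⁻¹ at h1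
    change g ^ n * x = x * g ^ n
    calc g ^ n * x = (g ^ n * x * (g ^ n)⁻¹) * g ^ n := by group
      _ = x * g ^ n := by rw [← h1]
  have hσ1 : σ ≠ 1 := by
    intro h1
    apply hnn
    refine isNilpotent_of_sup hPnil (hQg ▸ hQnil) ?_ hsup'
    rintro x hx _ ⟨k, rfl⟩
    have h2 := hcommP 1 (by rw [pow_one]; exact h1) x hx
    rw [pow_one] at h2
    exact (h2.zpow_left k).symm
  have hgq : g ≠ 1 := by
    rintro hg1
    apply hσ1
    ext x
    rw [hσ x, hg1]
    simp
  refine ⟨q, inferInstance, g, σ, Ne.symm hqp', ⟨r, hr⟩, hsup', ⟨hσ1, ?_⟩, ?_, hσ⟩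
  · intro H hH hinv x hx
    set H' : Subgroup X := H.map (P : Subgroup X).subtype with hH'
    have hH'P : H' ≤ (P : Subgroup X) := map_subtype_le _
    have hinv' : ∀ y ∈ H', g * y * g⁻¹ ∈ H' := by
      rintro _ ⟨y, hy, rfl⟩
      exact ⟨σ y, hinv y hy, hσ y⟩
    have hne : H' ⊔ zpowers g ≠ ⊤ := by
      intro htop
      apply hH
      rw [eq_top_iff]
      intro y _
      have h1 : (y : X) ∈ H' ⊔ zpowers (g ^ (1 : ℤ)) := by rw [zpow_one, htop]; trivial
      obtain ⟨w, hw, k, hk⟩ := key H' hH'P hinv' 1 y h1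
      have h2 : (g ^ (1 : ℤ)) ^ k ∈ (P : Subgroup X) ⊓ zpowers g := by
        constructor
        · have : (g ^ (1 : ℤ)) ^ k = w⁻¹ * y := by rw [hk, inv_mul_cancel_left]
          rw [this]
          exact (P : Subgroup X).mul_mem ((P : Subgroup X).inv_mem (hH'P hw)) y.2
        · rw [zpow_one]; exact zpow_mem (mem_zpowers g) k
      rw [hdisj, mem_bot] at h2
      rw [h2, mul_one] at hk
      obtain ⟨w', hw', hw'w⟩ := hw
      have : w' = y := Subtype.ext (hw'w.trans hk.symm)
      rw [← this]; exact hw'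
    have hnil := hprop _ hne
    have hcop := hcopx x x.2 1
    rw [zpow_one] at hcop
    have h1 : Commute (x : X) g :=
      commute_of_le hnil (mem_sup_left ⟨x, hx, rfl⟩) (mem_sup_right (mem_zpowers g)) hcop
    apply Subtype.ext
    rw [hσ, ← h1.eq, mul_inv_cancel_right]
  · have hne : (P : Subgroup X) ⊔ zpowers (g ^ q) ≠ ⊤ := by
      intro htop
      have h1 : g ∈ (P : Subgroup X) ⊔ zpowers (g ^ (q : ℤ)) := by rw [zpow_natCast, htop]; trivial
      obtain ⟨w, hw, k, hk⟩ := key (P : Subgroup X) le_rfl (fun x hx => hPn.conj_mem x hx g) q g h1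
      have h2 : g ^ (1 - q * k) ∈ (P : Subgroup X) ⊓ zpowers g := by
        constructor
        · have : g ^ (1 - q * k) = w := by
            rw [zpow_sub, zpow_one, zpow_mul]
            nth_rewrite 1 [hk]
            rw [mul_inv_cancel_right]
          rw [this]; exact hw
        · exact zpow_mem (mem_zpowers g) _
      rw [hdisj, mem_bot] at h2
      have h3 : (orderOf g : ℤ) ∣ 1 - q * k := orderOf_dvd_iff_zpow_eq_one.2 h2
      have hr0 : r ≠ 0 := by
        rintro rfl
        rw [pow_zero, orderOf_eq_one_iff] at hr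
        exact hgq hr
      have h4 : (q : ℤ) ∣ 1 - q * k := by
        refine dvd_trans ?_ h3
        rw [hr]
        exact_mod_cast dvd_pow_self q hr0
      have h5 : (q : ℤ) ∣ 1 := by
        have := dvd_add h4 (Dvd.intro k rfl : (q : ℤ) ∣ q * k)
        rwa [sub_add_cancel] at this
      have h6 : q ∣ 1 := by exact_mod_cast h5
      exact hq.one_lt.ne' (Nat.dvd_one.1 h6)
    have hnil := hprop _ hne
    ext x
    rw [hσn q x, MulAut.one_apply]
    have hcop := hcopx x x.2 q
    rw [zpow_natCast] at hcop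
    have h1 : Commute (x : X) (g ^ q) :=
      commute_of_le hnil (mem_sup_left x.2) (mem_sup_right (mem_zpowers _)) hcop
    rw [← h1.eq, mul_inv_cancel_right]

end Cfsg.Agent.H583.SchmidtAct
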