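/-
Finite field facts for minimal non-`p`-nilpotent groups: `K` of order `p ^ a`, `a` the order of `p` modulo the prime
`q`, `ζ ∈ K` of order `q`.
-/
import Mathlib

set_option autoImplicit false

namespace Cfsg.Agent.H583.SchmidtField

theorem card_modEq_fixed {α : Type*} [Finite α] {q : ℕ} [hq : Fact q.Prime] (f : α → α) (hf : f^[q] = id) :
    Nat.card α ≡ Nat.card (Function.fixedPoints f) [MOD q] := by
  classical
  have := Fintype.ofFinite α
  let F : Function.End α := f
  have h0 : ∀ n : ℕ, F ^ n = (f^[n] : α → α) := by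
    intro n
    induction n with
    | zero => rfl
    | succ n ih =>
      rw [pow_succ, ih, Function.iterate_succ]
      rfl
  have h1 : F ^ q ^ 1 = 1 := by
    rw [pow_one, h0, hf]
    rfl
  have h2 := Equiv.Perm.card_fixedPoints_modEq h1
  rw [Nat.card_eq_fintype_card]
  refine h2.trans ?_
  rw [← Nat.card_eq_fintype_card]

theorem orderOf_dvd_of_modEq {p q b : ℕ} (h : p ^ b ≡ 1 [MOD q]) : orderOf (p : ZMod q) ∣ b := by
  apply orderOf_dvd_of_pow_eq_one
  have := (ZMod.natCast_eq_natCast_iff (p ^ b) 1 q).2 h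
  exact_mod_cast this

theorem modEq_of_orderOf_dvd {p q b : ℕ} (h : orderOf (p : ZMod q) ∣ b) : p ^ b ≡ 1 [MOD q] := by
  rw [← ZMod.natCast_eq_natCast_iff]
  push_cast
  exact orderOf_dvd_iff_pow_eq_one.1 h

theorem orderOf_pos_of_ne {p q : ℕ} [hp : Fact p.Prime] [hq : Fact q.Prime] (hpq : p ≠ q) :
    0 < orderOf (p : ZMod q) := by
  have h1 : (p : ZMod q) ≠ 0 := by
    rw [Ne, ZMod.natCast_eq_zero_iff]
    intro h
    exact hpq ((Nat.prime_dvd_prime_iff_eq hq.out hp.out).1 h).symm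
  have h2 := ZMod.pow_card_sub_one_eq_one h1
  have h3 : 0 < q - 1 := Nat.sub_pos_of_lt hq.out.one_lt
  rw [orderOf_pos_iff, isOfFinOrder_iff_pow_eq_one]
  exact ⟨q - 1, h3, h2⟩

section

variable {p q a : ℕ} [hp : Fact p.Prime] [hq : Fact q.Prime] (hpq : p ≠ q) (ha : a = orderOf (p : ZMod q))
  {K : Type*} [Field K] [Finite K] (hK : Nat.card K = p ^ a) {ζ : K} (hζ : IsPrimitiveRoot ζ q)

include hζ in
theorem iterate_mul_eq : (fun x : K => ζ * x)^[q] = id := by
  rw [mul_left_iterate, hζ.pow_eq_one]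
  funext x
  simp

include ha hK hζ in
/-- The only `ζ`-invariant additive subgroups of `K` are the trivial ones. -/
theorem eq_bot_or_eq_top (S : AddSubgroup K) (hS : ∀ x ∈ S, ζ * x ∈ S) : S = ⊥ ∨ S = ⊤ := by
  obtain ⟨b, hb, hSb⟩ : ∃ b ≤ a, Nat.card S = p ^ b := by
    rw [← Nat.dvd_prime_pow hp.out, ← hK]
    exact AddSubgroup.card_addSubgroup_dvd_card S
  let f : S → S := fun x => ⟨ζ * x, hS x x.2⟩
  have hf : f^[q] = id := by
    have h1 : ∀ n : ℕ, ∀ x : S, ((f^[n] x : S) : K) = (fun x : K => ζ * x)^[n] x := by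
      intro n
      induction n with
      | zero => intro x; rfl
      | succ n ih =>
        intro x
        rw [Function.iterate_succ_apply, ih, Function.iterate_succ_apply]
    funext x
    apply Subtype.ext
    rw [h1, iterate_mul_eq hζ]
    rfl
  have h1 := card_modEq_fixed f hf
  have h2 : Function.fixedPoints f = {0} := by
    ext x
    constructor
    · intro hx
      have h3 : ζ * (x : K) = x := congrArg Subtype.val hx
      have h4 : (ζ - 1) * (x : K) = 0 := by rw [sub_mul, h3, one_mul, sub_self]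
      rcases mul_eq_zero.1 h4 with h5 | h5
      · exfalso
        have h6 := hζ.ne_one hq.out.one_lt
        exact h6 (sub_eq_zero.1 h5)
      · exact Subtype.ext h5
    · rintro rfl
      apply Subtype.ext
      change ζ * ((0 : S) : K) = _
      simp
  rw [h2, hSb] at h1
  have h3 : p ^ b ≡ 1 [MOD q] := by simpa using h1
  have h4 := orderOf_dvd_of_modEq h3
  rw [← ha] at h4
  rcases Nat.eq_zero_or_pos b with h5 | h5
  · left
    apply AddSubgroup.card_eq_one.1
    rw [hSb, h5, pow_zero]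
  · right
    have h6 : b = a := le_antisymm hb (Nat.le_of_dvd h5 h4)
    apply AddSubgroup.eq_top_of_card_eq
    rw [hSb, hK, h6]

/-- The additive subgroup generated by `1` and the `ζ ^ i + ζ ^ (-i)`. -/
def symSub (ζ : K) : AddSubgroup K :=
  AddSubgroup.closure ({1} ∪ Set.range fun i : ℤ => ζ ^ i + ζ ^ (-i))

theorem one_mem_symSub (ζ : K) : (1 : K) ∈ symSub ζ := AddSubgroup.subset_closure (Or.inl rfl)

theorem zpow_mem_symSub (ζ : K) (i : ℤ) : ζ ^ i + ζ ^ (-i) ∈ symSub ζ := AddSubgroup.subset_closure (Or.inr ⟨i, rfl⟩)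

include hζ in
theorem mul_mem_symSub {x y : K} (hx : x ∈ symSub ζ) (hy : y ∈ symSub ζ) : x * y ∈ symSub ζ := by
  have hζ0 : ζ ≠ 0 := hζ.ne_zero hq.out.ne_zero
  have h1 : ∀ i : ℤ, ∀ y ∈ symSub ζ, (ζ ^ i + ζ ^ (-i)) * y ∈ symSub ζ := by
    intro i y hy
    induction hy using AddSubgroup.closure_induction with
    | mem y hy =>
      rcases hy with hy | ⟨k, rfl⟩
      · rw [Set.mem_singleton_iff] at hy
        rw [hy, mul_one]
        exact zpow_mem_symSub ζ i
      · have h2 : (ζ ^ i + ζ ^ (-i)) * (ζ ^ k + ζ ^ (-k)) =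
            (ζ ^ (i + k) + ζ ^ (-(i + k))) + (ζ ^ (i - k) + ζ ^ (-(i - k))) := by
          rw [neg_add, neg_sub, sub_eq_add_neg, sub_eq_add_neg, zpow_add₀ hζ0, zpow_add₀ hζ0, zpow_add₀ hζ0,
            zpow_add₀ hζ0]
          ring
        change (ζ ^ i + ζ ^ (-i)) * (ζ ^ k + ζ ^ (-k)) ∈ _
        rw [h2]
        exact add_mem (zpow_mem_symSub ζ _) (zpow_mem_symSub ζ _)
    | zero => rw [mul_zero]; exact zero_mem _
    | add y z _ _ ihy ihz => rw [mul_add]; exact add_mem ihy ihz
    | neg y _ ihy => rw [mul_neg]; exact neg_mem ihy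
  induction hx using AddSubgroup.closure_induction with
  | mem x hx =>
    rcases hx with hx | ⟨i, rfl⟩
    · rw [Set.mem_singleton_iff] at hx
      rw [hx, one_mul]
      exact hy
    · exact h1 i y hy
  | zero => rw [zero_mul]; exact zero_mem _
  | add x z _ _ ihx ihz => rw [add_mul]; exact add_mem ihx ihz
  | neg x _ ihx => rw [neg_mul]; exact neg_mem ihx

include hζ in
theorem pow_mem_symSub {x : K} (hx : x ∈ symSub ζ) (n : ℕ) : x ^ n ∈ symSub ζ := by
  induction n with
  | zero => rw [pow_zero]; exact one_mem_symSub ζ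
  | succ n ih => rw [pow_succ]; exact mul_mem_symSub hζ ih hx

include hK hζ in
theorem inv_mem_symSub {x : K} (hx : x ∈ symSub ζ) : x⁻¹ ∈ symSub ζ := by
  by_cases h0 : x = 0
  · rw [h0, inv_zero]; exact zero_mem _
  have := Fintype.ofFinite K
  have h1 : x ^ (Fintype.card K - 1) = 1 := FiniteField.pow_card_sub_one_eq_one x h0
  have h2 : 1 < Fintype.card K := Fintype.one_lt_card
  have h3 : x⁻¹ = x ^ (Fintype.card K - 2) := by
    apply inv_eq_of_mul_eq_one_right
    rw [← pow_succ']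
    have h4 : Fintype.card K - 2 + 1 = Fintype.card K - 1 := by omega
    rw [h4, h1]
  rw [h3]
  exact pow_mem_symSub hζ hx _

include ha hK hζ in
theorem exists_card_symSub : ∃ b : ℕ, Nat.card (symSub ζ) = p ^ b ∧ b ∣ a ∧ a ≤ 2 * b := by
  have hζ0 : ζ ≠ 0 := hζ.ne_zero hq.out.ne_zero
  let F : Subfield K :=
    { carrier := symSub ζ
      mul_mem' := fun {_ _} hx hy => mul_mem_symSub hζ hx hy
      one_mem' := one_mem_symSub ζ
      add_mem' := fun {_ _} hx hy => add_mem hx hy
      zero_mem' := zero_mem (symSub ζ)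
      neg_mem' := fun {_} hx => neg_mem hx
      inv_mem' := fun _ hx => inv_mem_symSub hK hζ hx }
  have hF : Nat.card F = Nat.card (symSub ζ) := rfl
  have h1 : Nat.card K = Nat.card F ^ Module.finrank F K := Module.natCard_eq_pow_finrank
  obtain ⟨b, hb, hSb⟩ : ∃ b ≤ a, Nat.card (symSub ζ) = p ^ b := by
    rw [← Nat.dvd_prime_pow hp.out, ← hK]
    exact AddSubgroup.card_addSubgroup_dvd_card (symSub ζ)
  refine ⟨b, hSb, ?_, ?_⟩
  · rw [hK, hF, hSb, ← pow_mul] at h1
    exact ⟨_, Nat.pow_right_injective hp.out.two_le h1⟩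
  · let φ : (symSub ζ) × (symSub ζ) →+ K :=
      { toFun := fun x => (x.1 : K) + (x.2 : K) * ζ
        map_zero' := by simp
        map_add' := by
          intro x y
          change ((x.1 : K) + y.1) + ((x.2 : K) + y.2) * ζ = _
          ring }
    have hinv : ∀ x ∈ φ.range, ζ * x ∈ φ.range := by
      rintro _ ⟨⟨x, y⟩, rfl⟩
      have h2 : ζ ^ (1 : ℤ) + ζ ^ (-1 : ℤ) ∈ symSub ζ := zpow_mem_symSub ζ 1
      rw [zpow_one, zpow_neg, zpow_one] at h2
      refine ⟨(-y, x + ⟨y * (ζ + ζ⁻¹), mul_mem_symSub hζ y.2 h2⟩), ?_⟩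
      change -(y : K) + ((x : K) + y * (ζ + ζ⁻¹)) * ζ = ζ * ((x : K) + y * ζ)
      field_simp
      ring
    have hne : φ.range ≠ ⊥ := by
      intro h
      have h2 : (1 : K) ∈ φ.range := ⟨(⟨1, one_mem_symSub ζ⟩, 0), by simp [φ]⟩
      rw [h, AddSubgroup.mem_bot] at h2
      exact one_ne_zero h2
    have htop : φ.range = ⊤ := (eq_bot_or_eq_top ha hK hζ φ.range hinv).resolve_left hne
    have hsurj : Function.Surjective φ := AddMonoidHom.range_eq_top.1 htop
    have h2 := Nat.card_le_card_of_surjective φ hsurj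
    rw [Nat.card_prod, hK, hSb, ← pow_add] at h2
    have := (Nat.pow_le_pow_iff_right hp.out.one_lt).1 h2
    omega

end

end Cfsg.Agent.H583.SchmidtField
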