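/-
An irreducible automorphism `T` of prime order `q` of an elementary abelian `p`-group `V` is, up to replacing `T` by
a power, multiplication by a given element `ζ` of order `q` on the field `K` of order `p ^ a`, `a` the order of `p`
modulo `q`.
-/
import Mathlib
import Cfsg.Agent.H583.SchmidtField

set_option autoImplicit false

namespace Cfsg.Agent.H583.SchmidtLin

open Polynomial
open Cfsg.Agent.H583.SchmidtField

section

variable {p q : ℕ} [hp : Fact p.Prime] [hq : Fact q.Prime]

/-- The order of a finite field of characteristic `p` generated as a ring by an element of order `q`. -/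
theorem card_field {L : Type*} [Field L] [Finite L] [CharP L p] {u : L} (hu : IsPrimitiveRoot u q)
    (hgen : ∀ S : Subring L, u ∈ S → S = ⊤) : Nat.card L = p ^ orderOf (p : ZMod q) := by
  have := Fintype.ofFinite L
  set a := orderOf (p : ZMod q) with ha
  obtain ⟨n, -, hn⟩ := FiniteField.card L p
  rw [Nat.card_eq_fintype_card, hn]
  have hcard : Nat.card L = p ^ (n : ℕ) := by rw [Nat.card_eq_fintype_card, hn]
  -- `a ∣ n`
  have h1 : a ∣ (n : ℕ) := by
    apply orderOf_dvd_of_modEq
    have h2 := card_modEq_fixed (fun x : L => u * x) (iterate_mul_eq hu)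
    rw [hcard] at h2
    refine h2.trans ?_
    have h3 : Function.fixedPoints (fun x : L => u * x) = {0} := by
      ext x
      constructor
      · intro hx
        have h3 : u * x = x := hx
        have h4 : (u - 1) * x = 0 := by rw [sub_mul, h3, one_mul, sub_self]
        rcases mul_eq_zero.1 h4 with h5 | h5
        · exact absurd (sub_eq_zero.1 h5) (hu.ne_one hq.out.one_lt)
        · exact h5
      · rintro rfl
        exact mul_zero u
    rw [h3]
    simp [Nat.ModEq]
  -- `x ^ p ^ a = x`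
  have h2 : ∀ x : L, x ^ p ^ a = x := by
    have hS := hgen (RingHom.eqLocus (iterateFrobenius L p a) (RingHom.id L)) ?_
    · intro x
      have : x ∈ RingHom.eqLocus (iterateFrobenius L p a) (RingHom.id L) := by rw [hS]; trivial
      exact this
    · change iterateFrobenius L p a u = u
      rw [iterateFrobenius_def]
      have h3 : p ^ a ≡ 1 [MOD q] := modEq_of_orderOf_dvd dvd_rfl
      have h4 : p ^ a % orderOf u = 1 := by
        rw [← hu.eq_orderOf, h3, Nat.mod_eq_of_lt hq.out.one_lt]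
      rw [← pow_mod_orderOf, h4, pow_one]
  obtain ⟨g, hg⟩ := IsCyclic.exists_ofOrder_eq_natCard (α := Lˣ)
  have h3 : g ^ (p ^ a - 1) = 1 := by
    have h4 : (g : L) ^ p ^ a = g := h2 g
    have h5 : g ^ p ^ a = g := Units.ext (by rw [Units.val_pow_eq_pow_val]; exact h4)
    have h6 : p ^ a = (p ^ a - 1) + 1 := by
      have : 0 < p ^ a := pow_pos hp.out.pos a
      omega
    rw [h6, pow_succ] at h5
    simpa using h5
  have h4 := orderOf_dvd_of_pow_eq_one h3
  rw [hg, Nat.card_units, hcard] at h4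
  have hpa : 1 < p ^ a := by
    rcases Nat.eq_zero_or_pos a with h0 | h0
    · exfalso
      have h5 := h2 0
      rw [h0] at h2
      rw [h0, zero_dvd_iff] at h1
      exact n.pos.ne' h1
    · exact Nat.one_lt_pow h0.ne' hp.out.one_lt
  have h5 : p ^ (n : ℕ) - 1 ≤ p ^ a - 1 := Nat.le_of_dvd (by omega) h4
  have h6 : p ^ (n : ℕ) ≤ p ^ a := by omega
  have h7 : (n : ℕ) ≤ a := (Nat.pow_le_pow_iff_right hp.out.one_lt).1 h6
  have h8 : a ≤ n := Nat.le_of_dvd n.pos h1
  rw [le_antisymm h7 h8]

variable {a : ℕ} (ha : a = orderOf (p : ZMod q)) {K : Type*} [Field K] [Finite K] (hK : Nat.card K = p ^ a)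
  {ζ : K} (hζ : IsPrimitiveRoot ζ q)

include ha hK hζ in
theorem exists_equiv {V : Type*} [AddCommGroup V] [Finite V] (T : V →+ V) (hTq : ∀ v, T^[q] v = v)
    (hT1 : ∃ v, T v ≠ v) (hpV : ∀ v : V, p • v = 0)
    (hirr : ∀ S : AddSubgroup V, (∀ x ∈ S, T x ∈ S) → S = ⊥ ∨ S = ⊤) :
    ∃ j : ℕ, j.Coprime q ∧ ∃ e : V ≃+ K, ∀ v, e (T^[j] v) = ζ * e v := by
  set φ : V →ₗ[ℤ] V := T.toIntLinearMap with hφ
  have hφT : ∀ v, φ v = T v := fun v => rfl
  let M := Module.AEval' φ
  let o : V ≃ₗ[ℤ] M := Module.AEval'.of φ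
  have hXo : ∀ v : V, (X : ℤ[X]) • o v = o (T v) := fun v => Module.AEval'.X_smul_of φ v
  have hnt : Nontrivial V := by
    obtain ⟨v, hv⟩ := hT1
    exact ⟨⟨_, _, hv⟩⟩
  have hntM : Nontrivial M := o.symm.toEquiv.nontrivial
  have hsimple : IsSimpleModule ℤ[X] M := by
    rw [isSimpleModule_iff]
    refine { exists_pair_ne := ⟨⊥, ⊤, bot_ne_top⟩, eq_bot_or_eq_top := ?_ }
    intro N
    let S : AddSubgroup V := (N.toAddSubgroup).comap (o : V →+ M)
    have hmem : ∀ v, v ∈ S ↔ o v ∈ N := fun v => Iff.rfl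
    rcases hirr S (by
      intro x hx
      rw [hmem] at hx ⊢
      rw [← hXo]
      exact N.smul_mem X hx) with h1 | h1
    · left
      rw [eq_bot_iff]
      intro m hm
      have h2 : o.symm m ∈ S := by rw [hmem, LinearEquiv.apply_symm_apply]; exact hm
      rw [h1, AddSubgroup.mem_bot] at h2
      rw [Submodule.mem_bot, ← o.apply_symm_apply m, h2, map_zero]
    · right
      rw [eq_top_iff]
      intro m _
      have h2 : o.symm m ∈ S := by rw [h1]; trivial
      rw [hmem, LinearEquiv.apply_symm_apply] at h2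
      exact h2
  obtain ⟨I, hI, ⟨e⟩⟩ := isSimpleModule_iff_quot_maximal.1 hsimple
  let instL : Field (ℤ[X] ⧸ I) := Ideal.Quotient.field I
  set u : ℤ[X] ⧸ I := Ideal.Quotient.mk I X with hu
  let E : V ≃+ (ℤ[X] ⧸ I) := o.toAddEquiv.trans e.toAddEquiv
  have hE : ∀ v, E v = e (o v) := fun v => rfl
  have hET : ∀ v, E (T v) = u * E v := by
    intro v
    rw [hE, hE, ← hXo, map_smul]
    rfl
  have hETn : ∀ n : ℕ, ∀ v, E (T^[n] v) = u ^ n * E v := by
    intro n
    induction n with
    | zero => intro v; simp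
    | succ n ih =>
      intro v
      rw [Function.iterate_succ_apply', hET, ih, pow_succ']
      ring
  have hfinL : Finite (ℤ[X] ⧸ I) := Finite.of_equiv V E.toEquiv
  obtain ⟨v₁, hv₁⟩ := E.surjective 1
  have huq : u ^ q = 1 := by
    have h1 := hETn q v₁
    rw [hTq, hv₁, mul_one] at h1
    exact h1.symm
  have hu1 : u ≠ 1 := by
    intro h1
    obtain ⟨v, hv⟩ := hT1
    apply hv
    apply E.injective
    rw [hET, h1, one_mul]
  have hup : IsPrimitiveRoot u q := by
    have h1 : orderOf u = q := orderOf_eq_prime huq hu1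
    rw [← h1]
    exact IsPrimitiveRoot.orderOf u
  have hchar : CharP (ℤ[X] ⧸ I) p := by
    apply (CharP.charP_iff_prime_eq_zero hp.out).2
    have h1 := congrArg E (hpV v₁)
    rw [map_nsmul, hv₁, map_zero, nsmul_eq_mul, mul_one] at h1
    exact h1
  have hgen : ∀ S : Subring (ℤ[X] ⧸ I), u ∈ S → S = ⊤ := by
    intro S hS
    rw [eq_top_iff]
    intro x _
    obtain ⟨f, rfl⟩ := Ideal.Quotient.mk_surjective x
    induction f using Polynomial.induction_on' with
    | add f g hf hg => rw [map_add]; exact add_mem (hf trivial) (hg trivial)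
    | monomial n c =>
      rw [← C_mul_X_pow_eq_monomial, map_mul, map_pow]
      refine mul_mem ?_ (pow_mem hS n)
      have h1 : (Ideal.Quotient.mk I) (C c) = ((c : ℤ) : ℤ[X] ⧸ I) :=
        eq_intCast ((Ideal.Quotient.mk I).comp C) c
      rw [h1]
      exact intCast_mem S c
  have hcard : Nat.card (ℤ[X] ⧸ I) = Nat.card K := by
    rw [card_field hup hgen, hK, ha]
  have := Fintype.ofFinite (ℤ[X] ⧸ I)
  have := Fintype.ofFinite K
  let θ : (ℤ[X] ⧸ I) ≃+* K := FiniteField.ringEquivOfCardEq (by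
    rw [← Nat.card_eq_fintype_card, ← Nat.card_eq_fintype_card, hcard])
  have hθu : IsPrimitiveRoot (θ u) q := hup.map_of_injective θ.injective
  have : NeZero q := ⟨hq.out.ne_zero⟩
  obtain ⟨j, hjq, hj⟩ := hθu.eq_pow_of_pow_eq_one hζ.pow_eq_one
  refine ⟨j, ?_, E.trans θ.toAddEquiv, ?_⟩
  · rw [Nat.coprime_comm, Nat.Prime.coprime_iff_not_dvd hq.out]
    intro h1
    have h2 := Nat.eq_zero_of_dvd_of_lt h1 hjq
    rw [h2, pow_zero] at hj
    exact hζ.ne_one hq.out.one_lt hj.symm
  · intro v
    change θ (E (T^[j] v)) = ζ * θ (E v)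
    rw [hETn, map_mul, map_pow, hj]

end

end Cfsg.Agent.H583.SchmidtLin
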