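/-
The quotient of the `p`-part of a minimal non-nilpotent group by the fixed points of the acting automorphism is the
additive group of the field `K` of order `p ^ a` with a power of the automorphism acting as multiplication by `ζ`.
-/
import Mathlib
import Cfsg.Agent.H583.MinAction
import Cfsg.Agent.H583.SchmidtLin

set_option autoImplicit false

namespace Cfsg.Agent.H583.SchmidtCoord

open Subgroup
open scoped commutatorElement
open Cfsg.Agent.H583.MinAction Cfsg.Agent.H583.SchmidtLin Cfsg.Agent.H583.SchmidtField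

/-- `f` identifies `P` modulo the fixed points of `σ` with `K`, `σ` acting as multiplication by `ζ`. -/
structure Coord {P K : Type*} [Group P] [Field K] (σ : MulAut P) (ζ : K) (f : P →* Multiplicative K) : Prop where
  surj : Function.Surjective f
  equiv : ∀ x, (f (σ x)).toAdd = ζ * (f x).toAdd
  ker : ∀ x, f x = 1 ↔ σ x = x

/-- The subgroup of fixed points. -/
def fixSub {P : Type*} [Group P] (σ : MulAut P) : Subgroup P where
  carrier := {y | σ y = y}
  one_mem' := map_one σ
  mul_mem' := by
    intro a b ha hb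
    change σ (a * b) = a * b
    rw [map_mul, ha, hb]
  inv_mem' := by
    intro a ha
    change σ a⁻¹ = a⁻¹
    rw [map_inv, ha]

theorem mem_fixSub {P : Type*} [Group P] {σ : MulAut P} {x : P} : x ∈ fixSub σ ↔ σ x = x := Iff.rfl

theorem minAct_pow {P : Type*} [Group P] {σ : MulAut P} {q j : ℕ} (hq : q.Prime) (hj : j.Coprime q) (h : MinAct σ)
    (hσ : σ ^ q = 1) : MinAct (σ ^ j) ∧ (σ ^ j) ^ q = 1 ∧ ∃ k : ℕ, (σ ^ j) ^ k = σ := by
  obtain ⟨k, hk⟩ : ∃ k : ℕ, (σ ^ j) ^ k = σ := by
    have h1 := Nat.exists_mul_mod_eq_one_of_coprime hj hq.one_lt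
    obtain ⟨k, -, hk⟩ := h1
    refine ⟨k, ?_⟩
    rw [← pow_mul, ← Nat.div_add_mod (j * k) q, hk, pow_add, pow_mul, hσ, one_pow, one_mul, pow_one]
  refine ⟨⟨?_, ?_⟩, ?_, k, hk⟩
  · intro h1
    apply h.ne_one
    rw [← hk, h1, one_pow]
  · intro H hH hinv x hx
    have hpow : ∀ n : ℕ, ∀ x ∈ H, ((σ ^ j) ^ n) x ∈ H := by
      intro n
      induction n with
      | zero => intro x hx; exact hx
      | succ n ih =>
        intro x hx
        rw [pow_succ', MulAut.mul_apply]
        exact hinv _ (ih x hx)
    have hσH : ∀ x ∈ H, σ x ∈ H := by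
      intro x hx
      have := hpow k x hx
      rwa [hk] at this
    have hfix := h.fix H hH hσH
    have : ∀ n : ℕ, (σ ^ n) x = x := by
      intro n
      induction n with
      | zero => rfl
      | succ n ih => rw [pow_succ', MulAut.mul_apply, ih, hfix x hx]
    exact this j
  · rw [← pow_mul, mul_comm, pow_mul, hσ, one_pow]

section

variable {P : Type*} [Group P] [Finite P] {σ : MulAut P} {p q : ℕ} [hp : Fact p.Prime] [hq : Fact q.Prime]
  (hpq : p ≠ q) (hP : IsPGroup p P) (h : MinAct σ) (hσ : σ ^ q = 1)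

include hpq hP h hσ

theorem fixSub_le_center : fixSub σ ≤ center P := fun _ hx => mem_center_of_fix hpq hP h hσ hx

theorem commutator_mem_fixSub (x y : P) : ⁅x, y⁆ ∈ fixSub σ := by
  by_cases hab : ∀ x y : P, x * y = y * x
  · rw [commutatorElement_eq_one_iff_mul_comm.2 (hab x y)]
    exact one_mem _
  · exact fix_of_mem_center hpq hP h hσ hab (commutator_mem_center hpq hP h hσ x y)

theorem pow_mem_fixSub (x : P) : x ^ p ∈ fixSub σ := by
  by_cases hab : ∀ x y : P, x * y = y * x
  · rw [pow_eq_one_of_comm hpq hP h hσ hab]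
    exact one_mem _
  · exact fix_of_mem_center hpq hP h hσ hab (pow_mem_center hpq hP h hσ x)

theorem fixSub_normal : (fixSub σ).Normal := by
  constructor
  intro n hn g
  have h1 : g * n * g⁻¹ = ⁅g, n⁆ * n := by rw [commutatorElement_def]; group
  rw [h1]
  exact mul_mem (commutator_mem_fixSub hpq hP h hσ g n) hn

variable {a : ℕ} (ha : a = orderOf (p : ZMod q)) {K : Type*} [Field K] [Finite K] (hK : Nat.card K = p ^ a)
  {ζ : K} (hζ : IsPrimitiveRoot ζ q)

include ha hK hζ in
theorem exists_coord : ∃ j : ℕ, j.Coprime q ∧ ∃ f : P →* Multiplicative K, Coord (σ ^ j) ζ f := by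
  set F := fixSub σ with hF
  have hFn : F.Normal := fixSub_normal hpq hP h hσ
  let inst : CommGroup (P ⧸ F) :=
    { (inferInstance : Group (P ⧸ F)) with
      mul_comm := by
        intro x y
        obtain ⟨x, rfl⟩ := QuotientGroup.mk'_surjective F x
        obtain ⟨y, rfl⟩ := QuotientGroup.mk'_surjective F y
        rw [← commutatorElement_eq_one_iff_mul_comm, ← map_commutatorElement]
        exact (QuotientGroup.eq_one_iff _).2 (commutator_mem_fixSub hpq hP h hσ x y) }
  let π : P → Additive (P ⧸ F) := fun x => Additive.ofMul (QuotientGroup.mk' F x)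
  have hπmul : ∀ x y, π (x * y) = π x + π y := fun x y => congrArg Additive.ofMul (map_mul (QuotientGroup.mk' F) x y)
  have hπpow : ∀ (n : ℕ) x, π (x ^ n) = n • π x := fun n x => congrArg Additive.ofMul (map_pow (QuotientGroup.mk' F) x n)
  have hπ0 : ∀ x, π x = 0 ↔ x ∈ F := fun x => QuotientGroup.eq_one_iff x
  have hπs : ∀ v, ∃ x, π x = v := fun v => QuotientGroup.mk'_surjective F v.toMul
  have hle : F ≤ F.comap (σ : P →* P) := by
    intro x hx
    rw [mem_comap]
    change σ x ∈ F
    rw [mem_fixSub.1 hx]; exact hx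
  let T : Additive (P ⧸ F) →+ Additive (P ⧸ F) := MonoidHom.toAdditive (QuotientGroup.map F F (σ : P →* P) hle)
  have hT : ∀ x, T (π x) = π (σ x) := fun x => rfl
  have hTn : ∀ n : ℕ, ∀ x, T^[n] (π x) = π ((σ ^ n) x) := by
    intro n
    induction n with
    | zero => intro x; rfl
    | succ n ih =>
      intro x
      rw [Function.iterate_succ_apply', ih, hT, pow_succ', MulAut.mul_apply]
  have hmem : ∀ x y : P, π x = π y ↔ x⁻¹ * y ∈ F := by
    intro x y
    rw [← QuotientGroup.eq]
    exact Iff.rfl
  -- no fixed points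
  have hnofix : ∀ x : P, x⁻¹ * σ x ∈ F → x ∈ F := fun x hx =>
    mem_of_inv_mul_mem hpq hP h hσ F (commutator_mem_fixSub hpq hP h hσ) (fun y hy => hle hy) hx
  have hlin := SchmidtLin.exists_equiv (p := p) (q := q) ha hK hζ T ?_ ?_ ?_ ?_
  rotate_left
  · intro v
    obtain ⟨x, rfl⟩ := hπs v
    rw [hTn, hσ]
    rfl
  · obtain ⟨x, hx⟩ := exists_ne h
    refine ⟨π x, ?_⟩
    rw [hT]
    intro h1
    have h2 := (hmem x (σ x)).1 h1.symm
    exact hx (mem_fixSub.1 (hnofix x h2))
  · intro v
    obtain ⟨x, rfl⟩ := hπs v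
    rw [← hπpow, hπ0]
    exact pow_mem_fixSub hpq hP h hσ x
  · intro S hS
    let H : Subgroup P :=
      { carrier := {x | π x ∈ S}
        one_mem' := by
          change π 1 ∈ S
          rw [(hπ0 1).2 (one_mem _)]
          exact zero_mem _
        mul_mem' := by
          intro x y hx hy
          change π (x * y) ∈ S
          rw [hπmul]
          exact add_mem hx hy
        inv_mem' := by
          intro x hx
          change π x⁻¹ ∈ S
          have h1 : π x⁻¹ = - π x := rfl
          rw [h1]
          exact neg_mem hx }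
    by_cases hH : H = ⊤
    · right
      rw [eq_top_iff]
      intro v _
      obtain ⟨x, rfl⟩ := hπs v
      have : x ∈ H := by rw [hH]; trivial
      exact this
    · left
      rw [eq_bot_iff]
      intro v hv
      obtain ⟨x, rfl⟩ := hπs v
      rw [AddSubgroup.mem_bot, hπ0]
      exact h.fix H hH (by
        intro y hy
        change π (σ y) ∈ S
        rw [← hT]
        exact hS _ hy) x hv
  obtain ⟨j, hj, e, he⟩ := hlin
  obtain ⟨-, -, k, hk⟩ := minAct_pow hq.out hj h hσ
  refine ⟨j, hj, MonoidHom.mk' (fun x => Multiplicative.ofAdd (e (π x))) ?_, ?_, ?_, ?_⟩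
  · intro x y
    rw [hπmul, map_add]
    rfl
  · intro c
    obtain ⟨v, hv⟩ := e.surjective c.toAdd
    obtain ⟨x, rfl⟩ := hπs v
    exact ⟨x, congrArg Multiplicative.ofAdd hv⟩
  · intro x
    change e (π ((σ ^ j) x)) = ζ * e (π x)
    rw [← hTn, he]
  · intro x
    have h1 : Multiplicative.ofAdd (e (π x)) = 1 ↔ x ∈ F := by
      rw [ofAdd_eq_one, map_eq_zero_iff e e.injective, hπ0]
    rw [MonoidHom.mk'_apply, h1, mem_fixSub]
    constructor
    · intro h2
      have : ∀ n : ℕ, (σ ^ n) x = x := by
        intro n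
        induction n with
        | zero => rfl
        | succ n ih => rw [pow_succ', MulAut.mul_apply, ih, h2]
      exact this j
    · intro h2
      have : ∀ n : ℕ, ((σ ^ j) ^ n) x = x := by
        intro n
        induction n with
        | zero => rfl
        | succ n ih => rw [pow_succ', MulAut.mul_apply, ih, h2]
      have h3 := this k
      rwa [hk] at h3

end

end Cfsg.Agent.H583.SchmidtCoord
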