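/-
The order of the `p`-part of a minimal non-nilpotent group is at most `p ^ a` (`a` odd) or `p ^ (3 * a / 2)` (`a`
even), `a` the order of `p` modulo `q`.
-/
import Mathlib
import Cfsg.Agent.H583.SchmidtCoord

set_option autoImplicit false

namespace Cfsg.Agent.H583.SchmidtBound

open Subgroup
open scoped commutatorElement
open Cfsg.Agent.H583.MinAction Cfsg.Agent.H583.SchmidtLin Cfsg.Agent.H583.SchmidtField Cfsg.Agent.H583.SchmidtCoord

section

variable {P : Type*} [Group P] [Finite P] {σ : MulAut P} {p q : ℕ} [hp : Fact p.Prime] [hq : Fact q.Prime]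
  {a : ℕ} {K : Type*} [Field K] {ζ : K} {f : P →* Multiplicative K}

theorem coord_zpow (hζ0 : ζ ≠ 0) (hf : Coord σ ζ f) (i : ℤ) (x : P) :
    (f ((σ ^ i) x)).toAdd = ζ ^ i * (f x).toAdd := by
  have h1 : ∀ n : ℕ, ∀ x : P, (f ((σ ^ n) x)).toAdd = ζ ^ n * (f x).toAdd := by
    intro n
    induction n with
    | zero => intro x; simp
    | succ n ih =>
      intro x
      rw [pow_succ', MulAut.mul_apply, hf.equiv, ih, pow_succ', mul_assoc]
  obtain ⟨n, rfl | rfl⟩ := i.eq_nat_or_neg
  · rw [zpow_natCast, zpow_natCast]; exact h1 n x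
  · have h2 := h1 n ((σ ^ (-(n : ℤ))) x)
    have h3 : (σ ^ n) ((σ ^ (-(n : ℤ))) x) = x := by
      rw [← MulAut.mul_apply, ← zpow_natCast, ← zpow_add, add_neg_cancel, zpow_zero, MulAut.one_apply]
    rw [h3] at h2
    rw [h2, zpow_neg ζ (n : ℤ), zpow_natCast ζ n, inv_mul_cancel_left₀ (pow_ne_zero n hζ0)]

theorem ker_eq (hf : Coord σ ζ f) : f.ker = fixSub σ := by
  ext x
  exact hf.ker x

variable (hpq : p ≠ q) (hP : IsPGroup p P) (h : MinAct σ) (hσ : σ ^ q = 1)

include hpq hP h hσ

theorem card_le [Finite K] (ha : a = orderOf (p : ZMod q)) (hK : Nat.card K = p ^ a) (hζ : IsPrimitiveRoot ζ q)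
    (hf : Coord σ ζ f) (a₀ : ℕ) (ha₀ : a₀ = if a % 2 = 1 then a else 3 * a / 2) : Nat.card P ≤ p ^ a₀ := by
  have hζ0 : ζ ≠ 0 := hζ.ne_zero hq.out.ne_zero
  have hcardP : Nat.card f.ker * p ^ a = Nat.card P := by
    rw [← f.ker.card_mul_index, index_ker, MonoidHom.range_eq_top.2 hf.surj, ← hK,
      Nat.card_congr (topEquiv (G := Multiplicative K)).toEquiv]
    rfl
  have haa₀ : a ≤ a₀ := by
    rw [ha₀]; split_ifs <;> omega
  by_cases hab : ∀ x y : P, x * y = y * x
  · have h1 : f.ker = ⊥ := by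
      rw [eq_bot_iff, ker_eq hf]
      intro x hx
      exact eq_one_of_fix hpq hP h hσ hab hx
    rw [h1, Subgroup.card_bot, one_mul] at hcardP
    rw [← hcardP]
    exact Nat.pow_le_pow_right hp.out.pos haa₀
  have hkerZ : f.ker = center P := by
    rw [ker_eq hf]
    apply le_antisymm
    · exact fixSub_le_center hpq hP h hσ
    · intro x hx
      exact fix_of_mem_center hpq hP h hσ hab hx
  obtain ⟨x, hx⟩ : ∃ x : P, x ∉ center P := by
    by_contra hcon
    push Not at hcon
    apply hab
    intro x y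
    exact mem_center_iff.1 (hcon y) x
  set C : Subgroup P := (commHom hpq hP h hσ x).ker with hC
  have hCmem : ∀ y, y ∈ C ↔ ⁅x, y⁆ = 1 := fun y => Iff.rfl
  have hZC : f.ker ≤ C := by
    rw [hkerZ]
    intro z hz
    rw [hCmem, commutatorElement_eq_one_iff_mul_comm]
    exact mem_center_iff.1 hz x
  have hrange : (commHom hpq hP h hσ x).range = center P := by
    apply le_antisymm
    · rintro _ ⟨y, rfl⟩
      exact commutator_mem_center hpq hP h hσ x y
    · intro z hz
      obtain ⟨y, hy⟩ := exists_comm_eq hpq hP h hσ hx hz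
      exact ⟨y, hy⟩
  have hCidx : C.index = Nat.card f.ker := by
    rw [hC, index_ker, hrange, hkerZ]
  have hzpos : 0 < Nat.card f.ker := Nat.card_pos
  have hcardC : Nat.card C = p ^ a := by
    have h1 := C.card_mul_index
    rw [hCidx, ← hcardP, mul_comm] at h1
    exact Nat.eq_of_mul_eq_mul_left hzpos h1
  have hcardC2 : Nat.card f.ker * Nat.card (C.map f) = Nat.card C := by
    have h1 := relIndex_mul_relIndex ⊥ f.ker C bot_le hZC
    rw [relIndex_bot_left, relIndex_bot_left, relIndex_ker] at h1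
    exact h1
  -- the image of `C` contains `symSub ζ * f x`
  have hcongr : ∀ y y' : P, f y = f y' → ⁅x, y⁆ = ⁅x, y'⁆ := by
    intro y y' hyy
    have h1 : y'⁻¹ * y ∈ f.ker := by
      rw [MonoidHom.mem_ker, map_mul, map_inv, hyy, inv_mul_cancel]
    have h2 : y = y' * (y'⁻¹ * y) := by group
    have h3 : ⁅x, y'⁻¹ * y⁆ = 1 := (hCmem _).1 (hZC h1)
    rw [h2, comm_mul_right hpq hP h hσ, h3, mul_one]
  let S : AddSubgroup K :=
    { carrier := {c | ∀ y, (f y).toAdd = c * (f x).toAdd → ⁅x, y⁆ = 1}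
      zero_mem' := by
        intro y hy
        rw [zero_mul, toAdd_eq_zero] at hy
        exact (hCmem y).1 (hZC hy)
      add_mem' := by
        intro c d hc hd y hy
        obtain ⟨u, hu⟩ := hf.surj (Multiplicative.ofAdd (c * (f x).toAdd))
        obtain ⟨v, hv⟩ := hf.surj (Multiplicative.ofAdd (d * (f x).toAdd))
        have h1 : f y = f (u * v) := by
          rw [map_mul, hu, hv, ← ofAdd_add, ← add_mul, ← hy, ofAdd_toAdd]
        rw [hcongr _ _ h1, comm_mul_right hpq hP h hσ, hc u (by rw [hu, toAdd_ofAdd]),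
          hd v (by rw [hv, toAdd_ofAdd]), one_mul]
      neg_mem' := by
        intro c hc y hy
        have h1 : (f y⁻¹).toAdd = c * (f x).toAdd := by
          rw [map_inv, toAdd_inv, hy, neg_mul, neg_neg]
        have h2 := hc y⁻¹ h1
        rw [comm_inv_right hpq hP h hσ, inv_eq_one] at h2
        exact h2 }
  have hfixc : ∀ u v : P, ∀ i : ℤ, (σ ^ i) ⁅u, v⁆ = ⁅u, v⁆ := by
    intro u v i
    have h1 : ∀ w, σ w = w → (σ ^ i) w = w := by
      intro w hw
      have h2 : σ ∈ MulAction.stabilizer (MulAut P) w := hw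
      exact (MulAction.stabilizer (MulAut P) w).zpow_mem h2 i
    exact h1 _ (commutator_mem_fixSub hpq hP h hσ u v)
  have hSsym : symSub ζ ≤ S := by
    rw [symSub, AddSubgroup.closure_le]
    rintro c (hc | ⟨i, rfl⟩)
    · rw [Set.mem_singleton_iff] at hc
      subst hc
      intro y hy
      rw [one_mul] at hy
      have h1 : f y = f x := hy
      rw [hcongr _ _ h1, commutatorElement_self]
    · intro y hy
      change (f y).toAdd = (ζ ^ i + ζ ^ (-i)) * (f x).toAdd at hy
      have h1 : f y = f ((σ ^ i) x * (σ ^ (-i)) x) := by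
        apply Multiplicative.toAdd.injective
        rw [hy, map_mul, toAdd_mul, coord_zpow hζ0 hf, coord_zpow hζ0 hf, add_mul]
      rw [hcongr _ _ h1, comm_mul_right hpq hP h hσ]
      have h2 : ⁅x, (σ ^ i) x⁆ = ⁅(σ ^ (-i)) x, x⁆ := by
        rw [← hfixc x ((σ ^ i) x) (-i), map_commutatorElement, ← MulAut.mul_apply, ← zpow_add, neg_add_cancel,
          zpow_zero, MulAut.one_apply]
      rw [h2, ← commutatorElement_inv, inv_mul_cancel]
  have hfx : (f x).toAdd ≠ 0 := by
    intro h1
    rw [toAdd_eq_zero] at h1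
    apply hx
    rw [← hkerZ]
    exact h1
  obtain ⟨b, hb, hba, hab2⟩ := exists_card_symSub (p := p) (q := q) ha hK hζ
  have hle : p ^ b ≤ Nat.card (C.map f) := by
    rw [← hb]
    let g : symSub ζ → C.map f := fun c => ⟨Multiplicative.ofAdd (c * (f x).toAdd), by
      obtain ⟨y, hy⟩ := hf.surj (Multiplicative.ofAdd ((c : K) * (f x).toAdd))
      refine ⟨y, ?_, hy⟩
      exact (hCmem y).2 (hSsym c.2 y (by rw [hy, toAdd_ofAdd]))⟩
    apply Nat.card_le_card_of_injective g
    intro c d hcd
    have h1 : (c : K) * (f x).toAdd = d * (f x).toAdd :=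
      Multiplicative.ofAdd.injective (congrArg Subtype.val hcd)
    exact Subtype.ext (mul_right_cancel₀ hfx h1)
  have hzb : Nat.card f.ker * p ^ b ≤ p ^ a := by
    rw [← hcardC, ← hcardC2]
    exact Nat.mul_le_mul_left _ hle
  have hba' : b ≤ a := Nat.le_of_dvd (by
    rw [ha]; exact orderOf_pos_of_ne hpq) hba
  have hz : Nat.card f.ker ≤ p ^ (a - b) := by
    have h1 : p ^ a = p ^ (a - b) * p ^ b := by rw [← pow_add]; congr 1; omega
    rw [h1] at hzb
    exact Nat.le_of_mul_le_mul_right hzb (pow_pos hp.out.pos b)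
  by_cases hodd : a % 2 = 1
  · -- then `b = a`, a contradiction
    exfalso
    obtain ⟨n, hn⟩ := hba
    have hb0 : 0 < b := by
      rcases Nat.eq_zero_or_pos b with h0 | h0
      · rw [h0, zero_mul] at hn; omega
      · exact h0
    have hn2 : n ≤ 2 := by
      by_contra hcon
      push Not at hcon
      have : b * 3 ≤ b * n := Nat.mul_le_mul_left b hcon
      omega
    have hab3 : b = a := by
      interval_cases n
      · omega
      · omega
      · omega
    rw [hab3, Nat.sub_self, pow_zero] at hz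
    have hker1 : f.ker = ⊥ := Subgroup.card_eq_one.1 (le_antisymm hz hzpos)
    apply hab
    intro u v
    rw [← commutatorElement_eq_one_iff_mul_comm, ← mem_bot, ← hker1, hkerZ]
    exact commutator_mem_center hpq hP h hσ u v
  · rw [if_neg hodd] at ha₀
    rw [← hcardP]
    refine (Nat.mul_le_mul_right _ hz).trans ?_
    rw [← pow_add]
    apply Nat.pow_le_pow_right hp.out.pos
    omega

end

end Cfsg.Agent.H583.SchmidtBound
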