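/-
Universality of the largest `p`-part: fibre products over `K`.
-/
import Mathlib
import Cfsg.Agent.H583.SchmidtBound

set_option autoImplicit false

namespace Cfsg.Agent.H583.SchmidtFibre

open Subgroup
open scoped commutatorElement
open Cfsg.Agent.H583.MinAction Cfsg.Agent.H583.SchmidtLin Cfsg.Agent.H583.SchmidtField Cfsg.Agent.H583.SchmidtCoord
open Cfsg.Agent.H583.SchmidtBound

theorem exists_hom {p q : ℕ} [hp : Fact p.Prime] [hq : Fact q.Prime] (hpq : p ≠ q) {a : ℕ}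
    (ha : a = orderOf (p : ZMod q)) {K : Type*} [Field K] [Finite K] (hK : Nat.card K = p ^ a) {ζ : K}
    (hζ : IsPrimitiveRoot ζ q) (a₀ : ℕ) (ha₀ : a₀ = if a % 2 = 1 then a else 3 * a / 2)
    {P₁ P₂ : Type*} [Group P₁] [Finite P₁] [Group P₂] [Finite P₂] {σ₁ : MulAut P₁} {σ₂ : MulAut P₂}
    (hP₁ : IsPGroup p P₁) (hP₂ : IsPGroup p P₂) (h₁ : MinAct σ₁) (h₂ : MinAct σ₂) (hσ₁ : σ₁ ^ q = 1)
    (hσ₂ : σ₂ ^ q = 1) {f₁ : P₁ →* Multiplicative K} {f₂ : P₂ →* Multiplicative K} (hf₁ : Coord σ₁ ζ f₁)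
    (hf₂ : Coord σ₂ ζ f₂) (hcard : Nat.card P₁ = p ^ a₀) :
    ∃ g : P₁ →* P₂, Function.Surjective g ∧ (∀ x, g (σ₁ x) = σ₂ (g x)) ∧ ∀ x, g x = 1 → σ₁ x = x := by
  let R : Subgroup (P₁ × P₂) :=
    { carrier := {x | f₁ x.1 = f₂ x.2}
      one_mem' := by
        change f₁ 1 = f₂ 1
        rw [map_one, map_one]
      mul_mem' := by
        intro x y hx hy
        change f₁ (x.1 * y.1) = f₂ (x.2 * y.2)
        rw [map_mul, map_mul, hx, hy]
      inv_mem' := by
        intro x hx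
        change f₁ x.1⁻¹ = f₂ x.2⁻¹
        rw [map_inv, map_inv, hx] }
  have hRmem : ∀ x : P₁ × P₂, x ∈ R ↔ f₁ x.1 = f₂ x.2 := fun x => Iff.rfl
  let τ : MulAut (P₁ × P₂) := MulEquiv.prodCongr σ₁ σ₂
  have hτ : ∀ x : P₁ × P₂, τ x = (σ₁ x.1, σ₂ x.2) := fun x => rfl
  have hτR : ∀ x ∈ R, τ x ∈ R := by
    intro x hx
    rw [hRmem] at hx ⊢
    apply Multiplicative.toAdd.injective
    rw [hτ]
    change (f₁ (σ₁ x.1)).toAdd = (f₂ (σ₂ x.2)).toAdd
    rw [hf₁.equiv, hf₂.equiv, hx]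
  set D : Subgroup (P₁ × P₂) := closure ((fun r => r⁻¹ * τ r) '' (R : Set (P₁ × P₂))) with hD
  have hmemD : ∀ r ∈ R, r⁻¹ * τ r ∈ D := fun r hr => Subgroup.subset_closure ⟨r, hr, rfl⟩
  have hDle : ∀ E : Subgroup (P₁ × P₂), (∀ r ∈ R, r⁻¹ * τ r ∈ E) → D ≤ E := by
    intro E hE
    rw [hD, closure_le]
    rintro _ ⟨r, hr, rfl⟩
    exact hE r hr
  have hDR : D ≤ R := by
    rw [hD, closure_le]
    rintro _ ⟨r, hr, rfl⟩
    exact mul_mem (inv_mem hr) (hτR r hr)
  have hτD : ∀ x ∈ D, τ x ∈ D := by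
    have h1 : D ≤ D.comap (τ : P₁ × P₂ →* P₁ × P₂) := by
      rw [hD, closure_le]
      rintro _ ⟨r, hr, rfl⟩
      have h2 : τ (r⁻¹ * τ r) = (τ r)⁻¹ * τ (τ r) := by rw [map_mul, map_inv]
      change τ (r⁻¹ * τ r) ∈ D
      rw [h2]
      exact hmemD _ (hτR r hr)
    intro x hx
    exact h1 hx
  -- the restriction of `τ` to `D`
  let δ₀ : D →* D := ((τ : P₁ × P₂ →* P₁ × P₂).comp D.subtype).codRestrict D (fun x => hτD x x.2)
  have hδ₀ : ∀ x : D, ((δ₀ x : D) : P₁ × P₂) = τ x := fun x => rfl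
  have hδ₀i : Function.Injective δ₀ := by
    intro x y hxy
    have h1 := congrArg Subtype.val hxy
    rw [hδ₀, hδ₀] at h1
    exact Subtype.ext (τ.injective h1)
  let δ : MulAut D := MulEquiv.ofBijective δ₀ ⟨hδ₀i, Finite.surjective_of_injective hδ₀i⟩
  have hδ : ∀ x : D, ((δ x : D) : P₁ × P₂) = τ x := fun x => rfl
  have hδn : ∀ n : ℕ, ∀ x : D, (((δ ^ n) x : D) : P₁ × P₂) = ((σ₁ ^ n) x.1.1, (σ₂ ^ n) x.1.2) := by
    intro n
    induction n with
    | zero => intro x; rfl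
    | succ n ih =>
      intro x
      rw [pow_succ', MulAut.mul_apply, hδ, ih, hτ, pow_succ', pow_succ', MulAut.mul_apply, MulAut.mul_apply]
  have hδq : δ ^ q = 1 := by
    ext x : 1
    apply Subtype.ext
    rw [hδn, hσ₁, hσ₂]
    rfl
  have hDp : IsPGroup p D := by
    have h1 : IsPGroup p (P₁ × P₂) := by
      obtain ⟨m, hm⟩ := IsPGroup.iff_card.1 hP₁
      obtain ⟨n, hn⟩ := IsPGroup.iff_card.1 hP₂
      apply IsPGroup.of_card (n := m + n)
      rw [Nat.card_prod, hm, hn, pow_add]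
    exact h1.to_subgroup D
  -- projections
  let π₁ : D →* P₁ := (MonoidHom.fst P₁ P₂).comp D.subtype
  let π₂ : D →* P₂ := (MonoidHom.snd P₁ P₂).comp D.subtype
  have hπ₁ : Function.Surjective π₁ := by
    rw [← MonoidHom.range_eq_top]
    apply eq_top_of_mem hpq hP₁ h₁ hσ₁
    intro x
    obtain ⟨y, hy⟩ := hf₂.surj (f₁ x)
    exact ⟨⟨_, hmemD (x, y) hy.symm⟩, rfl⟩
  have hπ₂ : Function.Surjective π₂ := by
    rw [← MonoidHom.range_eq_top]
    apply eq_top_of_mem hpq hP₂ h₂ hσ₂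
    intro y
    obtain ⟨x, hx⟩ := hf₁.surj (f₂ y)
    exact ⟨⟨_, hmemD (x, y) hx⟩, rfl⟩
  have hfix_of : ∀ x : D, f₁ x.1.1 = 1 → δ x = x := by
    intro x hx
    have h1 : f₂ x.1.2 = 1 := by
      rw [← (hRmem x.1).1 (hDR x.2), hx]
    apply Subtype.ext
    rw [hδ, hτ]
    exact Prod.ext ((hf₁.ker _).1 hx) ((hf₂.ker _).1 h1)
  have hmin : MinAct δ := by
    refine ⟨?_, ?_⟩
    · intro h1
      apply h₁.ne_one
      ext x
      obtain ⟨d, rfl⟩ := hπ₁ x
      have h2 : δ d = d := by rw [h1]; rfl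
      have h3 : (τ d.1).1 = d.1.1 := by rw [← hδ, h2]
      exact h3
    · intro H hH hinv
      let A : AddSubgroup K :=
        { carrier := {c | ∃ x ∈ H, (f₁ x.1.1).toAdd = c}
          zero_mem' := ⟨1, one_mem _, by
            change (f₁ 1).toAdd = 0
            rw [map_one, toAdd_one]⟩
          add_mem' := by
            rintro _ _ ⟨x, hx, rfl⟩ ⟨y, hy, rfl⟩
            refine ⟨x * y, mul_mem hx hy, ?_⟩
            change (f₁ (x.1.1 * y.1.1)).toAdd = _
            rw [map_mul, toAdd_mul]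
          neg_mem' := by
            rintro _ ⟨x, hx, rfl⟩
            refine ⟨x⁻¹, inv_mem hx, ?_⟩
            change (f₁ (x.1.1)⁻¹).toAdd = _
            rw [map_inv, toAdd_inv] }
      rcases eq_bot_or_eq_top (p := p) (q := q) ha hK hζ A (by
        rintro _ ⟨x, hx, rfl⟩
        refine ⟨δ x, hinv x hx, ?_⟩
        rw [← hf₁.equiv]
        rfl) with h1 | h1
      · intro x hx
        apply hfix_of
        have h2 : (f₁ x.1.1).toAdd ∈ A := ⟨x, hx, rfl⟩
        rw [h1, AddSubgroup.mem_bot] at h2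
        exact h2
      · exfalso
        apply hH
        have hle : D ≤ H.map D.subtype := by
          apply hDle
          intro r hr
          have h2 : (f₁ r.1).toAdd ∈ A := by rw [h1]; trivial
          obtain ⟨x, hx, hxr⟩ := h2
          have h3 : f₁ x.1.1 = f₁ r.1 := hxr
          have h4 : f₂ x.1.2 = f₂ r.2 := by
            rw [← (hRmem x.1).1 (hDR x.2), h3]
            exact (hRmem r).1 hr
          set z : P₁ × P₂ := (x : P₁ × P₂)⁻¹ * r with hz
          have hz1 : σ₁ z.1 = z.1 := by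
            apply (hf₁.ker _).1
            change f₁ ((x : P₁ × P₂).1⁻¹ * r.1) = 1
            rw [map_mul, map_inv, h3, inv_mul_cancel]
          have hz2 : σ₂ z.2 = z.2 := by
            apply (hf₂.ker _).1
            change f₂ ((x : P₁ × P₂).2⁻¹ * r.2) = 1
            rw [map_mul, map_inv, h4, inv_mul_cancel]
          have hτz : τ z = z := by
            rw [hτ]; exact Prod.ext hz1 hz2
          have hzc : ∀ w : P₁ × P₂, z * w = w * z := by
            intro w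
            have c1 := mem_center_iff.1 (mem_center_of_fix hpq hP₁ h₁ hσ₁ hz1) w.1
            have c2 := mem_center_iff.1 (mem_center_of_fix hpq hP₂ h₂ hσ₂ hz2) w.2
            exact Prod.ext c1.symm c2.symm
          have hrz : r = x * z := by rw [hz, mul_inv_cancel_left]
          have h5 : r⁻¹ * τ r = (x : P₁ × P₂)⁻¹ * τ x := by
            rw [hrz, map_mul, hτz, mul_inv_rev]
            calc z⁻¹ * (x : P₁ × P₂)⁻¹ * (τ x * z) = z⁻¹ * ((x : P₁ × P₂)⁻¹ * τ x * z) := by group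
              _ = z⁻¹ * (z * ((x : P₁ × P₂)⁻¹ * τ x)) := by rw [hzc]
              _ = (x : P₁ × P₂)⁻¹ * τ x := by group
          rw [h5]
          exact ⟨x⁻¹ * δ x, mul_mem (inv_mem hx) (hinv x hx), rfl⟩
        rw [eq_top_iff]
        intro x _
        obtain ⟨y, hy, hyx⟩ := hle x.2
        have : y = x := Subtype.ext hyx
        rw [← this]; exact hy
  have hcoord : Coord δ ζ (f₁.comp π₁) := by
    refine ⟨hf₁.surj.comp hπ₁, ?_, ?_⟩
    · intro x
      exact hf₁.equiv x.1.1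
    · intro x
      constructor
      · exact hfix_of x
      · intro hx
        have h3 : (τ x.1).1 = x.1.1 := by rw [← hδ, hx]
        exact (hf₁.ker _).2 h3
  have hDcard := card_le hpq hDp hmin hδq ha hK hζ hcoord a₀ ha₀
  rw [← hcard] at hDcard
  have hbij : Function.Bijective π₁ := hπ₁.bijective_of_nat_card_le hDcard
  let e : D ≃* P₁ := MulEquiv.ofBijective π₁ hbij
  refine ⟨π₂.comp e.symm.toMonoidHom, ?_, ?_, ?_⟩
  · exact hπ₂.comp e.symm.surjective
  · intro x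
    obtain ⟨d, rfl⟩ := e.surjective x
    change π₂ (e.symm (σ₁ (e d))) = σ₂ (π₂ (e.symm (e d)))
    rw [e.symm_apply_apply]
    have h1 : σ₁ (e d) = e (δ d) := rfl
    rw [h1, e.symm_apply_apply]
    rfl
  · intro x hx
    obtain ⟨d, rfl⟩ := e.surjective x
    change π₂ (e.symm (e d)) = 1 at hx
    rw [e.symm_apply_apply] at hx
    have h1 : f₁ d.1.1 = 1 := by
      rw [(hRmem d.1).1 (hDR d.2)]
      have h2 : d.1.2 = 1 := hx
      rw [h2, map_one]
    exact (hf₁.ker _).1 h1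

end Cfsg.Agent.H583.SchmidtFibre
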