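/-
The largest `p`-part: the group of the `(x, w) ∈ K × K` with `w + w ^ τ = x * x ^ τ`.
-/
import Mathlib
import Cfsg.Agent.H583.SchmidtCoord

set_option autoImplicit false

namespace Cfsg.Agent.H583.SchmidtMax

open Cfsg.Agent.H583.MinAction Cfsg.Agent.H583.SchmidtLin Cfsg.Agent.H583.SchmidtField Cfsg.Agent.H583.SchmidtCoord

/-- Pairs, with the multiplication twisted by `τ`. -/
@[ext] structure Her {K : Type*} [Field K] (τ : K →+* K) where
  /-- first coordinate -/
  x : K
  /-- second coordinate -/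
  w : K

section

variable {K : Type*} [Field K] (τ : K →+* K)

instance : Mul (Her τ) := ⟨fun a b => ⟨a.x + b.x, a.w + b.w + a.x * τ b.x⟩⟩
instance : One (Her τ) := ⟨⟨0, 0⟩⟩
instance : Inv (Her τ) := ⟨fun a => ⟨-a.x, -a.w + a.x * τ a.x⟩⟩

@[simp] theorem mul_x (a b : Her τ) : (a * b).x = a.x + b.x := rfl
@[simp] theorem mul_w (a b : Her τ) : (a * b).w = a.w + b.w + a.x * τ b.x := rfl
@[simp] theorem one_x : (1 : Her τ).x = 0 := rfl
@[simp] theorem one_w : (1 : Her τ).w = 0 := rfl
@[simp] theorem inv_x (a : Her τ) : (a⁻¹).x = -a.x := rfl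
@[simp] theorem inv_w (a : Her τ) : (a⁻¹).w = -a.w + a.x * τ a.x := rfl

instance : Group (Her τ) where
  mul_assoc a b c := by
    ext
    · simp only [mul_x]; ring
    · simp only [mul_x, mul_w, map_add]; ring
  one_mul a := by
    ext
    · simp
    · simp
  mul_one a := by
    ext
    · simp
    · simp
  inv_mul_cancel a := by
    ext
    · simp
    · simp only [inv_x, inv_w, mul_w, one_w]; ring

/-- The pairs with `w + w ^ τ = x * x ^ τ`. -/
def herSub (hτ : ∀ x, τ (τ x) = x) : Subgroup (Her τ) where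
  carrier := {a | a.w + τ a.w = a.x * τ a.x}
  one_mem' := by
    change (0 : K) + τ 0 = 0 * τ 0
    simp
  mul_mem' := by
    intro a b ha hb
    change a.w + b.w + a.x * τ b.x + τ (a.w + b.w + a.x * τ b.x) = (a.x + b.x) * τ (a.x + b.x)
    have ha' : a.w + τ a.w = a.x * τ a.x := ha
    have hb' : b.w + τ b.w = b.x * τ b.x := hb
    rw [map_add, map_add, map_mul, map_add, hτ]
    linear_combination ha' + hb'
  inv_mem' := by
    intro a ha
    change -a.w + a.x * τ a.x + τ (-a.w + a.x * τ a.x) = (-a.x) * τ (-a.x)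
    have ha' : a.w + τ a.w = a.x * τ a.x := ha
    rw [map_add, map_mul, map_neg, map_neg, hτ]
    linear_combination -ha'

theorem mem_herSub (hτ : ∀ x, τ (τ x) = x) (a : Her τ) : a ∈ herSub τ hτ ↔ a.w + τ a.w = a.x * τ a.x := Iff.rfl

end

/-- Sufficient condition for `MinAct`. -/
theorem minAct_of {p q a : ℕ} [hp : Fact p.Prime] [hq : Fact q.Prime] (ha : a = orderOf (p : ZMod q))
    {K : Type*} [Field K] [Finite K] (hK : Nat.card K = p ^ a) {ζ : K} (hζ : IsPrimitiveRoot ζ q)
    {P : Type*} [Group P] (σ : MulAut P) (f : P →* Multiplicative K) (hf : Coord σ ζ f)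
    (hgen : ∀ H : Subgroup P, (∀ c, ∃ x ∈ H, f x = c) → H = ⊤) : MinAct σ := by
  refine ⟨?_, ?_⟩
  · intro h1
    obtain ⟨x, hx⟩ := hf.surj (Multiplicative.ofAdd 1)
    have h2 := (hf.ker x).2 (by rw [h1]; rfl)
    rw [hx, ofAdd_eq_one] at h2
    exact one_ne_zero h2
  · intro H hH hinv
    let A : AddSubgroup K :=
      { carrier := {c | ∃ x ∈ H, (f x).toAdd = c}
        zero_mem' := ⟨1, one_mem _, by rw [map_one, toAdd_one]⟩
        add_mem' := by
          rintro _ _ ⟨x, hx, rfl⟩ ⟨y, hy, rfl⟩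
          refine ⟨x * y, mul_mem hx hy, ?_⟩
          rw [map_mul, toAdd_mul]
        neg_mem' := by
          rintro _ ⟨x, hx, rfl⟩
          refine ⟨x⁻¹, inv_mem hx, ?_⟩
          rw [map_inv, toAdd_inv] }
    rcases eq_bot_or_eq_top (p := p) (q := q) ha hK hζ A (by
      rintro _ ⟨x, hx, rfl⟩
      exact ⟨σ x, hinv x hx, hf.equiv x⟩) with h1 | h1
    · intro x hx
      apply (hf.ker x).1
      have h2 : (f x).toAdd ∈ A := ⟨x, hx, rfl⟩
      rw [h1, AddSubgroup.mem_bot] at h2
      exact h2
    · exfalso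
      apply hH
      apply hgen
      intro c
      have h2 : c.toAdd ∈ A := by rw [h1]; trivial
      exact h2

/-- Root counting. -/
theorem card_roots_le {K : Type*} [Field K] [Finite K] (N : ℕ) (hN : 1 < N) (c : K) :
    Nat.card {x : K // x ^ N = c * x} ≤ N := by
  classical
  have := Fintype.ofFinite K
  set f : Polynomial K := Polynomial.X ^ N - Polynomial.C c * Polynomial.X with hf
  have hdeg : f.degree = N := by
    rw [hf]
    apply Polynomial.degree_sub_eq_left_of_degree_lt (by
      rw [Polynomial.degree_X_pow]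
      refine (Polynomial.degree_C_mul_X_le c).trans_lt ?_
      exact_mod_cast hN) |>.trans
    exact Polynomial.degree_X_pow N
  have hf0 : f ≠ 0 := by
    intro h
    rw [h, Polynomial.degree_zero] at hdeg
    exact absurd hdeg (by simp)
  have h1 : ∀ x : {x : K // x ^ N = c * x}, (x : K) ∈ f.roots.toFinset := by
    intro x
    rw [Multiset.mem_toFinset, Polynomial.mem_roots hf0, Polynomial.IsRoot.def, hf]
    simp [x.2]
  have h2 : Nat.card {x : K // x ^ N = c * x} ≤ f.roots.toFinset.card := by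
    have h3 := Nat.card_le_card_of_injective
      (fun x : {x : K // x ^ N = c * x} => (⟨x.1, h1 x⟩ : f.roots.toFinset))
      (fun x y hxy => Subtype.ext (congrArg (fun z : f.roots.toFinset => (z : K)) hxy))
    rwa [Nat.card_eq_fintype_card (α := f.roots.toFinset), Fintype.card_coe] at h3
  refine h2.trans ((Multiset.toFinset_card_le _).trans ?_)
  refine (Polynomial.card_roots' f).trans ?_
  rw [Polynomial.natDegree_eq_of_degree_eq_some hdeg]

section

variable {p q a : ℕ} [hp : Fact p.Prime] [hq : Fact q.Prime] (hpq : p ≠ q) (ha : a = orderOf (p : ZMod q))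
  {K : Type} [Field K] [Finite K] (hK : Nat.card K = p ^ a) {ζ : K} (hζ : IsPrimitiveRoot ζ q)

include ha hK hζ in
theorem exists_max_odd : ∃ (P : Type) (_ : Group P) (_ : Finite P) (σ : MulAut P) (f : P →* Multiplicative K),
    IsPGroup p P ∧ MinAct σ ∧ σ ^ q = 1 ∧ Coord σ ζ f ∧ Nat.card P = p ^ a := by
  have hζ0 : ζ ≠ 0 := hζ.ne_zero hq.out.ne_zero
  let σ : MulAut (Multiplicative K) :=
    { toFun := fun x => Multiplicative.ofAdd (ζ * x.toAdd)
      invFun := fun x => Multiplicative.ofAdd (ζ⁻¹ * x.toAdd)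
      left_inv := fun x => by
        change Multiplicative.ofAdd (ζ⁻¹ * (ζ * x.toAdd)) = x
        rw [inv_mul_cancel_left₀ hζ0]; rfl
      right_inv := fun x => by
        change Multiplicative.ofAdd (ζ * (ζ⁻¹ * x.toAdd)) = x
        rw [mul_inv_cancel_left₀ hζ0]; rfl
      map_mul' := fun x y => by
        change Multiplicative.ofAdd (ζ * (x.toAdd + y.toAdd)) = Multiplicative.ofAdd (ζ * x.toAdd + ζ * y.toAdd)
        rw [mul_add] }
  have hcard : Nat.card (Multiplicative K) = p ^ a := hK
  have hσn : ∀ n : ℕ, ∀ x : Multiplicative K, ((σ ^ n) x).toAdd = ζ ^ n * x.toAdd := by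
    intro n
    induction n with
    | zero => intro x; simp
    | succ n ih =>
      intro x
      rw [pow_succ', MulAut.mul_apply]
      change ζ * ((σ ^ n) x).toAdd = _
      rw [ih, pow_succ', mul_assoc]
  have hcoord : Coord σ ζ (MonoidHom.id (Multiplicative K)) := by
    refine ⟨Function.surjective_id, fun x => rfl, ?_⟩
    intro x
    constructor
    · intro h
      have h1 : x = 1 := h
      rw [h1, map_one]
    · intro h
      have h1 : ζ * x.toAdd = x.toAdd := congrArg Multiplicative.toAdd h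
      have h4 : (ζ - 1) * x.toAdd = 0 := by rw [sub_mul, h1, one_mul, sub_self]
      rcases mul_eq_zero.1 h4 with h5 | h5
      · exact absurd (sub_eq_zero.1 h5) (hζ.ne_one hq.out.one_lt)
      · exact h5
  refine ⟨Multiplicative K, inferInstance, inferInstance, σ, MonoidHom.id _, IsPGroup.of_card hcard, ?_, ?_, hcoord,
    hcard⟩
  · apply minAct_of (p := p) (q := q) ha hK hζ σ (MonoidHom.id _) hcoord
    intro H hH
    rw [eq_top_iff]
    intro x _
    obtain ⟨y, hy, hyx⟩ := hH x
    have : y = x := hyx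
    rw [← this]; exact hy
  · ext x
    change ((σ ^ q) x).toAdd = x.toAdd
    rw [hσn, hζ.pow_eq_one, one_mul]

include ha hK hζ in
theorem exists_max_even (m : ℕ) (ham : a = 2 * m) (hm : 0 < m) :
    ∃ (P : Type) (_ : Group P) (_ : Finite P) (σ : MulAut P) (f : P →* Multiplicative K),
    IsPGroup p P ∧ MinAct σ ∧ σ ^ q = 1 ∧ Coord σ ζ f ∧ Nat.card P = p ^ (3 * m) := by
  classical
  have hζ0 : ζ ≠ 0 := hζ.ne_zero hq.out.ne_zero
  have := Fintype.ofFinite K
  have hKF : Fintype.card K = p ^ a := by rw [← Nat.card_eq_fintype_card, hK]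
  have hchar : CharP K p := by
    have h1 : ((p ^ a : ℕ) : K) = 0 := by rw [← hKF]; exact FiniteField.cast_card_eq_zero K
    rw [Nat.cast_pow] at h1
    exact (CharP.charP_iff_prime_eq_zero hp.out).2 (pow_eq_zero_iff (by omega) |>.1 h1)
  let τ : K →+* K := iterateFrobenius K p m
  have hτ' : ∀ x, τ x = x ^ p ^ m := fun x => iterateFrobenius_def p m x
  have hτ : ∀ x, τ (τ x) = x := by
    intro x
    rw [hτ', hτ', ← pow_mul, ← pow_add, ← two_mul, ← ham, ← hKF]
    exact FiniteField.pow_card x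
  -- `ζ * τ ζ = 1`
  have hζτ : ζ * τ ζ = 1 := by
    have hpm : ((p : ZMod q) ^ m) ^ 2 = 1 := by
      rw [← pow_mul, mul_comm, ← ham, ha]
      exact pow_orderOf_eq_one _
    have hpm1 : (p : ZMod q) ^ m ≠ 1 := by
      intro h1
      have h2 := orderOf_dvd_of_pow_eq_one h1
      rw [← ha] at h2
      have := Nat.le_of_dvd hm h2
      omega
    have hpm2 : (p : ZMod q) ^ m = -1 := by
      have h1 : ((p : ZMod q) ^ m - 1) * ((p : ZMod q) ^ m + 1) = 0 := by
        linear_combination hpm
      rcases mul_eq_zero.1 h1 with h2 | h2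
      · exact absurd (sub_eq_zero.1 h2) hpm1
      · exact eq_neg_of_add_eq_zero_left h2
    have hdvd : q ∣ p ^ m + 1 := by
      rw [← ZMod.natCast_eq_zero_iff]
      push_cast
      rw [hpm2, neg_add_cancel]
    rw [hτ', ← pow_succ']
    exact (hζ.pow_eq_one_iff_dvd _).2 hdvd
  have hN : 1 < p ^ m := Nat.one_lt_pow hm.ne' hp.out.one_lt
  -- the homomorphisms `w ↦ w + τ w` and `w ↦ w - τ w`
  let Tr : K →+ K := AddMonoidHom.id K + (τ : K →+ K)
  let De : K →+ K := AddMonoidHom.id K - (τ : K →+ K)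
  have hTr : ∀ w, Tr w = w + τ w := fun w => rfl
  have hDe : ∀ w, De w = w - τ w := fun w => rfl
  have hTrk : Nat.card Tr.ker ≤ p ^ m := by
    refine (Nat.card_le_card_of_injective
      (fun w : Tr.ker => (⟨w, by
        have h1 : (w : K) + τ w = 0 := w.2
        rw [← hτ' w, neg_one_mul]
        exact eq_neg_of_add_eq_zero_right h1⟩ : {x : K // x ^ p ^ m = (-1) * x})) ?_).trans
        (card_roots_le (p ^ m) hN (-1 : K))
    intro x y hxy
    exact Subtype.ext (congrArg (fun z : {x : K // x ^ p ^ m = (-1) * x} => (z : K)) hxy)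
  have hDek : Nat.card De.ker ≤ p ^ m := by
    refine (Nat.card_le_card_of_injective
      (fun w : De.ker => (⟨w, by
        have h1 : (w : K) - τ w = 0 := w.2
        rw [← hτ' w, one_mul]
        exact (sub_eq_zero.1 h1).symm⟩ : {x : K // x ^ p ^ m = 1 * x})) ?_).trans
        (card_roots_le (p ^ m) hN (1 : K))
    intro x y hxy
    exact Subtype.ext (congrArg (fun z : {x : K // x ^ p ^ m = 1 * x} => (z : K)) hxy)
  have hcard2 : Nat.card K = p ^ m * p ^ m := by rw [hK, ham, two_mul, pow_add]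
  have hDr : Nat.card De.ker * Nat.card De.range = p ^ m * p ^ m := by
    rw [← hcard2, ← De.ker.card_mul_index, AddSubgroup.index_ker]
  have hTrr : Nat.card Tr.ker * Nat.card Tr.range = p ^ m * p ^ m := by
    rw [← hcard2, ← Tr.ker.card_mul_index, AddSubgroup.index_ker]
  have hDT : De.range ≤ Tr.ker := by
    rintro _ ⟨y, rfl⟩
    rw [AddMonoidHom.mem_ker, hTr, hDe, map_sub, hτ]
    ring
  have hTD : Tr.range ≤ De.ker := by
    rintro _ ⟨y, rfl⟩
    rw [AddMonoidHom.mem_ker, hTr, hDe, map_add, hτ]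
    ring
  have hpos : 0 < p ^ m := pow_pos hp.out.pos m
  have hDrange : p ^ m ≤ Nat.card De.range := by
    by_contra hcon
    push Not at hcon
    have h1 : Nat.card De.ker * Nat.card De.range ≤ p ^ m * Nat.card De.range := Nat.mul_le_mul_right _ hDek
    have h2 : p ^ m * Nat.card De.range < p ^ m * p ^ m := Nat.mul_lt_mul_of_pos_left hcon hpos
    omega
  have hTrange : p ^ m ≤ Nat.card Tr.range := by
    by_contra hcon
    push Not at hcon
    have h1 : Nat.card Tr.ker * Nat.card Tr.range ≤ p ^ m * Nat.card Tr.range := Nat.mul_le_mul_right _ hTrk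
    have h2 : p ^ m * Nat.card Tr.range < p ^ m * p ^ m := Nat.mul_lt_mul_of_pos_left hcon hpos
    omega
  have hDTeq : De.range = Tr.ker :=
    AddSubgroup.eq_of_le_of_card_ge hDT (hTrk.trans hDrange)
  have hTDeq : Tr.range = De.ker :=
    AddSubgroup.eq_of_le_of_card_ge hTD (hDek.trans hTrange)
  have hTkcard : Nat.card Tr.ker = p ^ m := le_antisymm hTrk (by rw [← hDTeq]; exact hDrange)
  -- the group
  have hfinH : Finite (Her τ) := by
    apply Finite.of_injective (fun a : Her τ => (a.x, a.w))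
    intro a b hab
    exact Her.ext (congrArg Prod.fst hab) (congrArg Prod.snd hab)
  set P : Subgroup (Her τ) := herSub τ hτ with hP
  let σ₀ : P →* P :=
    { toFun := fun a => ⟨⟨ζ * a.1.x, a.1.w⟩, by
        have h1 := (mem_herSub τ hτ a.1).1 a.2
        change a.1.w + τ a.1.w = ζ * a.1.x * τ (ζ * a.1.x)
        rw [h1, map_mul]
        linear_combination (- a.1.x * τ a.1.x) * hζτ⟩
      map_one' := by
        apply Subtype.ext
        apply Her.ext
        · change ζ * 0 = 0
          rw [mul_zero]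
        · rfl
      map_mul' := by
        intro a b
        apply Subtype.ext
        apply Her.ext
        · change ζ * (a.1.x + b.1.x) = ζ * a.1.x + ζ * b.1.x
          ring
        · change a.1.w + b.1.w + a.1.x * τ b.1.x = a.1.w + b.1.w + ζ * a.1.x * τ (ζ * b.1.x)
          rw [map_mul]
          linear_combination (- a.1.x * τ b.1.x) * hζτ }
  have hσ₀x : ∀ a : P, (σ₀ a).1.x = ζ * a.1.x := fun a => rfl
  have hσ₀w : ∀ a : P, (σ₀ a).1.w = a.1.w := fun a => rfl
  have hσ₀i : Function.Injective σ₀ := by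
    intro a b hab
    have h1 : ζ * a.1.x = ζ * b.1.x := by rw [← hσ₀x, ← hσ₀x, hab]
    have h2 : a.1.w = b.1.w := by rw [← hσ₀w a, ← hσ₀w b, hab]
    exact Subtype.ext (Her.ext (mul_left_cancel₀ hζ0 h1) h2)
  let σ : MulAut P := MulEquiv.ofBijective σ₀ ⟨hσ₀i, Finite.surjective_of_injective hσ₀i⟩
  have hσx : ∀ a : P, (σ a).1.x = ζ * a.1.x := fun a => rfl
  have hσw : ∀ a : P, (σ a).1.w = a.1.w := fun a => rfl
  have hσnx : ∀ n : ℕ, ∀ a : P, ((σ ^ n) a).1.x = ζ ^ n * a.1.x := by
    intro n
    induction n with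
    | zero => intro x; simp
    | succ n ih =>
      intro x
      rw [pow_succ', MulAut.mul_apply, hσx, ih, pow_succ', mul_assoc]
  have hσnw : ∀ n : ℕ, ∀ a : P, ((σ ^ n) a).1.w = a.1.w := by
    intro n
    induction n with
    | zero => intro x; simp
    | succ n ih =>
      intro x
      rw [pow_succ', MulAut.mul_apply, hσw, ih]
  let f : P →* Multiplicative K :=
    { toFun := fun a => Multiplicative.ofAdd a.1.x
      map_one' := rfl
      map_mul' := fun a b => rfl }
  have hfsurj : Function.Surjective f := by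
    intro c
    have h1 : c.toAdd * τ c.toAdd ∈ De.ker := by
      rw [AddMonoidHom.mem_ker, hDe, map_mul, hτ]
      ring
    rw [← hTDeq] at h1
    obtain ⟨w, hw⟩ := h1
    rw [hTr] at hw
    exact ⟨⟨⟨c.toAdd, w⟩, hw⟩, rfl⟩
  have hcoord : Coord σ ζ f := by
    refine ⟨hfsurj, fun x => rfl, ?_⟩
    intro a
    constructor
    · intro h
      have h1 : a.1.x = 0 := h
      apply Subtype.ext
      apply Her.ext
      · rw [hσx, h1, mul_zero]
      · exact hσw a
    · intro h
      have h1 : ζ * a.1.x = a.1.x := by rw [← hσx, h]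
      have h4 : (ζ - 1) * a.1.x = 0 := by rw [sub_mul, h1, one_mul, sub_self]
      rcases mul_eq_zero.1 h4 with h5 | h5
      · exact absurd (sub_eq_zero.1 h5) (hζ.ne_one hq.out.one_lt)
      · exact h5
  have hkerf : Nat.card f.ker = p ^ m := by
    rw [← hTkcard]
    refine Nat.card_congr
      { toFun := fun a => ⟨a.1.1.w, by
          have h1 : a.1.1.x = 0 := a.2
          have h2 := (mem_herSub τ hτ a.1.1).1 a.1.2
          rw [AddMonoidHom.mem_ker, hTr, h2, h1, zero_mul]⟩
        invFun := fun w => ⟨⟨⟨0, w⟩, by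
          have h1 : (w : K) + τ w = 0 := w.2
          change (w : K) + τ w = 0 * τ 0
          rw [h1, zero_mul]⟩, rfl⟩
        left_inv := ?_
        right_inv := fun w => rfl }
    intro a
    have h1 : a.1.1.x = 0 := a.2
    apply Subtype.ext
    apply Subtype.ext
    apply Her.ext
    · exact h1.symm
    · rfl
  have hcardP : Nat.card P = p ^ (3 * m) := by
    rw [← f.ker.card_mul_index, Subgroup.index_ker, MonoidHom.range_eq_top.2 hfsurj, hkerf,
      Nat.card_congr (Subgroup.topEquiv (G := Multiplicative K)).toEquiv]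
    change p ^ m * Nat.card K = _
    rw [hK, ham, ← pow_add]
    congr 1
    ring
  refine ⟨P, inferInstance, inferInstance, σ, f, IsPGroup.of_card hcardP, ?_, ?_, hcoord, hcardP⟩
  · apply minAct_of (p := p) (q := q) ha hK hζ σ f hcoord
    intro H hH
    -- `ker f ≤ H`
    obtain ⟨v, hv, hv1⟩ := hH (Multiplicative.ofAdd 1)
    have hvx : v.1.x = 1 := hv1
    have hker : ∀ z : P, f z = 1 → z ∈ H := by
      intro z hz
      have hzx : z.1.x = 0 := hz
      have hzw : z.1.w ∈ Tr.ker := by
        have h2 := (mem_herSub τ hτ z.1).1 z.2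
        rw [AddMonoidHom.mem_ker, hTr, h2, hzx, zero_mul]
      rw [← hDTeq] at hzw
      obtain ⟨y, hy⟩ := hzw
      rw [hDe] at hy
      obtain ⟨u, hu, hu1⟩ := hH (Multiplicative.ofAdd y)
      have hux : u.1.x = y := hu1
      have h3 : z = u * v * (v * u)⁻¹ := by
        rw [eq_mul_inv_iff_mul_eq]
        apply Subtype.ext
        apply Her.ext
        · change z.1.x + (v.1.x + u.1.x) = u.1.x + v.1.x
          rw [hzx]; ring
        · change z.1.w + (v.1.w + u.1.w + v.1.x * τ u.1.x) + z.1.x * τ (v.1.x + u.1.x) =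
            u.1.w + v.1.w + u.1.x * τ v.1.x
          rw [hzx, hvx, hux, map_one, ← hy]
          ring
      rw [h3]
      exact mul_mem (mul_mem hu hv) (inv_mem (mul_mem hv hu))
    rw [eq_top_iff]
    intro x _
    obtain ⟨y, hy, hyx⟩ := hH (f x)
    have h1 : y⁻¹ * x ∈ H := hker _ (by rw [map_mul, map_inv, hyx, inv_mul_cancel])
    have h2 : x = y * (y⁻¹ * x) := by group
    rw [h2]
    exact mul_mem hy h1
  · ext a : 1
    apply Subtype.ext
    apply Her.ext
    · rw [hσnx, hζ.pow_eq_one, one_mul]; rfl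
    · rw [hσnw]; rfl

include hpq ha hK hζ in
theorem exists_max (a₀ : ℕ) (ha₀ : a₀ = if a % 2 = 1 then a else 3 * a / 2) :
    ∃ (P : Type) (_ : Group P) (_ : Finite P) (σ : MulAut P) (f : P →* Multiplicative K),
    IsPGroup p P ∧ MinAct σ ∧ σ ^ q = 1 ∧ Coord σ ζ f ∧ Nat.card P = p ^ a₀ := by
  by_cases hodd : a % 2 = 1
  · rw [ha₀, if_pos hodd]
    exact exists_max_odd ha hK hζ
  · have hpos : 0 < a := by rw [ha]; exact orderOf_pos_of_ne hpq
    obtain ⟨m, hm⟩ : ∃ m, a = 2 * m := ⟨a / 2, by omega⟩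
    have h1 : a₀ = 3 * m := by
      rw [ha₀, if_neg hodd]; omega
    rw [h1]
    exact exists_max_even ha hK hζ m hm (by omega)

end

end Cfsg.Agent.H583.SchmidtMax
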