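/-
A group `P ⟨g⟩` with a normal `p`-subgroup `P`, `g` of order `q ^ r` acting on `P` by an automorphism of order `q` fixing
every proper invariant subgroup pointwise, is minimal non-`p`-nilpotent.
-/
import Mathlib
import Cfsg.Prelude.Def_Transfer
import Cfsg.Agent.Transfer.NormalPComplement
import Cfsg.Agent.Solvable.FpfThompson
import Cfsg.Agent.H583.MinAction
import Cfsg.Agent.H583.SchmidtAct

set_option autoImplicit false

namespace Cfsg.Agent.H583.SchmidtSemi

open Subgroup
open scoped commutatorElement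
open Cfsg.Agent.H583.MinAction Cfsg.Agent.H583.SchmidtAct

theorem isNilpotent_zpowers {G : Type*} [Group G] (x : G) : Group.IsNilpotent (zpowers x) := by
  let _ : CommGroup (zpowers x) :=
    { (inferInstance : Group (zpowers x)) with
      mul_comm := by
        rintro ⟨_, i, rfl⟩ ⟨_, j, rfl⟩
        apply Subtype.ext
        exact (Commute.refl x).zpow_zpow i j }
  infer_instance

section

variable {G : Type*} [Group G] [Finite G] {p q : ℕ} [hp : Fact p.Prime] [hq : Fact q.Prime] (hpq : p ≠ q)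
  (P : Subgroup G) (hPn : P.Normal) (hP : IsPGroup p P) (g : G) (r : ℕ) (hg : orderOf g = q ^ r)
  (hsup : P ⊔ zpowers g = ⊤)

include hpq hPn hP hg hsup

theorem disj : P ⊓ zpowers g = ⊥ := by
  apply Disjoint.eq_bot
  apply Subgroup.disjoint_of_coprime_natCard
  obtain ⟨n, hn⟩ := IsPGroup.iff_card.1 hP
  rw [hn, Nat.card_zpowers, hg]
  exact Nat.Coprime.pow n r ((Nat.coprime_primes hp.out hq.out).2 hpq)

theorem exists_mul (x : G) : ∃ y ∈ P, ∃ k : ℤ, x = y * g ^ k := by
  have hx : x ∈ P ⊔ zpowers g := by rw [hsup]; trivial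
  rw [mem_sup_of_normal_left] at hx
  obtain ⟨y, hy, _, ⟨k, rfl⟩, rfl⟩ := hx
  exact ⟨y, hy, k, rfl⟩

theorem isComplement : P.IsComplement' (zpowers g) := by
  apply isComplement'_of_disjoint_and_mul_eq_univ
  · rw [disjoint_iff]; exact disj hpq P hPn hP g r hg hsup
  · rw [Set.eq_univ_iff_forall]
    intro x
    obtain ⟨y, hy, k, rfl⟩ := exists_mul hpq P hPn hP g r hg hsup x
    exact Set.mul_mem_mul hy ⟨k, rfl⟩

theorem card_eq : Nat.card G = Nat.card P * q ^ r := by
  rw [← (isComplement hpq P hPn hP g r hg hsup).card_mul_card, Nat.card_zpowers, hg]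

theorem not_dvd_index : ¬ q ∣ (zpowers g).index := by
  have h1 : (zpowers g).index = Nat.card P := by
    have h2 := (zpowers g).card_mul_index
    rw [Nat.card_zpowers, hg, card_eq hpq P hPn hP g r hg hsup, mul_comm (Nat.card P)] at h2
    exact Nat.eq_of_mul_eq_mul_left (pow_pos hq.out.pos r) h2
  rw [h1]
  obtain ⟨n, hn⟩ := IsPGroup.iff_card.1 hP
  rw [hn]
  intro h
  exact hpq ((Nat.prime_dvd_prime_iff_eq hq.out hp.out).1 (hq.out.dvd_of_dvd_pow h)).symm

variable (σ : MulAut P) (hσg : ∀ x : P, ((σ x : P) : G) = g * x * g⁻¹) (hmin : MinAct σ) (hσ : σ ^ q = 1)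

include hσg hmin in
/-- The case `g ∈ K`. -/
theorem isNilpotent_of_mem (K : Subgroup G) (hK : K ≠ ⊤) (hgK : g ∈ K) : Group.IsNilpotent K := by
  have hPK : ¬ P ≤ K := by
    intro h1
    apply hK
    rw [eq_top_iff, ← hsup]
    exact sup_le h1 (by rw [zpowers_le]; exact hgK)
  set H : Subgroup P := K.subgroupOf P with hH
  have hHt : H ≠ ⊤ := by
    intro h1
    exact hPK (subgroupOf_eq_top.1 h1)
  have hfix := hmin.fix H hHt (by
    intro x hx
    rw [hH, mem_subgroupOf] at hx ⊢
    rw [hσg]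
    exact mul_mem (mul_mem hgK hx) (inv_mem hgK))
  have hcomm : ∀ x ∈ P ⊓ K, Commute x g := by
    intro x hx
    have h1 := hfix ⟨x, hx.1⟩ hx.2
    have h2 := congrArg Subtype.val h1
    rw [hσg] at h2
    change g * x * g⁻¹ = x at h2
    rw [mul_inv_eq_iff_eq_mul] at h2
    exact h2.symm
  have hPnil : Group.IsNilpotent (P.subgroupOf K) :=
    (hP.comap_of_injective K.subtype K.subtype_injective).isNilpotent
  have hgnil : Group.IsNilpotent (zpowers (⟨g, hgK⟩ : K)) := isNilpotent_zpowers _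
  refine isNilpotent_of_sup hPnil hgnil ?_ ?_
  · rintro ⟨x, hxK⟩ hx _ ⟨k, rfl⟩
    have h1 : Commute x g := hcomm x ⟨hx, hxK⟩
    have h2 : Commute (⟨x, hxK⟩ : K) ⟨g, hgK⟩ := Subtype.ext h1
    exact h2.zpow_right k
  · rw [eq_top_iff]
    rintro ⟨x, hxK⟩ -
    obtain ⟨y, hy, k, rfl⟩ := exists_mul hpq P hPn hP g r hg hsup x
    have hyK : y ∈ K := by
      have h1 : y = y * g ^ k * (g ^ k)⁻¹ := by group
      rw [h1]
      exact mul_mem hxK (inv_mem (zpow_mem hgK k))
    have h1 : (⟨y * g ^ k, hxK⟩ : K) = ⟨y, hyK⟩ * (⟨g, hgK⟩ : K) ^ k := by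
      apply Subtype.ext
      simp
    rw [h1]
    exact mul_mem (mem_sup_left hy) (mem_sup_right (zpow_mem (mem_zpowers _) k))

include hσg hmin hσ in
theorem isNilpotent_of_ne_top (K : Subgroup G) (hK : K ≠ ⊤) : Group.IsNilpotent K := by
  by_cases hex : ∃ k ∈ K, ∃ y ∈ P, k = y * g
  · obtain ⟨k, hkK, y, hy, hky⟩ := hex
    -- a power of `k` of order a power of `q`
    obtain ⟨m, hm⟩ := IsPGroup.iff_card.1 hP
    have hcop : (p ^ m).Coprime (q ^ r) := Nat.Coprime.pow m r ((Nat.coprime_primes hp.out hq.out).2 hpq)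
    obtain ⟨n, hn0, hn1⟩ := Nat.chineseRemainder hcop 0 1
    set π : G →* G ⧸ P := QuotientGroup.mk' P with hπ
    have hπ1 : ∀ x, π x = 1 ↔ x ∈ P := fun x => QuotientGroup.eq_one_iff x
    have hπk : π k = π g := by rw [hky, map_mul, (hπ1 y).2 hy, one_mul]
    have hgn : g ^ n = g := by
      have h1 := (pow_eq_pow_iff_modEq (x := g) (n := n) (m := 1)).2 (by rw [hg]; exact hn1)
      rw [h1, pow_one]
    have hπkn : π (k ^ n) = π g := by rw [map_pow, hπk, ← map_pow, hgn]
    have hord : (k ^ n) ^ (q ^ r) = 1 := by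
      have h1 : p ^ m ∣ n := (Nat.modEq_zero_iff_dvd).1 hn0
      rw [← pow_mul]
      apply orderOf_dvd_iff_pow_eq_one.1
      refine (orderOf_dvd_natCard k).trans ?_
      rw [card_eq hpq P hPn hP g r hg hsup, hm]
      exact Nat.mul_dvd_mul_right h1 _
    have hq1 : IsPGroup q (zpowers (k ^ n)) := by
      apply IsPGroup.of_card (n := (orderOf (k ^ n)).factorization q)
      rw [Nat.card_zpowers]
      obtain ⟨s, -, hs⟩ := (Nat.dvd_prime_pow hq.out).1 (orderOf_dvd_of_pow_eq_one hord)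
      rw [hs, Nat.Prime.factorization_pow hq.out, Finsupp.single_eq_same]
    have hq2 : IsPGroup q (zpowers g) := by
      apply IsPGroup.of_card (n := r)
      rw [Nat.card_zpowers, hg]
    let S : Sylow q G := hq2.toSylow (not_dvd_index hpq P hPn hP g r hg hsup)
    have hS : (S : Subgroup G) = zpowers g := rfl
    obtain ⟨T, hT⟩ := hq1.exists_le_sylow
    obtain ⟨z, hz⟩ := MulAction.exists_smul_eq G T S
    have hzk : z * (k ^ n) * z⁻¹ ∈ zpowers g := by
      rw [← hS, ← hz]
      exact (Subgroup.mem_map_of_mem _ (hT (mem_zpowers (k ^ n))) :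
        (MulAut.conj z) (k ^ n) ∈ (T : Subgroup G).map (MulAut.conj z).toMonoidHom)
    have hzg : z * (k ^ n) * z⁻¹ = g := by
      obtain ⟨s, hs⟩ := hzk
      have hab : ∀ a b : G ⧸ P, a * b = b * a := by
        intro a b
        have hcl : ∀ a : G ⧸ P, ∃ i : ℤ, a = π g ^ i := by
          intro a
          obtain ⟨a, rfl⟩ := QuotientGroup.mk'_surjective P a
          obtain ⟨y, hy, i, rfl⟩ := exists_mul hpq P hPn hP g r hg hsup a
          exact ⟨i, by rw [map_mul, map_zpow, (hπ1 y).2 hy, one_mul]⟩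
        obtain ⟨i, rfl⟩ := hcl a
        obtain ⟨j, rfl⟩ := hcl b
        exact (Commute.refl (π g)).zpow_zpow i j
      have h1 : π (z * (k ^ n) * z⁻¹) = π g := by
        rw [map_mul, map_mul, map_inv, hπkn, hab (π z), mul_inv_cancel_right]
      have h2 : z * (k ^ n) * z⁻¹ * g⁻¹ ∈ P ⊓ zpowers g := by
        refine mem_inf.2 ⟨?_, ?_⟩
        · rw [← hπ1, map_mul, h1, map_inv, mul_inv_cancel]
        · rw [← hs]
          exact mul_mem ⟨s, rfl⟩ (inv_mem (mem_zpowers g))
      rw [disj hpq P hPn hP g r hg hsup, mem_bot] at h2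
      exact mul_inv_eq_one.1 h2
    -- conjugate `K`
    let K' : Subgroup G := K.map (MulAut.conj z).toMonoidHom
    have hgK' : g ∈ K' := ⟨k ^ n, pow_mem hkK n, hzg⟩
    have hK' : K' ≠ ⊤ := by
      intro h1
      apply hK
      rw [eq_top_iff]
      intro x _
      have h2 : (MulAut.conj z) x ∈ K' := by rw [h1]; trivial
      obtain ⟨w, hw, hwx⟩ := h2
      rw [← (MulAut.conj z).injective hwx]; exact hw
    have h1 := isNilpotent_of_mem hpq P hPn hP g r hg hsup σ hσg hmin K' hK' hgK'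
    exact Group.nilpotent_of_mulEquiv
      (K.equivMapOfInjective (MulAut.conj z).toMonoidHom (MulAut.conj z).injective).symm
  · -- `K ≤ P ⟨g ^ q⟩`
    push Not at hex
    have hgqc : ∀ x ∈ P, Commute x (g ^ q) := by
      intro x hx
      have hn : ∀ n : ℕ, ∀ x : P, (((σ ^ n) x : P) : G) = g ^ n * x * (g ^ n)⁻¹ := by
        intro n
        induction n with
        | zero => intro x; simp
        | succ n ih =>
          intro x
          rw [pow_succ', MulAut.mul_apply, hσg, ih, pow_succ']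
          group
      have h1 := hn q ⟨x, hx⟩
      rw [hσ, MulAut.one_apply] at h1
      change x = g ^ q * x * (g ^ q)⁻¹ at h1
      change x * g ^ q = g ^ q * x
      rw [eq_mul_inv_iff_mul_eq] at h1
      exact h1
    have hKle : ∀ x ∈ K, ∃ y ∈ P, ∃ k : ℤ, x = y * (g ^ q) ^ k := by
      intro x hx
      obtain ⟨y, hy, s, rfl⟩ := exists_mul hpq P hPn hP g r hg hsup x
      by_cases hqs : (q : ℤ) ∣ s
      · obtain ⟨k, rfl⟩ := hqs
        refine ⟨y, hy, k, ?_⟩
        rw [zpow_mul, zpow_natCast]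
      · exfalso
        have hcop : IsCoprime s ((q : ℤ) ^ r) := by
          apply IsCoprime.pow_right
          rw [isCoprime_comm]
          exact (Prime.coprime_iff_not_dvd (Nat.prime_iff_prime_int.1 hq.out)).2 hqs
        obtain ⟨u, v, huv⟩ := hcop
        -- `(y g ^ s) ^ u ∈ P g`
        have h1 : (y * g ^ s) ^ u * g⁻¹ ∈ P := by
          rw [← QuotientGroup.eq_one_iff]
          have h2 : ((QuotientGroup.mk' P) ((y * g ^ s) ^ u * g⁻¹)) = 1 := by
            rw [map_mul, map_zpow, map_mul, (show (QuotientGroup.mk' P) y = 1 from (QuotientGroup.eq_one_iff y).2 hy),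
              one_mul, ← map_zpow, ← map_mul, ← zpow_mul, ← zpow_sub_one]
            have h3 : s * u - 1 = - (v * (q : ℤ) ^ r) := by linear_combination huv
            have h4 : g ^ (s * u - 1) = 1 := by
              rw [h3, zpow_neg, mul_comm, zpow_mul]
              have h5 : g ^ ((q : ℤ) ^ r) = 1 := by
                have h6 : ((q : ℤ) ^ r) = ((q ^ r : ℕ) : ℤ) := by push_cast; rfl
                rw [h6, zpow_natCast, ← hg, pow_orderOf_eq_one]
              rw [h5, one_zpow, inv_one]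
            rw [h4, map_one]
          exact h2
        refine hex _ (zpow_mem hx u) _ h1 ?_
        group
    have hPnil : Group.IsNilpotent P := hP.isNilpotent
    let L : Subgroup G := P ⊔ zpowers (g ^ q)
    have hKL : K ≤ L := by
      intro x hx
      obtain ⟨y, hy, k, rfl⟩ := hKle x hx
      exact mul_mem (mem_sup_left hy) (mem_sup_right (zpow_mem (mem_zpowers _) k))
    have hLnil : Group.IsNilpotent L := by
      have h1 : Group.IsNilpotent (P.subgroupOf L) :=
        Group.nilpotent_of_mulEquiv (subgroupOfEquivOfLe (le_sup_left : P ≤ L)).symm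
      have hgL : g ^ q ∈ L := mem_sup_right (mem_zpowers _)
      have h2 : Group.IsNilpotent (zpowers (⟨g ^ q, hgL⟩ : L)) := isNilpotent_zpowers _
      refine isNilpotent_of_sup h1 h2 ?_ ?_
      · rintro ⟨x, hxL⟩ hx _ ⟨k, rfl⟩
        have h3 : Commute (⟨x, hxL⟩ : L) ⟨g ^ q, hgL⟩ := Subtype.ext (hgqc x hx)
        exact h3.zpow_right k
      · rw [eq_top_iff]
        rintro ⟨x, hxL⟩ -
        have hx' := hxL
        rw [mem_sup_of_normal_left] at hx'
        obtain ⟨y, hy, _, ⟨k, rfl⟩, rfl⟩ := hx'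
        have h4 : (⟨y * (g ^ q) ^ k, hxL⟩ : L) = ⟨y, mem_sup_left hy⟩ * (⟨g ^ q, hgL⟩ : L) ^ k := by
          apply Subtype.ext
          simp
        have h5 : (⟨(fun x => x * (fun x => (g ^ q) ^ x) k) y, hxL⟩ : L) =
          ⟨y, mem_sup_left hy⟩ * (⟨g ^ q, hgL⟩ : L) ^ k := h4
        rw [h5]
        exact mul_mem (mem_sup_left hy) (mem_sup_right (zpow_mem (mem_zpowers _) k))
    have h3 : Group.IsNilpotent (K.subgroupOf L) := inferInstance
    exact Group.nilpotent_of_mulEquiv (subgroupOfEquivOfLe hKL)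

include hσg hmin hσ in
theorem minimal_of_data : ¬ Cfsg.HasNormalPComplement p G ∧
    ∀ K : Subgroup G, K ≠ ⊤ → Cfsg.HasNormalPComplement p K := by
  constructor
  · intro h
    obtain ⟨N, hN, hNc, hNq⟩ := Transfer.NormalPComplement.hasNormalPComplement_iff.1 h
    have hgN : g ∈ N := by
      rw [← QuotientGroup.eq_one_iff]
      obtain ⟨k, hk⟩ := hNq (g : G ⧸ N)
      have h1 : (g : G ⧸ N) ^ q ^ r = 1 := by
        rw [← hg, ← QuotientGroup.mk_pow, pow_orderOf_eq_one, QuotientGroup.mk_one]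
      rw [← orderOf_eq_one_iff]
      apply Nat.eq_one_of_dvd_coprimes (Nat.Coprime.pow k r ((Nat.coprime_primes hp.out hq.out).2 hpq))
        (orderOf_dvd_of_pow_eq_one hk) (orderOf_dvd_of_pow_eq_one h1)
    have hPN : P ⊓ N = ⊥ := by
      apply Disjoint.eq_bot
      apply Subgroup.disjoint_of_coprime_natCard
      obtain ⟨n, hn⟩ := IsPGroup.iff_card.1 hP
      rw [hn]
      exact Nat.Coprime.pow_left n hNc.symm
    apply hmin.ne_one
    ext x
    rw [hσg, MulAut.one_apply]
    have h1 : g * x * g⁻¹ * (x : G)⁻¹ ∈ P ⊓ N := by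
      refine mem_inf.2 ⟨?_, ?_⟩
      · exact mul_mem (hPn.conj_mem x x.2 g) (inv_mem x.2)
      · have h2 : g * x * g⁻¹ * (x : G)⁻¹ = g * (x * g⁻¹ * (x : G)⁻¹) := by group
        rw [h2]
        exact mul_mem hgN (hN.conj_mem _ (inv_mem hgN) x)
    rw [hPN, mem_bot] at h1
    exact mul_inv_eq_one.1 h1
  · intro K hK
    exact Solvable.FpfThompson.hasNormalPComplement_of_isNilpotent
      (isNilpotent_of_ne_top hpq P hPn hP g r hg hsup σ hσg hmin hσ K hK) p

end

end Cfsg.Agent.H583.SchmidtSemi
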