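/-
The semidirect product of the `p`-part with a cyclic group of order `q ^ r`, and its homomorphisms onto the minimal
non-`p`-nilpotent groups.
-/
import Mathlib
import Cfsg.Agent.H583.SchmidtSemi
import Cfsg.Agent.H583.SchmidtCoord

set_option autoImplicit false

namespace Cfsg.Agent.H583.SchmidtTop

open Subgroup
open scoped commutatorElement
open Cfsg.Agent.H583.MinAction Cfsg.Agent.H583.SchmidtAct Cfsg.Agent.H583.SchmidtSemi Cfsg.Agent.H583.SchmidtCoord

universe u

/-- Homomorphisms from the cyclic group of order `n`. -/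
theorem exists_cyc_hom {G : Type*} [Group G] (n : ℕ) [NeZero n] (s : G) (hs : s ^ n = 1) :
    ∃ φ : Multiplicative (ZMod n) →* G, φ (Multiplicative.ofAdd 1) = s := by
  have hmod : ∀ k : ℕ, s ^ (k % n) = s ^ k := by
    intro k
    conv_rhs => rw [← Nat.div_add_mod k n, pow_add, pow_mul, hs, one_pow, one_mul]
  refine ⟨MonoidHom.mk' (fun x => s ^ (x.toAdd.val)) ?_, ?_⟩
  · intro a b
    rw [← pow_add, toAdd_mul, ZMod.val_add, hmod]
  · rw [MonoidHom.mk'_apply, toAdd_ofAdd]
    have h1 := hmod 1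
    rw [pow_one] at h1
    rw [← h1]
    congr 1
    rw [ZMod.val_one_eq_one_mod]

theorem exists_pow {n : ℕ} [NeZero n] (c : Multiplicative (ZMod n)) :
    ∃ k : ℕ, c = (Multiplicative.ofAdd (1 : ZMod n)) ^ k := by
  refine ⟨c.toAdd.val, ?_⟩
  rw [← ofAdd_nsmul, nsmul_eq_mul, mul_one, ZMod.natCast_zmod_val]
  rfl

theorem orderOf_gen (n : ℕ) [NeZero n] : orderOf (Multiplicative.ofAdd (1 : ZMod n)) = n := by
  rw [orderOf_ofAdd_eq_addOrderOf, ZMod.addOrderOf_one]

theorem minAct_congr {P P' : Type*} [Group P] [Group P'] (e : P ≃* P') {σ : MulAut P} {σ' : MulAut P'}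
    (hc : ∀ x, σ' (e x) = e (σ x)) (h : MinAct σ) : MinAct σ' := by
  refine ⟨?_, ?_⟩
  · intro h1
    apply h.ne_one
    ext x
    apply e.injective
    rw [← hc, h1]
    rfl
  · intro H hH hinv x hx
    obtain ⟨x, rfl⟩ := e.surjective x
    rw [hc]
    have h1 := h.fix (H.comap e.toMonoidHom) (by
      intro h1
      apply hH
      rw [eq_top_iff]
      intro y _
      obtain ⟨y, rfl⟩ := e.surjective y
      have : y ∈ H.comap e.toMonoidHom := by rw [h1]; trivial
      exact this) (by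
      intro y hy
      have h2 := hinv _ hy
      change σ' (e y) ∈ H at h2
      rw [hc] at h2
      exact h2) x hx
    rw [h1]

/-- External version of `minimal_of_data`. -/
theorem minimal_of_hom {P₀ G : Type*} [Group P₀] [Group G] [Finite G] {p q : ℕ} [hp : Fact p.Prime]
    [hq : Fact q.Prime] (hpq : p ≠ q) (hP₀ : IsPGroup p P₀) {σ₀ : MulAut P₀} (hmin : MinAct σ₀) (hσ₀ : σ₀ ^ q = 1)
    (ι : P₀ →* G) (hι : Function.Injective ι) (g : G) (r : ℕ) (hg : orderOf g = q ^ r)
    (hsup : ι.range ⊔ zpowers g = ⊤) (hc : ∀ x, ι (σ₀ x) = g * ι x * g⁻¹) :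
    ¬ Cfsg.HasNormalPComplement p G ∧ ∀ K : Subgroup G, K ≠ ⊤ → Cfsg.HasNormalPComplement p K := by
  have hn : ι.range.Normal := by
    rw [← normalizer_eq_top_iff, eq_top_iff, ← hsup]
    apply sup_le
    · exact le_normalizer
    · rw [zpowers_le, mem_normalizer_iff]
      intro y
      constructor
      · rintro ⟨x, rfl⟩
        exact ⟨σ₀ x, hc x⟩
      · rintro ⟨x, hx⟩
        obtain ⟨x, rfl⟩ := σ₀.surjective x
        rw [hc] at hx
        refine ⟨x, ?_⟩
        exact mul_left_cancel (mul_right_cancel hx)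
  let e : P₀ ≃* ι.range := MonoidHom.ofInjective hι
  have he : ∀ x, ((e x : ι.range) : G) = ι x := fun x => rfl
  let σ : MulAut ι.range := MulAut.conjNormal g
  have hσ : ∀ x : ι.range, ((σ x : ι.range) : G) = g * x * g⁻¹ := fun x => MulAut.conjNormal_apply g x
  have hσe : ∀ x, σ (e x) = e (σ₀ x) := by
    intro x
    apply Subtype.ext
    rw [hσ, he, he, hc]
  have hσen : ∀ n : ℕ, ∀ x, (σ ^ n) (e x) = e ((σ₀ ^ n) x) := by
    intro n
    induction n with
    | zero => intro x; rfl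
    | succ n ih =>
      intro x
      rw [pow_succ', MulAut.mul_apply, ih, hσe, pow_succ', MulAut.mul_apply]
  refine minimal_of_data hpq ι.range hn (hP₀.of_equiv e) g r hg hsup σ hσ (minAct_congr e hσe hmin) ?_
  ext x : 1
  obtain ⟨x, rfl⟩ := e.surjective x
  rw [hσen, hσ₀]
  rfl

/-- The group `P₀ ⋊ C_{q ^ r}` and its quotients. -/
theorem exists_group {P₀ : Type} [Group P₀] [Finite P₀] {p q : ℕ} [hp : Fact p.Prime] [hq : Fact q.Prime]
    (hpq : p ≠ q) (hP₀ : IsPGroup p P₀) {σ₀ : MulAut P₀} (hmin : MinAct σ₀) (hσ₀ : σ₀ ^ q = 1) (r : ℕ)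
    (hr : 1 ≤ r) :
    ∃ (G₀ : Type u) (_ : Group G₀) (_ : Finite G₀),
      (¬ Cfsg.HasNormalPComplement p G₀ ∧ ∀ K : Subgroup G₀, K ≠ ⊤ → Cfsg.HasNormalPComplement p K) ∧
      Nat.card G₀ = Nat.card P₀ * q ^ r ∧
      ∀ (X : Type u) [Group X] [Finite X] (P : Subgroup X) (g : X), P ⊓ zpowers g = ⊥ → P ⊔ zpowers g = ⊤ →
        orderOf g = q ^ r → (∃ h : P₀ →* X, h.range = P ∧ (∀ x, h (σ₀ x) = g * h x * g⁻¹) ∧
          ∀ x, h x = 1 → σ₀ x = x) →
        ∃ φ : G₀ →* X, Function.Surjective φ ∧ φ.ker ≤ center G₀ := by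
  have : NeZero (q ^ r) := ⟨pow_ne_zero r hq.out.ne_zero⟩
  set n := q ^ r with hn
  obtain ⟨φ, hφ⟩ := exists_cyc_hom n σ₀ (by
    obtain ⟨s, rfl⟩ : ∃ s, r = s + 1 := ⟨r - 1, by omega⟩
    rw [hn, pow_succ', pow_mul, hσ₀, one_pow])
  set c : Multiplicative (ZMod n) := Multiplicative.ofAdd 1 with hc
  have hφk : ∀ k : ℕ, φ (c ^ k) = σ₀ ^ k := by
    intro k
    rw [map_pow, hφ]
  let S := P₀ ⋊[φ] Multiplicative (ZMod n)
  have hfin : Finite S := Finite.of_equiv _ (SemidirectProduct.equivProd (φ := φ)).symm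
  let E : ULift.{u} S ≃* S := MulEquiv.ulift
  let ι : P₀ →* ULift.{u} S := E.symm.toMonoidHom.comp SemidirectProduct.inl
  let κ : Multiplicative (ZMod n) →* ULift.{u} S := E.symm.toMonoidHom.comp SemidirectProduct.inr
  have hι : Function.Injective ι := E.symm.injective.comp SemidirectProduct.inl_injective
  have hκ : Function.Injective κ := E.symm.injective.comp SemidirectProduct.inr_injective
  have hdec : ∀ y : ULift.{u} S, ∃ x : P₀, ∃ k : ℕ, y = ι x * κ (c ^ k) := by
    intro y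
    obtain ⟨y, rfl⟩ := E.symm.surjective y
    obtain ⟨k, hk⟩ := exists_pow y.right
    refine ⟨y.left, k, ?_⟩
    change E.symm y = E.symm (SemidirectProduct.inl y.left) * E.symm (SemidirectProduct.inr (c ^ k))
    rw [← map_mul, ← hk, SemidirectProduct.inl_left_mul_inr_right]
  have hconj : ∀ x, ι (σ₀ x) = κ c * ι x * (κ c)⁻¹ := by
    intro x
    change E.symm (SemidirectProduct.inl (σ₀ x)) =
      E.symm (SemidirectProduct.inr c) * E.symm (SemidirectProduct.inl x) * (E.symm (SemidirectProduct.inr c))⁻¹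
    rw [← map_mul, ← map_inv, ← map_mul, ← map_inv, ← SemidirectProduct.inl_aut, hφ]
  have hord : orderOf (κ c) = n := by
    rw [orderOf_injective κ hκ, hc, orderOf_gen]
  have hsup : ι.range ⊔ zpowers (κ c) = ⊤ := by
    rw [eq_top_iff]
    intro y _
    obtain ⟨x, k, rfl⟩ := hdec y
    rw [map_pow]
    exact mul_mem (mem_sup_left ⟨x, rfl⟩) (mem_sup_right (pow_mem (mem_zpowers _) k))
  refine ⟨ULift.{u} S, inferInstance, inferInstance,
    minimal_of_hom hpq hP₀ hmin hσ₀ ι hι (κ c) r (by rw [hord]) hsup hconj, ?_, ?_⟩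
  · rw [Nat.card_congr E.toEquiv, Nat.card_congr SemidirectProduct.equivProd, Nat.card_prod]
    congr 1
    change Nat.card (ZMod n) = n
    rw [Nat.card_zmod]
  · intro X _ _ P g hdisj hsupX hgord hex
    obtain ⟨h, hrange, hhc, hker⟩ := hex
    obtain ⟨ψ, hψ⟩ := exists_cyc_hom n g (by rw [← hgord, pow_orderOf_eq_one])
    have hψk : ∀ k : ℕ, ψ (c ^ k) = g ^ k := by
      intro k
      rw [map_pow, hψ]
    have hhk : ∀ k : ℕ, ∀ x, h ((σ₀ ^ k) x) = g ^ k * h x * (g ^ k)⁻¹ := by
      intro k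
      induction k with
      | zero => intro x; simp
      | succ k ih =>
        intro x
        rw [pow_succ', MulAut.mul_apply, hhc, ih, pow_succ']
        group
    let Φ : S →* X := SemidirectProduct.lift h ψ (by
      intro d
      obtain ⟨k, rfl⟩ := exists_pow d
      ext x
      change h ((φ (c ^ k)) x) = ψ (c ^ k) * h x * (ψ (c ^ k))⁻¹
      rw [hφk, hhk, hψk])
    have hΦ : ∀ y : S, Φ y = h y.left * ψ y.right := fun y => rfl
    have hΦι : ∀ x k, Φ (E (ι x * κ (c ^ k))) = h x * g ^ k := by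
      intro x k
      have h1 : E (ι x * κ (c ^ k)) = SemidirectProduct.inl x * SemidirectProduct.inr (c ^ k) := rfl
      rw [h1, map_mul, SemidirectProduct.lift_inl, SemidirectProduct.lift_inr, hψk]
    refine ⟨Φ.comp E.toMonoidHom, ?_, ?_⟩
    · rw [← MonoidHom.range_eq_top, eq_top_iff, ← hsupX, ← hrange]
      apply sup_le
      · rintro _ ⟨x, rfl⟩
        refine ⟨ι x * κ (c ^ 0), ?_⟩
        change Φ (E (ι x * κ (c ^ 0))) = h x
        rw [hΦι, pow_zero, mul_one]
      · rw [zpowers_le]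
        refine ⟨ι 1 * κ (c ^ 1), ?_⟩
        change Φ (E (ι 1 * κ (c ^ 1))) = g
        rw [hΦι, map_one, one_mul, pow_one]
    · intro y hy
      obtain ⟨x, k, rfl⟩ := hdec y
      have h1 : h x * g ^ k = 1 := by
        rw [← hΦι]; exact hy
      have h2 : h x ∈ P ⊓ zpowers g := by
        refine mem_inf.2 ⟨?_, ?_⟩
        · rw [← hrange]; exact ⟨x, rfl⟩
        · rw [eq_inv_of_mul_eq_one_left h1]
          exact inv_mem (pow_mem (mem_zpowers g) k)
      rw [hdisj, mem_bot] at h2
      rw [h2, one_mul] at h1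
      have h3 : c ^ k = 1 := by
        apply orderOf_dvd_iff_pow_eq_one.1
        rw [hc, orderOf_gen, ← hgord]
        exact orderOf_dvd_of_pow_eq_one h1
      have hσx : σ₀ x = x := hker x h2
      have hσkx : ∀ l : ℕ, (σ₀ ^ l) x = x := by
        intro l
        induction l with
        | zero => rfl
        | succ l ih => rw [pow_succ', MulAut.mul_apply, ih, hσx]
      rw [h3, map_one, mul_one, mem_center_iff]
      intro y
      obtain ⟨z, l, rfl⟩ := hdec y
      have hκl : κ (c ^ l) * ι x = ι x * κ (c ^ l) := by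
        have hcl : ∀ l : ℕ, ι ((σ₀ ^ l) x) = κ (c ^ l) * ι x * (κ (c ^ l))⁻¹ := by
          intro l
          induction l with
          | zero => simp
          | succ l ih =>
            rw [pow_succ', MulAut.mul_apply, hconj, ih, pow_succ', map_mul, mul_inv_rev]
            simp only [mul_assoc]
        have h4 := hcl l
        rw [hσkx] at h4
        rw [eq_mul_inv_iff_mul_eq] at h4
        exact h4.symm
      have hzx : ι z * ι x = ι x * ι z := by
        rw [← map_mul, ← map_mul, mem_center_iff.1 (mem_center_of_fix hpq hP₀ hmin hσ₀ hσx) z]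
      rw [mul_assoc, hκl, ← mul_assoc, hzx, mul_assoc]

end Cfsg.Agent.H583.SchmidtTop
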